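import Cfsg.Agent.Lib.Fusion.CentralQuotient
import Cfsg.Agent.Lib.Fusion.Invariant
import Cfsg.Agent.Lib.Fusion.Puig
import Cfsg.Agent.Lib.Fusion.AlperinStrong

/-!
Lifting a normal subsystem through a central extension of exponent `p`: the maps lifting maps of
the subsystem, and congruence classes of functions modulo inner homomorphisms.
-/

set_option autoImplicit false

namespace Cfsg.Agent.Fusion.CentralLift

open Cfsg.FusionSystem (centralizerIn normalizerIn imageAlong preimageAlong)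

universe u v

variable {Ω : Type u} [Group Ω] {S : Subgroup Ω} {Ω' : Type v} [Group Ω'] {S' T' : Subgroup Ω'}

/-- The data: a central surjective morphism whose kernel embeds into `ZMod p`, and a normal
subsystem of the image. -/
structure Ctx (F : FusionSystem S) (F' : FusionSystem S') (θ : S →* Ω') (E' : FusionSystem T')
    (p : ℕ) (ι : Ω → ZMod p) : Prop where
  hS : IsPGroup p S
  hF : F.IsSaturated p
  mor : F.IsSurjectiveMorphism F' θ
  hZ : F.IsCentral (kerIn θ)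
  hE : E'.IsNormalIn F' p
  ι_mul : ∀ x ∈ kerIn θ, ∀ y ∈ kerIn θ, ι (x * y) = ι x + ι y
  ι_eq_zero : ∀ x ∈ kerIn θ, ι x = 0 → x = 1

variable {F : FusionSystem S} {F' : FusionSystem S'} {θ : S →* Ω'} {E' : FusionSystem T'}
  {p : ℕ} {ι : Ω → ZMod p} {P Q R : Subgroup Ω} {f g h : Ω → Ω} {P' : Subgroup Ω'}

/-- The preimage of `T'`. -/
abbrev TT (θ : S →* Ω') (T' : Subgroup Ω') : Subgroup Ω := preimageAlong θ T'

/-- A map of `F` inducing a map of `E'`. -/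
def LMap (F : FusionSystem S) (θ : S →* Ω') (E' : FusionSystem T') (P : Subgroup Ω)
    (g : Ω → Ω) : Prop :=
  MapTo F P g ∧ P ≤ TT θ T' ∧
    ∃ g' : Ω' → Ω', MapTo E' (imageAlong θ P) g' ∧ ∀ x ∈ P, g' (th θ x) = th θ (g x)

/-- The subgroups containing the kernel with centric image. -/
def CP (θ : S →* Ω') (E' : FusionSystem T') (P : Subgroup Ω) : Prop :=
  kerIn θ ≤ P ∧ P ≤ TT θ T' ∧ E'.IsCentric (imageAlong θ P)

namespace Ctx

theorem sub' (C : Ctx F F' θ E' p ι) : E'.IsSubsystemOf F' := C.hE.1.2.2.1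

theorem T'_le (C : Ctx F F' θ E' p ι) : T' ≤ θ.range := by
  rw [C.mor.2.1]; exact C.hE.1.2.2.2.1.1

theorem scT (C : Ctx F F' θ E' p ι) : F.StronglyClosed (TT θ T') :=
  stronglyClosed_preimage C.mor C.hE.1.2.2.2.1

theorem T_le (_C : Ctx F F' θ E' p ι) : TT θ T' ≤ S := preimageAlong_le

theorem Z_le_T (_C : Ctx F F' θ E' p ι) : kerIn θ ≤ TT θ T' := kerIn_le_preimageAlong

theorem fix (C : Ctx F F' θ E' p ι) (hf : MapTo F P f) {z : Ω} (hz : z ∈ kerIn θ) (hzP : z ∈ P) :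
    f z = z := IsCentral.apply_eq C.hZ hf hz hzP

theorem comm (C : Ctx F F' θ E' p ι) {z s : Ω} (hz : z ∈ kerIn θ) (hs : s ∈ S) :
    s * z = z * s := by
  have h := C.fix (mapTo_cj (F := F) le_rfl hs) hz (kerIn_le hz)
  rw [cj_apply, mul_inv_eq_iff_eq_mul] at h
  exact h

theorem finite_T' [Finite S] (C : Ctx F F' θ E' p ι) : Finite T' := by
  haveI : Finite θ.range := Finite.of_surjective θ.rangeRestrict θ.rangeRestrict_surjective
  exact Finite.of_injective (Subgroup.inclusion C.T'_le) (Subgroup.inclusion_injective _)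

theorem ι_one (C : Ctx F F' θ E' p ι) : ι 1 = 0 := by
  have h := C.ι_mul 1 (Subgroup.one_mem _) 1 (Subgroup.one_mem _)
  rw [mul_one] at h
  exact left_eq_add.mp h

theorem ι_inv (C : Ctx F F' θ E' p ι) {x : Ω} (hx : x ∈ kerIn θ) : ι x⁻¹ = -ι x := by
  have h := C.ι_mul x⁻¹ (Subgroup.inv_mem _ hx) x hx
  rw [inv_mul_cancel, C.ι_one] at h
  exact eq_neg_of_add_eq_zero_left h.symm

theorem conj_ker (C : Ctx F F' θ E' p ι) {z s : Ω} (hz : z ∈ kerIn θ) (hs : s ∈ S) :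
    s * z * s⁻¹ = z := by
  rw [C.comm hz hs, mul_inv_cancel_right]

theorem img_ker [Finite S] (C : Ctx F F' θ E' p ι) (hf : MapTo F P f) (hZ : kerIn θ ≤ P) :
    kerIn θ ≤ img f P := fun z hz => C.fix hf hz (hZ hz) ▸ mem_img_of_mem (hZ hz)

end Ctx

theorem LMap.mapTo (hg : LMap F θ E' P g) : MapTo F P g := hg.1

theorem LMap.mem (C : Ctx F F' θ E' p ι) (hg : LMap F θ E' P g) {x : Ω} (hx : x ∈ P) :
    g x ∈ TT θ T' := StronglyClosed.map_mem C.scT hg.1 hx (hg.2.1 hx)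

theorem LMap.congr (hg : LMap F θ E' P g) (hfg : ∀ x ∈ P, f x = g x) : LMap F θ E' P f := by
  obtain ⟨g', hg', hgg⟩ := hg.2.2
  exact ⟨hg.1.congr' hfg, hg.2.1, g', hg', fun x hx => by rw [hgg x hx, hfg x hx]⟩

theorem LMap.restrict (hg : LMap F θ E' P g) (hQ : Q ≤ P) : LMap F θ E' Q g := by
  obtain ⟨g', hg', hgg⟩ := hg.2.2
  refine ⟨hg.1.restrict hQ, hQ.trans hg.2.1, g', hg'.restrict ?_, fun x hx => hgg x (hQ hx)⟩
  exact Subgroup.map_mono (Subgroup.comap_mono hQ)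

theorem LMap.comp (hg : LMap F θ E' P g) (hh : LMap F θ E' Q h) (hgQ : ∀ x ∈ P, g x ∈ Q) :
    LMap F θ E' P fun x => h (g x) := by
  obtain ⟨g', hg', hgg⟩ := hg.2.2
  obtain ⟨h', hh', hhh⟩ := hh.2.2
  refine ⟨hg.1.comp hh.1 hgQ, hg.2.1, fun y => h' (g' y), hg'.comp hh' ?_, fun x hx => ?_⟩
  · intro y hy
    obtain ⟨x, hx, rfl⟩ := (mem_imageAlong hg.1.le).mp hy
    rw [hgg x hx]
    exact th_mem_imageAlong hh.1.le (hgQ x hx)
  · show h' (g' (th θ x)) = _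
    rw [hgg x hx, hhh _ (hgQ x hx)]

theorem LMap.id (hP : P ≤ TT θ T') : LMap F θ E' P fun x => x :=
  ⟨mapTo_id F (hP.trans preimageAlong_le), hP, fun y => y, mapTo_id E' (by
    intro y hy
    obtain ⟨x, hx, rfl⟩ := (mem_imageAlong (hP.trans preimageAlong_le)).mp hy
    exact (mem_preimageAlong.mp (hP hx)).2), fun _ _ => rfl⟩

theorem LMap.cj_mem (hP : P ≤ TT θ T') {t : Ω} (ht : t ∈ TT θ T') : LMap F θ E' P (cj t) := by
  obtain ⟨htS, ht'⟩ := mem_preimageAlong.mp ht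
  refine ⟨mapTo_cj (hP.trans preimageAlong_le) htS, hP, cj (th θ t), mapTo_cj ?_ ht', fun x hx => ?_⟩
  · intro y hy
    obtain ⟨x, hx, rfl⟩ := (mem_imageAlong (hP.trans preimageAlong_le)).mp hy
    exact (mem_preimageAlong.mp (hP hx)).2
  · rw [cj_apply, cj_apply, th_conj θ htS (preimageAlong_le (hP hx))]

theorem LMap.img_le (C : Ctx F F' θ E' p ι) (hg : LMap F θ E' P g) :
    img g P ≤ TT θ T' := img_le_of_forall fun _ hx => hg.mem C hx

theorem LMap.exists_inverse (C : Ctx F F' θ E' p ι) (hg : LMap F θ E' P g) :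
    ∃ k, LMap F θ E' (img g P) k ∧ (∀ x ∈ P, k (g x) = x) ∧
      (∀ y ∈ img g P, g (k y) = y) ∧ img k (img g P) = P := by
  obtain ⟨g', hg', hgg⟩ := hg.2.2
  obtain ⟨k, hk, hkg, hgk, hki⟩ := hg.1.exists_iso_inverse
  obtain ⟨k', hk', hkg', -, -⟩ := hg'.exists_iso_inverse
  rw [img_induced hg.1 hg' hgg] at hk'
  have himg : img k (img g P) = P := hki P le_rfl
  refine ⟨k, ⟨hk, hg.img_le C, k', hk', fun y hy => ?_⟩, hkg, hgk, himg⟩
  obtain ⟨x, hx, rfl⟩ := (hg.1.mem_img_iff le_rfl).mp hy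
  rw [hkg x hx, ← hgg x hx, hkg' _ (th_mem_imageAlong hg.1.le hx)]

/-- Lifts of maps of `E'`. -/
theorem exists_lift (C : Ctx F F' θ E' p ι) {g' : Ω' → Ω'} (hg' : MapTo E' P' g') :
    ∃ g, LMap F θ E' (preimageAlong θ P') g ∧
      ∀ x ∈ preimageAlong θ P', g' (th θ x) = th θ (g x) := by
  obtain ⟨hle, g, hg, hgg⟩ :=
    IsSurjectiveMorphism.exists_lift C.mor (IsSubsystemOf.mapTo C.sub' hg')
  exact ⟨g, ⟨hg, fun x hx => mem_preimageAlong.mpr
    ⟨(mem_preimageAlong.mp hx).1, hg'.le (mem_preimageAlong.mp hx).2⟩, g',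
    by rwa [imageAlong_preimageAlong hle], hgg⟩, hgg⟩

theorem exists_lift_on (C : Ctx F F' θ E' p ι) (hP : P ≤ S) (hZ : kerIn θ ≤ P) {g' : Ω' → Ω'}
    (hg' : MapTo E' (imageAlong θ P) g') :
    ∃ g, LMap F θ E' P g ∧ ∀ x ∈ P, g' (th θ x) = th θ (g x) := by
  obtain ⟨g, hg, hgg⟩ := exists_lift C hg'
  rw [preimageAlong_imageAlong hP hZ] at hg hgg
  exact ⟨g, hg, hgg⟩

section CPlemmas

theorem CP.le (hP : CP θ E' P) : P ≤ TT θ T' := hP.2.1

theorem CP.ker_le (hP : CP θ E' P) : kerIn θ ≤ P := hP.1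

theorem CP.le_S (hP : CP θ E' P) : P ≤ S := hP.2.1.trans preimageAlong_le

theorem CP.mono (hP : CP θ E' P) (hPR : P ≤ R) (hR : R ≤ TT θ T') : CP θ E' R := by
  refine ⟨hP.1.trans hPR, hR, isCentric_mono hP.2.2 ?_ ?_⟩
  · exact Subgroup.map_mono (Subgroup.comap_mono hPR)
  · intro y hy
    obtain ⟨x, hx, rfl⟩ := (mem_imageAlong (hR.trans preimageAlong_le)).mp hy
    exact (mem_preimageAlong.mp (hR hx)).2

theorem CP.img [Finite S] (C : Ctx F F' θ E' p ι) (hP : CP θ E' P) (hg : LMap F θ E' P g) :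
    CP θ E' (img g P) := by
  obtain ⟨g', hg', hgg⟩ := hg.2.2
  refine ⟨C.img_ker hg.1 hP.1, hg.img_le C, ?_⟩
  rw [← img_induced hg.1 hg' hgg]
  exact isCentric_of_isConj hP.2.2 hg'.isConj

/-- An element centralizing `P` modulo the kernel lies in `P`. -/
theorem CP.mem_of_centralizes (hP : CP θ E' P) {u : Ω}
    (hu : u ∈ TT θ T') (hc : ∀ x ∈ P, x⁻¹ * (u * x * u⁻¹) ∈ kerIn θ) : u ∈ P := by
  obtain ⟨huS, hu'⟩ := mem_preimageAlong.mp hu
  have h1 : th θ u ∈ imageAlong θ P := centralizerIn_le_of_isCentric hP.2.2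
    (mem_centralizerIn.mpr ⟨hu', fun y hy => by
      obtain ⟨x, hx, rfl⟩ := (mem_imageAlong hP.le_S).mp hy
      have hxS := hP.le_S hx
      have hc' : u * x * u⁻¹ ∈ S := S.mul_mem (S.mul_mem huS hxS) (S.inv_mem huS)
      have h2 := (th_eq_iff hxS hc').mpr (hc x hx)
      rw [th_conj θ huS hxS, eq_mul_inv_iff_mul_eq] at h2
      exact h2⟩)
  rw [← preimageAlong_imageAlong hP.le_S hP.1]
  exact mem_preimageAlong.mpr ⟨huS, h1⟩

theorem cp_top [Finite S] (C : Ctx F F' θ E' p ι) : CP θ E' (TT θ T') :=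
  haveI := C.finite_T'
  ⟨C.Z_le_T, le_rfl, by rw [imageAlong_preimageAlong C.T'_le]; exact isCentric_top⟩

end CPlemmas

/-! ### Classes of functions modulo inner homomorphisms -/

/-- The functions coinciding on `P` with the homomorphism attached to an element of `P`. -/
def IsInnerFun (θ : S →* Ω') (ι : Ω → ZMod p) (P : Subgroup Ω) (v : Ω → ZMod p) : Prop :=
  ∃ u ∈ P, (∀ x ∈ P, x⁻¹ * (u * x * u⁻¹) ∈ kerIn θ) ∧ ∀ x ∈ P, v x = ι (x⁻¹ * (u * x * u⁻¹))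

/-- The subgroup generated by the inner functions. -/
def NP (θ : S →* Ω') (ι : Ω → ZMod p) (P : Subgroup Ω) : AddSubgroup (Ω → ZMod p) :=
  AddSubgroup.closure {v | IsInnerFun θ ι P v}

/-- Functions on `P` modulo inner homomorphisms. -/
abbrev Hq (θ : S →* Ω') (ι : Ω → ZMod p) (P : Subgroup Ω) :=
  (Ω → ZMod p) ⧸ NP θ ι P

/-- The class of a function. -/
def cls (θ : S →* Ω') (ι : Ω → ZMod p) (P : Subgroup Ω) : (Ω → ZMod p) →+ Hq θ ι P :=
  QuotientAddGroup.mk' _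

theorem nsmul_p_eq_zero (a : Hq θ ι P) : p • a = 0 := by
  obtain ⟨v, rfl⟩ := QuotientAddGroup.mk_surjective a
  rw [← QuotientAddGroup.mk_nsmul]
  have : p • v = 0 := funext fun x => by
    rw [Pi.smul_apply, nsmul_eq_mul, ZMod.natCast_self, zero_mul]; rfl
  rw [this]; rfl

theorem mem_NP_iff (C : Ctx F F' θ E' p ι) (hP : P ≤ S) {v : Ω → ZMod p} :
    v ∈ NP θ ι P ↔ IsInnerFun θ ι P v := by
  refine ⟨fun hv => ?_, fun hv => AddSubgroup.subset_closure hv⟩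
  unfold NP at hv
  induction hv using AddSubgroup.closure_induction with
  | mem v hv => exact hv
  | zero =>
    refine ⟨1, P.one_mem, fun x _ => by simp, fun x _ => ?_⟩
    simp [C.ι_one]
  | add v w _ _ hv hw =>
    obtain ⟨a, ha, haz, hav⟩ := hv
    obtain ⟨b, hb, hbz, hbw⟩ := hw
    have hkey : ∀ x ∈ P, x⁻¹ * (a * b * x * (a * b)⁻¹) =
        x⁻¹ * (a * x * a⁻¹) * (x⁻¹ * (b * x * b⁻¹)) := fun x hx => by
      set w := x⁻¹ * (b * x * b⁻¹) with hw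
      have e : b * x * b⁻¹ = x * w := by rw [hw]; group
      rw [show a * b * x * (a * b)⁻¹ = a * (b * x * b⁻¹) * a⁻¹ by group, e,
        show a * (x * w) * a⁻¹ = a * x * a⁻¹ * (a * w * a⁻¹) by group,
        C.conj_ker (hbz x hx) (hP ha), hw]
      group
    refine ⟨a * b, P.mul_mem ha hb, fun x hx => ?_, fun x hx => ?_⟩
    · rw [hkey x hx]; exact Subgroup.mul_mem _ (haz x hx) (hbz x hx)
    · rw [hkey x hx, C.ι_mul _ (haz x hx) _ (hbz x hx), Pi.add_apply, hav x hx, hbw x hx]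
  | neg v _ hv =>
    obtain ⟨a, ha, haz, hav⟩ := hv
    have hkey : ∀ x ∈ P, x⁻¹ * (a⁻¹ * x * a⁻¹⁻¹) = (x⁻¹ * (a * x * a⁻¹))⁻¹ := fun x hx => by
      set w := x⁻¹ * (a * x * a⁻¹) with hw
      have hwS : a⁻¹ * w * a⁻¹⁻¹ = w := C.conj_ker (haz x hx) (S.inv_mem (hP ha))
      calc x⁻¹ * (a⁻¹ * x * a⁻¹⁻¹) = x⁻¹ * (a⁻¹ * (a * x * a⁻¹ * w⁻¹) * a⁻¹⁻¹) := by
            rw [hw]; group
        _ = x⁻¹ * x * (a⁻¹ * w * a⁻¹⁻¹)⁻¹ := by group
        _ = w⁻¹ := by rw [hwS]; group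
    refine ⟨a⁻¹, P.inv_mem ha, fun x hx => ?_, fun x hx => ?_⟩
    · rw [hkey x hx]; exact Subgroup.inv_mem _ (haz x hx)
    · rw [hkey x hx, C.ι_inv (haz x hx), Pi.neg_apply, hav x hx]

theorem cls_congr (C : Ctx F F' θ E' p ι) (hP : P ≤ S) {v w : Ω → ZMod p}
    (h : ∀ x ∈ P, v x = w x) : cls θ ι P v = cls θ ι P w := by
  refine QuotientAddGroup.eq.mpr ((mem_NP_iff C hP).mpr
    ⟨1, P.one_mem, fun x _ => by simp, fun x hx => ?_⟩)
  simp [C.ι_one, h x hx]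

theorem cls_eq_zero_iff (C : Ctx F F' θ E' p ι) (hP : P ≤ S) {v : Ω → ZMod p} :
    cls θ ι P v = 0 ↔ IsInnerFun θ ι P v := by
  rw [← mem_NP_iff C hP]
  exact QuotientAddGroup.eq_zero_iff v

/-- Pullback of classes along a map of the system fixing the kernel. -/
theorem cls_comp (C : Ctx F F' θ E' p ι) (hh : MapTo F P h) (hQ : img h P = Q)
    (hZP : kerIn θ ≤ P) (hQS : Q ≤ S) {v w : Ω → ZMod p}
    (hvw : cls θ ι Q v = cls θ ι Q w) :
    cls θ ι P (fun x => v (h x)) = cls θ ι P (fun x => w (h x)) := by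
  have h0 : cls θ ι Q (v - w) = 0 := by rw [map_sub, hvw, sub_self]
  obtain ⟨u, hu, huz, huv⟩ := (cls_eq_zero_iff C hQS).mp h0
  obtain ⟨a, ha, rfl⟩ := (hh.mem_img_iff le_rfl).mp (hQ.symm ▸ hu : u ∈ img h P)
  rw [← sub_eq_zero, ← map_sub, cls_eq_zero_iff C hh.le]
  have key : ∀ x ∈ P, x⁻¹ * (a * x * a⁻¹) ∈ kerIn θ ∧
      h (x⁻¹ * (a * x * a⁻¹)) = (h x)⁻¹ * (h a * h x * (h a)⁻¹) := fun x hx => by
    have hm : h (x⁻¹ * (a * x * a⁻¹)) = (h x)⁻¹ * (h a * h x * (h a)⁻¹) := by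
      rw [hh.map_mul (P.inv_mem hx) (P.mul_mem (P.mul_mem ha hx) (P.inv_mem ha)), hh.map_inv hx,
        hh.map_conj ha hx]
    have hz : (h x)⁻¹ * (h a * h x * (h a)⁻¹) ∈ kerIn θ :=
      huz _ (hQ ▸ mem_img_of_mem hx)
    have hmem : x⁻¹ * (a * x * a⁻¹) ∈ P :=
      P.mul_mem (P.inv_mem hx) (P.mul_mem (P.mul_mem ha hx) (P.inv_mem ha))
    refine ⟨?_, hm⟩
    have hzP := hZP hz
    rw [hh.inj hmem hzP (hm.trans (C.fix hh hz hzP).symm)]
    exact hz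
  refine ⟨a, ha, fun x hx => (key x hx).1, fun x hx => ?_⟩
  obtain ⟨k1, k2⟩ := key x hx
  show v (h x) - w (h x) = _
  have h3 := huv _ (hQ ▸ mem_img_of_mem hx : h x ∈ Q)
  rw [Pi.sub_apply] at h3
  rw [h3, ← k2, C.fix hh k1 (hZP k1)]

/-- Restriction of classes. -/
theorem cls_restrict (C : Ctx F F' θ E' p ι) (hP : CP θ E' P) (hPR : P ≤ R) (hR : R ≤ TT θ T')
    {v w : Ω → ZMod p} (hvw : cls θ ι R v = cls θ ι R w) : cls θ ι P v = cls θ ι P w := by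
  have hRS : R ≤ S := hR.trans preimageAlong_le
  have h0 : cls θ ι R (v - w) = 0 := by rw [map_sub, hvw, sub_self]
  obtain ⟨u, hu, huz, huv⟩ := (cls_eq_zero_iff C hRS).mp h0
  rw [← sub_eq_zero, ← map_sub, cls_eq_zero_iff C hP.le_S]
  exact ⟨u, hP.mem_of_centralizes (hR hu) fun x hx => huz x (hPR hx),
    fun x hx => huz x (hPR hx), fun x hx => huv x (hPR hx)⟩

end Cfsg.Agent.Fusion.CentralLift
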