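import Cfsg.Agent.Lib.Fusion.CentralLift.Extension
import Mathlib.GroupTheory.Index

/-!
Canonical families and the resulting invariant of lifts.
-/

set_option autoImplicit false

namespace Cfsg.Agent.Fusion.CentralLift

open Cfsg.FusionSystem (centralizerIn normalizerIn imageAlong preimageAlong)

universe u v

variable {Ω : Type u} [Group Ω] {S : Subgroup Ω} {Ω' : Type v} [Group Ω'] {S' T' : Subgroup Ω'}
variable {F : FusionSystem S} {F' : FusionSystem S'} {θ : S →* Ω'} {E' : FusionSystem T'}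
  {p : ℕ} {ι : Ω → ZMod p} {P Q R R' : Subgroup Ω} {f g g₁ g₂ h h₂ : Ω → Ω}
  {o : Set (Ω → Ω)} {σ : Set (Ω → Ω) → (Ω → Ω)}

theorem mem_congr (C : Ctx F F' θ E' p ι) (ho : o ∈ Cls F θ E' P) (hg : g ∈ o)
    (h : ∀ x ∈ P, g₁ x = g x) : g₁ ∈ o := by
  rw [eq_ocl_of_mem C ho hg]
  exact ⟨(lmap_of_mem ho hg).congr h, SameCls.refl h⟩

theorem mem_congr_iff (C : Ctx F F' θ E' p ι) (ho : o ∈ Cls F θ E' P)
    (h : ∀ x ∈ P, g₁ x = g x) : g₁ ∈ o ↔ g ∈ o :=
  ⟨fun hg => mem_congr C ho hg fun x hx => (h x hx).symm, fun hg => mem_congr C ho hg h⟩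

/-- Any family of lifts. -/
noncomputable def repSec : Set (Ω → Ω) → (Ω → Ω) :=
  fun o => @Classical.epsilon _ ⟨fun x => x⟩ (fun g => g ∈ o)

theorem isSec_repSec : IsSec F θ E' P (repSec (Ω := Ω)) := fun o ho => by
  obtain ⟨g, hg, rfl⟩ := ho
  exact Classical.epsilon_spec (p := fun g₁ => g₁ ∈ ocl F θ E' P g) ⟨g, mem_ocl_self hg⟩

variable [Finite S] [Fact p.Prime]

theorem norms_normalizer (C : Ctx F F' θ E' p ι) (hP : CP θ E' P) :
    Norms S θ T' P (normalizerIn (TT θ T') P) :=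
  ⟨le_normalizerIn hP.le, normalizerIn_le, fun _ hx => ⟨C.T_le hx.1, hx.2⟩⟩

theorem card_lt_normalizer (C : Ctx F F' θ E' p ι) (hP : CP θ E' P) (hne : P ≠ TT θ T') :
    Nat.card P < Nat.card (normalizerIn (TT θ T') P) ∧
      Nat.card (normalizerIn (TT θ T') P) ≤ Nat.card (TT θ T') := by
  haveI : Finite (TT θ T') := finite_of_le C.T_le
  haveI : Finite (normalizerIn (TT θ T') P) := finite_of_le (normalizerIn_le.trans C.T_le)
  have hlt := lt_normalizerIn (C.hS.to_le C.T_le) (lt_of_le_of_ne hP.le hne)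
  exact ⟨lt_of_le_of_ne (Subgroup.card_le_of_le hlt.le)
    fun he => hlt.ne (Subgroup.eq_of_le_of_card_ge hlt.le he.ge),
    Subgroup.card_le_of_le normalizerIn_le⟩

open scoped Classical in
/-- The canonical family. -/
noncomputable def sec [Finite S] [Fact p.Prime] (C : Ctx F F' θ E' p ι) (P : Subgroup Ω) : Set (Ω → Ω) → (Ω → Ω) :=
  if h : CP θ E' P ∧ P ≠ TT θ T' then
    @Classical.epsilon _ ⟨fun _ x => x⟩
      (fun σ => Ext F θ E' ι P (normalizerIn (TT θ T') P) (sec C (normalizerIn (TT θ T') P)) σ)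
  else repSec
termination_by Nat.card (TT θ T') - Nat.card P
decreasing_by
  have := card_lt_normalizer C h.1 h.2
  omega

theorem sec_spec (C : Ctx F F' θ E' p ι) : ∀ (P : Subgroup Ω), CP θ E' P →
    IsSec F θ E' P (sec C P) ∧ (P ≠ TT θ T' →
      Ext F θ E' ι P (normalizerIn (TT θ T') P) (sec C (normalizerIn (TT θ T') P)) (sec C P)) := by
  intro P
  induction hk : Nat.card (TT θ T') - Nat.card P using Nat.strong_induction_on generalizing P with
  | h k ih =>
  intro hP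
  by_cases hne : P = TT θ T'
  · rw [sec, dif_neg (fun h => h.2 hne)]
    exact ⟨isSec_repSec, fun h => absurd hne h⟩
  have hlt := card_lt_normalizer C hP hne
  have hN := norms_normalizer C hP
  have hσ := (ih _ (by omega) _ rfl (hP.mono hN.1 hN.2.1)).1
  have h : Ext F θ E' ι P (normalizerIn (TT θ T') P) (sec C (normalizerIn (TT θ T') P))
      (sec C P) := by
    conv => arg 8; rw [sec]
    rw [dif_pos ⟨hP, hne⟩]
    exact Classical.epsilon_spec (exists_ext C hP hN hσ)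
  exact ⟨h.sec, fun _ => h⟩

theorem isSec_sec (C : Ctx F F' θ E' p ι) (hP : CP θ E' P) : IsSec F θ E' P (sec C P) :=
  (sec_spec C P hP).1

theorem DD_of_ext_self (C : Ctx F F' θ E' p ι) (hσ : IsSec F θ E' P σ)
    {ν : Set (Ω → Ω) → (Ω → Ω)} (h : Ext F θ E' ι P P σ ν) :
    DD F θ E' ι P σ ν = 0 := by
  refine Finset.sum_eq_zero fun o ho => ?_
  rw [mem_clsF] at ho
  have := h.ext o ho
  rwa [← eq_ocl_of_mem C ho (hσ o ho)] at this

/-- The canonical family extends along every normalizing overgroup. -/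
theorem sec_compat (C : Ctx F F' θ E' p ι) : ∀ (P R : Subgroup Ω), CP θ E' P →
    Norms S θ T' P R → ∀ ν, Ext F θ E' ι P R (sec C R) ν →
      DD F θ E' ι P (sec C P) ν = 0 := by
  intro P
  induction hk : Nat.card (TT θ T') - Nat.card P using Nat.strong_induction_on generalizing P with
  | h k ih =>
  intro R
  induction hj : Nat.card (TT θ T') - Nat.card R using Nat.strong_induction_on generalizing R with
  | h j ihR =>
  intro hP hN ν hν
  have hR : CP θ E' R := hP.mono hN.1 hN.2.1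
  rcases eq_or_lt_of_le hN.1 with rfl | hPR
  · exact DD_of_ext_self C (isSec_sec C hP) hν
  haveI : Finite (TT θ T') := finite_of_le C.T_le
  have hPT : P ≠ TT θ T' := fun h => hPR.not_ge (h ▸ hN.2.1)
  set N := normalizerIn (TT θ T') P with hNdef
  have hNN := norms_normalizer C hP
  have hRN : R ≤ N := fun x hx => ⟨hN.2.1 hx, (hN.2.2 hx).2⟩
  rcases eq_or_lt_of_le hRN with rfl | hlt
  · have h := Ext.DD_eq C hP hN (isSec_sec C hR) (isSec_sec C hR) ((sec_spec C P hP).2 hPT) hν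
    rw [h, DD_self C hR (isSec_sec C hR) fun _ _ _ _ => rfl, res_zero C hP hN.1 hN.2.1]
  set R₁ := normalizerIn N R with hR₁
  have hR₁N : R₁ ≤ N := normalizerIn_le
  have hRR₁ : Norms S θ T' R R₁ :=
    ⟨le_normalizerIn hRN, hR₁N.trans normalizerIn_le, fun x hx => ⟨C.T_le (hR₁N hx).1, hx.2⟩⟩
  have hPR₁ : Norms S θ T' P R₁ :=
    ⟨hPR.le.trans hRR₁.1, hRR₁.2.1, fun x hx => ⟨C.T_le (hR₁N hx).1, (hR₁N hx).2⟩⟩
  have hR₁CP : CP θ E' R₁ := hP.mono hPR₁.1 hPR₁.2.1
  obtain ⟨ρ, hρ⟩ := exists_ext C hR hRR₁ (isSec_sec C hR₁CP) (ι := ι)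
  obtain ⟨ν', hν', hν'₁⟩ := exists_ext_both C hP hN hPR₁ hRR₁ (isSec_sec C hR₁CP) hρ
  haveI : Finite R₁ := finite_of_le (hPR₁.2.1.trans C.T_le)
  haveI : Finite R := finite_of_le hR.le_S
  haveI : Finite N := finite_of_le (normalizerIn_le.trans C.T_le)
  have hlt₁ : R < R₁ := lt_normalizerIn (C.hS.to_le (normalizerIn_le.trans C.T_le)) hlt
  have hc1 : Nat.card P < Nat.card R := lt_of_le_of_ne (Subgroup.card_le_of_le hPR.le)
    fun he => hPR.ne (Subgroup.eq_of_le_of_card_ge hPR.le he.ge)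
  have hc2 : Nat.card R < Nat.card R₁ := lt_of_le_of_ne (Subgroup.card_le_of_le hlt₁.le)
    fun he => hlt₁.ne (Subgroup.eq_of_le_of_card_ge hlt₁.le he.ge)
  have hc3 : Nat.card R₁ ≤ Nat.card (TT θ T') := Subgroup.card_le_of_le hPR₁.2.1
  rw [DD_trans C hP (isSec_sec C hP) hν'.sec hν.sec,
    ihR _ (by omega) R₁ rfl hP hPR₁ ν' hν'₁, zero_add,
    Ext.DD_eq C hP hN hρ.sec (isSec_sec C hR) hν' hν,
    DD_symm C hR (isSec_sec C hR) hρ.sec, ih _ (by omega) R rfl R₁ hR hRR₁ ρ hρ, neg_zero,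
    res_zero C hP hN.1 hN.2.1]

/-- Transport of extensions along twists. -/
theorem Ext.pull (C : Ctx F F' θ E' p ι) (tw : Tw F θ E' P Q h f) (twR : Tw F θ E' R R' h f)
    (hP : CP θ E' P) (hQ : CP θ E' Q) (hN : Norms S θ T' P R) (hN' : Norms S θ T' Q R')
    {σ' ν' : Set (Ω → Ω) → (Ω → Ω)} (hσ' : IsSec F θ E' R' σ')
    (hν' : Ext F θ E' ι Q R' σ' ν') :
    Ext F θ E' ι P R (pull F θ E' R' h f σ') (pull F θ E' Q h f ν') := by
  refine ⟨isSec_pull C tw hν'.sec, fun r hr o ho => ?_, fun o ho => ?_⟩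
  · have hr' : h r ∈ R' := twR.h_mem hr
    have hpm := push_mem C tw ho
    have e : push F θ E' Q h f (act F θ E' P r o) = act F θ E' Q (h r) (push F θ E' Q h f o) := by
      have hpt : ∀ g : Ω → Ω, ∀ x ∈ P, f (g (h (cj r x))) = f (g (cj (h r) (h x))) := fun g x hx => by
        rw [cj_apply (g := r), twR.map_h.map_conj hr (hN.1 hx)]; rfl
      ext g
      constructor
      · rintro ⟨hg, -, hgo⟩
        have hg' : LMap F θ E' Q fun y => g (cj (h r) y) :=
          (tw_conj C hQ.le (hN'.2.1 hr') (hN'.2.2 hr')).fwd g hg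
        exact ⟨hg, hg', mem_congr C ho hgo fun x hx => (hpt g x hx).symm⟩
      · rintro ⟨hg, -, hgo⟩
        exact ⟨hg, tw.fwd g hg, mem_congr C ho hgo fun x hx => hpt g x hx⟩
    set o' := push F θ E' Q h f o
    have hm := act_mem C hN' hr' hpm
    have ha := lmap_of_mem hm (hν'.sec _ hm)
    have hb : (fun y => ν' (act F θ E' Q (h r) o') (cj (h r) y)) ∈ o' := (hν'.sec _ hm).2
    have hs := sameCls_of_mem C hpm (hν'.sec _ hpm) hb
    have h1 := tw.dd_eq C hP hQ (lmap_of_mem hpm (hν'.sec _ hpm)) (lmap_of_mem hpm hb) hs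
      (v := 0) (by rw [hν'.coh _ hr' _ hpm, map_zero])
    show dd θ T' ι P (fun x => f (ν' o' (h x)))
      (fun x => f (ν' (push F θ E' Q h f (act F θ E' P r o)) (h (cj r x)))) = 0
    rw [e, dd_congr C hP (tw.fwd _ (lmap_of_mem hpm (hν'.sec _ hpm)))
      ((tw.sameCls_iff C (lmap_of_mem hpm (hν'.sec _ hpm)) (lmap_of_mem hpm hb)).mpr hs)
      (fun _ _ => rfl) fun x hx => by
        rw [cj_apply (g := r), twR.map_h.map_conj hr (hN.1 hx)]; rfl, h1]
    exact (cls_congr C hP.le_S (w := 0) fun _ _ => rfl).trans (map_zero _)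
  · have hpm := push_mem C twR ho
    set g := σ' (push F θ E' R' h f o) with hgdef
    have hg := lmap_of_mem hpm (hσ' _ hpm)
    have e := push_ocl C tw (hg.restrict hN'.1)
    have hm : ocl F θ E' Q g ∈ Cls F θ E' Q := ⟨g, hg.restrict hN'.1, rfl⟩
    have hs := sameCls_of_mem C hm (mem_ocl_self (hg.restrict hN'.1)) (hν'.sec _ hm)
    have h1 := tw.dd_eq C hP hQ (hg.restrict hN'.1) (lmap_of_mem hm (hν'.sec _ hm)) hs
      (v := 0) (by rw [hν'.ext _ hpm, map_zero])
    show dd θ T' ι P (fun x => f (g (h x)))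
      (fun x => f (ν' (push F θ E' Q h f (ocl F θ E' P fun x => f (g (h x)))) (h x))) = 0
    rw [e, h1]
    exact (cls_congr C hP.le_S (w := 0) fun _ _ => rfl).trans (map_zero _)

/-- The invariant of a lift. -/
noncomputable def W (C : Ctx F F' θ E' p ι) (P : Subgroup Ω) (h : Ω → Ω) : Hq θ ι P :=
  DD F θ E' ι P (sec C P) (CentralLift.pull F θ E' (img h P) h (fun x => x) (sec C (img h P)))

theorem W_congr (C : Ctx F F' θ E' p ι) (hP : CP θ E' P) (hh : LMap F θ E' P h)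
    (hh₂ : ∀ x ∈ P, h₂ x = h x) : W C P h₂ = W C P h := by
  refine Finset.sum_congr rfl fun o ho => ?_
  rw [mem_clsF] at ho
  have hQ := hP.img C hh
  have hI : img h₂ P = img h P := img_congr hh₂
  have e : push F θ E' (img h P) h₂ (fun x => x) o = push F θ E' (img h P) h (fun x => x) o :=
    Set.ext fun g => and_congr_right fun _ => mem_congr_iff C ho fun x hx => by rw [hh₂ x hx]
  have htw := Tw.of_lmap C hh
  have hm := isSec_pull C htw (isSec_sec C hQ) o ho
  show dd θ T' ι P _ (fun x => sec C (img h₂ P) (push F θ E' (img h₂ P) h₂ (fun x => x) o) (h₂ x)) = _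
  rw [hI, e]
  exact dd_congr C hP (lmap_of_mem ho (isSec_sec C hP o ho))
    (sameCls_of_mem C ho (isSec_sec C hP o ho) hm) (fun _ _ => rfl)
    fun x hx => by rw [hh₂ x hx]; rfl

theorem W_comp (C : Ctx F F' θ E' p ι) (hP : CP θ E' P) (hh : LMap F θ E' P h)
    (hh₂ : LMap F θ E' (img h P) h₂) :
    W C P (fun x => h₂ (h x)) = W C P h + pbk θ ι P (img h P) h (W C (img h P) h₂) := by
  have hQ := hP.img C hh
  have hM := hQ.img C hh₂
  have tw := Tw.of_lmap C hh
  have tw₂ := Tw.of_lmap C hh₂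
  have himg : img (fun x => h₂ (h x)) P = img h₂ (img h P) := (hh.1.img_img le_rfl h₂).symm
  have hs := isSec_pull C tw₂ (isSec_sec C hM)
  rw [W, W, W, ← DD_pull C tw hP hQ (isSec_sec C hQ) hs,
    ← DD_trans C hP (isSec_sec C hP) (isSec_pull C tw (isSec_sec C hQ)) (isSec_pull C tw hs), himg]
  congr 1
  funext o
  exact (pull_pull C tw₂).symm

theorem W_res_norms (C : Ctx F F' θ E' p ι) (hP : CP θ E' P) (hN : Norms S θ T' P R)
    (hh : LMap F θ E' R h) : W C P h = pbk θ ι P R (fun x => x) (W C R h) := by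
  have hR : CP θ E' R := hP.mono hN.1 hN.2.1
  have hhP := hh.restrict hN.1
  have hQ := hP.img C hhP
  have hR' := hR.img C hh
  have hN' : Norms S θ T' (img h P) (img h R) := by
    refine ⟨img_mono hN.1, hh.img_le C, fun y hy => ?_⟩
    obtain ⟨x, hx, rfl⟩ := (hh.1.mem_img_iff le_rfl).mp hy
    exact hh.1.map_mem_normalizerIn hN.1 hx (hN.2.2 hx)
  have tw := Tw.of_lmap C hhP
  have twR := Tw.of_lmap C hh
  obtain ⟨ν, hν⟩ := exists_ext C hP hN (isSec_sec C hR) (ι := ι)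
  obtain ⟨ν', hν'⟩ := exists_ext C hQ hN' (isSec_sec C hR') (ι := ι)
  have hpull := Ext.pull C tw twR hP hQ hN hN' (isSec_sec C hR') hν'
  rw [W, W, DD_trans C hP (isSec_sec C hP) hν.sec (isSec_pull C tw (isSec_sec C hQ)),
    sec_compat C P R hP hN ν hν, zero_add,
    DD_trans C hP hν.sec hpull.sec (isSec_pull C tw (isSec_sec C hQ)),
    DD_pull C tw hP hQ hν'.sec (isSec_sec C hQ),
    DD_symm C hQ (isSec_sec C hQ) hν'.sec, sec_compat C _ _ hQ hN' ν' hν', neg_zero,
    pbk_zero C tw.map_h rfl hP.1 hQ.le_S, add_zero]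
  exact Ext.DD_eq C hP hN (isSec_sec C hR) (isSec_pull C twR (isSec_sec C hR')) hν hpull

/-- The invariant commutes with restriction. -/
theorem W_res (C : Ctx F F' θ E' p ι) (hP : CP θ E' P) (hPR : P ≤ R)
    (hh : LMap F θ E' R h) : W C P h = pbk θ ι P R (fun x => x) (W C R h) := by
  induction hk : Nat.card R - Nat.card P using Nat.strong_induction_on generalizing P with
  | h k ih =>
  have hRT := hh.2.1
  rcases eq_or_lt_of_le hPR with rfl | hlt
  · conv_lhs => rw [← cls_out (W C P h)]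
    rw [← res_cls C hP le_rfl hP.le, cls_out]
  haveI : Finite R := finite_of_le hh.1.le
  set K := normalizerIn R P with hK
  have hPK : P < K := lt_normalizerIn (C.hS.to_le hh.1.le) hlt
  have hKR : K ≤ R := normalizerIn_le
  have hNK : Norms S θ T' P K := ⟨hPK.le, hKR.trans hRT, fun x hx => ⟨hh.1.le hx.1, hx.2⟩⟩
  have hKCP : CP θ E' K := hP.mono hPK.le hNK.2.1
  haveI : Finite K := finite_of_le (hKR.trans hh.1.le)
  have hc : Nat.card P < Nat.card K := lt_of_le_of_ne (Subgroup.card_le_of_le hPK.le)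
    fun he => hPK.ne (Subgroup.eq_of_le_of_card_ge hPK.le he.ge)
  have hc' : Nat.card K ≤ Nat.card R := Subgroup.card_le_of_le hKR
  rw [W_res_norms C hP hNK (hh.restrict hKR), ih _ (by omega) hKCP hKR rfl,
    ← cls_out (W C R h), res_cls C hKCP hKR hRT, res_cls C hP hPK.le hNK.2.1,
    res_cls C hP hPR hRT]

theorem W_ker (C : Ctx F F' θ E' p ι) (hP : CP θ E' P) {k : Ω → Ω} (hk : MapTo F P k)
    (hkz : ∀ x ∈ P, x⁻¹ * k x ∈ kerIn θ) :
    LMap F θ E' P k ∧ img k P = P ∧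
      W C P k = (clsF F θ E' P).card • cls θ ι P fun x => ι (x⁻¹ * k x) := by
  haveI := finite_of_le hP.le_S
  have hkP : ∀ x ∈ P, k x ∈ P := fun x hx => by
    rw [show k x = x * (x⁻¹ * k x) by group]; exact P.mul_mem hx (hP.1 (hkz x hx))
  have himg : img k P = P := img_eq_self_of_forall hk hkP
  have hL : LMap F θ E' P k := ⟨hk, hP.le, fun y => y, mapTo_id E' hP.2.2.1, fun x hx =>
    (th_eq_iff (hP.le_S hx) (hk.mem hx)).mpr (hkz x hx)⟩
  refine ⟨hL, himg, ?_⟩
  rw [W, himg, DD, ← Finset.sum_const]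
  refine Finset.sum_congr rfl fun o ho => ?_
  rw [mem_clsF] at ho
  have hm : ∀ g, LMap F θ E' P g → ∀ x ∈ P, (g x)⁻¹ * g (k x) = x⁻¹ * k x := fun g hg x hx => by
    have hz := hkz x hx
    conv_lhs => rw [show k x = x * (x⁻¹ * k x) by group,
      hg.1.map_mul hx (hP.1 hz), C.fix hg.1 hz (hP.1 hz), inv_mul_cancel_left]
  have hsc : ∀ g, LMap F θ E' P g → SameCls θ T' P g fun x => g (k x) := fun g hg =>
    ⟨1, Subgroup.one_mem _, fun x hx => by rw [cj_one, hm g hg x hx]; exact hkz x hx⟩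
  have e : push F θ E' P k (fun x => x) o = o := by
    ext g
    constructor
    · rintro ⟨hg, hgo⟩
      rw [eq_ocl_of_mem C ho hgo]
      exact ⟨hg, (hsc g hg).symm C⟩
    · intro hg
      have hgL := lmap_of_mem ho hg
      refine ⟨hgL, ?_⟩
      rw [eq_ocl_of_mem C ho hg]
      exact ⟨hL.comp hgL hkP, hsc g hgL⟩
  show dd θ T' ι P (sec C P o) (fun x => sec C P (push F θ E' P k (fun x => x) o) (k x)) = _
  rw [e]
  have hg := lmap_of_mem ho (isSec_sec C hP o ho)
  rw [dd_eq C hP hg (Subgroup.one_mem _) fun x hx => by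
    rw [cj_one, hm _ hg x hx]; exact hkz x hx]
  refine cls_congr C hP.le_S fun x hx => ?_
  show ι ((cj 1 (sec C P o x))⁻¹ * sec C P o (k x)) = _
  rw [cj_one, hm _ hg x hx]

theorem W_cj (C : Ctx F F' θ E' p ι) {t : Ω} (ht : t ∈ TT θ T') (hP : CP θ E' P) :
    W C P (cj t) = 0 := by
  have hT : CP θ E' (TT θ T') := cp_top C
  have hL : LMap F θ E' (TT θ T') (cj t) := LMap.cj_mem le_rfl ht
  rw [W_res C hP hP.le hL]
  suffices h : W C (TT θ T') (cj t) = 0 by rw [h, res_zero C hP hP.le le_rfl]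
  have htN : t ∈ normalizerIn S (TT θ T') :=
    ⟨C.T_le ht, Subgroup.le_normalizer ht⟩
  rw [W, mapTo_cj_self C.T_le htN]
  refine Finset.sum_eq_zero fun o ho => ?_
  rw [mem_clsF] at ho
  have hN : Norms S θ T' (TT θ T') (TT θ T') := ⟨le_rfl, le_rfl, le_normalizerIn C.T_le⟩
  show dd θ T' ι _ (sec C _ o) (fun x => sec C _ (act F θ E' _ t o) (cj t x)) = 0
  obtain ⟨g, hg, hgo⟩ := id ho
  rw [act_fixed_of_extends C hN hg ho (hgo ▸ mem_ocl_self hg) ht]
  have hs := lmap_of_mem ho (isSec_sec C hT o ho)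
  refine dd_exact C hT hs (hs.mem C ht) fun x hx => ?_
  rw [cj_apply (g := t), hs.1.map_conj ht hx]
  rfl

theorem card_cls_cast (C : Ctx F F' θ E' p ι) (hP : CP θ E' P) (hN : Norms S θ T' P R) :
    ((clsF F θ E' P).card : ZMod p) = ((clsF F θ E' R).card : ZMod p) := by
  have h := sum_classes (fun a : ZMod p => by rw [nsmul_eq_mul, ZMod.natCast_self, zero_mul]) C hP
    hN (isSec_sec C (hP.mono hN.1 hN.2.1)) (fun _ => (1 : ZMod p)) fun _ _ _ _ => rfl
  simpa using h

theorem card_cls_ne_zero (C : Ctx F F' θ E' p ι) (hP : CP θ E' P) :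
    ((clsF F θ E' P).card : ZMod p) ≠ 0 := by
  induction hk : Nat.card (TT θ T') - Nat.card P using Nat.strong_induction_on generalizing P with
  | h k ih =>
  by_cases hne : P = TT θ T'
  swap
  · have hlt := card_lt_normalizer C hP hne
    have hN := norms_normalizer C hP
    rw [card_cls_cast C hP hN]
    exact ih _ (by omega) (hP.mono hN.1 hN.2.1) rfl
  subst hne
  haveI := C.finite_T'
  haveI := finite_mulAut T'
  have hT'p : IsPGroup p T' :=
    (C.hS.of_surjective θ.rangeRestrict θ.rangeRestrict_surjective).to_le C.T'_le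
  have himT : imageAlong θ (TT θ T') = T' := imageAlong_preimageAlong C.T'_le
  have hlift : ∀ a : E'.autGroup T', ∃ g, LMap F θ E' (TT θ T') g ∧
      ∀ x ∈ TT θ T', autFun (a : MulAut T') (th θ x) = th θ (g x) := fun a =>
    exists_lift_on C C.T_le C.Z_le_T (himT.symm ▸ mapTo_of_mem_autGroup le_rfl a.2)
  choose lg hlg hlgx using hlift
  set I := (Inn T').subgroupOf (E'.autGroup T') with hI
  have hrel : ∀ a b, SameCls θ T' (TT θ T') (lg a) (lg b) ↔ a⁻¹ * b ∈ I := by
    intro a b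
    haveI : I.Normal := normal_inn_subgroupOf E' T'
    have hiff : a⁻¹ * b ∈ I ↔ ((b * a⁻¹ : E'.autGroup T') : MulAut T') ∈ Inn T' := by
      rw [← Subgroup.Normal.mem_comm_iff (H := I) inferInstance, Subgroup.mem_subgroupOf]
    rw [hiff, inn_eq_autInducedBy, mem_autInducedBy_iff_cj]
    have hT'T : ∀ {y}, y ∈ T' → ∃ x ∈ TT θ T', th θ x = y := fun hy =>
      exists_preimage C.T'_le hy
    constructor
    · rintro ⟨t, ht, htx⟩
      refine ⟨th θ t, (mem_preimageAlong.mp ht).2, fun y hy => ?_⟩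
      obtain ⟨x, hx, hxy⟩ := hT'T (autFun_mem (a : MulAut T')⁻¹ hy)
      rw [Subgroup.coe_mul, Subgroup.coe_inv, autFun_mul _ _ hy, ← hxy, hlgx b x hx]
      conv_rhs => rw [← autFun_autFun_inv (a : MulAut T') hy, ← hxy, hlgx a x hx]
      rw [cj_apply, ← th_conj θ (C.T_le ht) ((hlg a).1.mem hx), ← cj_apply]
      refine ((th_eq_iff ?_ ((hlg b).1.mem hx)).mpr (htx x hx)).symm
      exact S.mul_mem (S.mul_mem (C.T_le ht) ((hlg a).1.mem hx)) (S.inv_mem (C.T_le ht))
    · rintro ⟨t', ht', htx⟩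
      obtain ⟨t, ht, rfl⟩ := hT'T ht'
      refine ⟨t, ht, fun x hx => ?_⟩
      have hxT : th θ x ∈ T' := (mem_preimageAlong.mp hx).2
      have h1 := htx _ (autFun_mem (a : MulAut T') hxT)
      rw [Subgroup.coe_mul, Subgroup.coe_inv, autFun_mul _ _ (autFun_mem _ hxT),
        autFun_inv_autFun _ hxT, hlgx b x hx, hlgx a x hx, cj_apply,
        ← th_conj θ (C.T_le ht) ((hlg a).1.mem hx)] at h1
      exact (th_eq_iff (S.mul_mem (S.mul_mem (C.T_le ht) ((hlg a).1.mem hx))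
        (S.inv_mem (C.T_le ht))) ((hlg b).1.mem hx)).mp h1.symm
  have hm : ∀ a, ocl F θ E' (TT θ T') (lg a) ∈ Cls F θ E' (TT θ T') := fun a => ⟨_, hlg a, rfl⟩
  let Φ : E'.autGroup T' ⧸ I → {o // o ∈ clsF F θ E' (TT θ T')} :=
    Quotient.lift (fun a => ⟨ocl F θ E' (TT θ T') (lg a), mem_clsF.mpr (hm a)⟩) fun a b hab =>
      Subtype.ext (ocl_eq_of_sameCls C ((hrel a b).mpr (QuotientGroup.leftRel_apply.mp hab)))
  have hΦ : Function.Bijective Φ := by
    refine ⟨fun u v huv => ?_, fun ⟨o, ho⟩ => ?_⟩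
    · induction u using Quotient.inductionOn with
      | h a =>
      induction v using Quotient.inductionOn with
      | h b =>
      have he : ocl F θ E' (TT θ T') (lg a) = ocl F θ E' (TT θ T') (lg b) :=
        congrArg Subtype.val huv
      have h1 : lg b ∈ ocl F θ E' (TT θ T') (lg a) := by
        rw [he]; exact mem_ocl_self (hlg b)
      exact Quotient.sound (QuotientGroup.leftRel_apply.mpr ((hrel a b).mp h1.2))
    · obtain ⟨g, hg, rfl⟩ := mem_clsF.mp ho
      obtain ⟨g', hg', hgg⟩ := id hg.2.2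
      rw [himT] at hg'
      have himg : img g' T' = T' := img_eq_self_of_forall hg' fun y hy => hg'.mem hy
      refine ⟨QuotientGroup.mk ⟨autOf hg' himg, autOf_mem _ _⟩, Subtype.ext ?_⟩
      refine ocl_eq_of_sameCls C ⟨1, Subgroup.one_mem _, fun x hx => ?_⟩
      rw [cj_one, ← th_eq_iff ((hlg _).1.mem hx) (hg.1.mem hx), ← hlgx _ x hx]
      rw [autFun_autOf hg' himg (mem_preimageAlong.mp hx).2, hgg x hx]
  have hcard : (clsF F θ E' (TT θ T')).card = I.index := by
    rw [Subgroup.index, Nat.card_eq_of_bijective Φ hΦ, Nat.card_eq_fintype_card,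
      Fintype.card_coe]
  rw [hcard, Ne, ZMod.natCast_eq_zero_iff]
  have h5 := ((isFullyAutomized_iff hT'p).mp
    (isFullyAutomized_of_isFullyNormalized hT'p C.hE.1.1 isFullyNormalized_top)).2
  rw [autInducedBy_self_eq_inn] at h5
  exact h5

end Cfsg.Agent.Fusion.CentralLift
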