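import Cfsg.Agent.Lib.Fusion.CentralLift.Basic

/-!
Differences of lifts and twists.
-/

set_option autoImplicit false

namespace Cfsg.Agent.Fusion.CentralLift

open Cfsg.FusionSystem (centralizerIn normalizerIn imageAlong preimageAlong)

universe u v

variable {Ω : Type u} [Group Ω] {S : Subgroup Ω} {Ω' : Type v} [Group Ω'] {S' T' : Subgroup Ω'}
variable {F : FusionSystem S} {F' : FusionSystem S'} {θ : S →* Ω'} {E' : FusionSystem T'}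
  {p : ℕ} {ι : Ω → ZMod p} {P Q R : Subgroup Ω} {f g g₁ g₂ g₃ h : Ω → Ω}

/-- The difference of two maps congruent modulo the kernel. -/
def dl (ι : Ω → ZMod p) (g g' : Ω → Ω) : Ω → ZMod p := fun x => ι ((g x)⁻¹ * g' x)

/-- Two lifts of maps which are conjugate under `T'`. -/
def SameCls (θ : S →* Ω') (T' : Subgroup Ω') (P : Subgroup Ω) (g g' : Ω → Ω) : Prop :=
  ∃ t ∈ TT θ T', ∀ x ∈ P, (cj t (g x))⁻¹ * g' x ∈ kerIn θ

open scoped Classical in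
/-- The difference class of two maps of the same class. -/
noncomputable def dd (θ : S →* Ω') (T' : Subgroup Ω') (ι : Ω → ZMod p) (P : Subgroup Ω)
    (g g' : Ω → Ω) : Hq θ ι P :=
  if h : SameCls θ T' P g g' then
    cls θ ι P (dl ι (fun x => cj h.choose (g x)) g') else 0

theorem SameCls.refl (hg : ∀ x ∈ P, g₁ x = g x) : SameCls θ T' P g g₁ :=
  ⟨1, Subgroup.one_mem _, fun x hx => by rw [cj_one, hg x hx, inv_mul_cancel]; exact Subgroup.one_mem _⟩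

theorem dl_trans (C : Ctx F F' θ E' p ι) {x : Ω} (h₁ : (g₁ x)⁻¹ * g₂ x ∈ kerIn θ)
    (h₂ : (g₂ x)⁻¹ * g₃ x ∈ kerIn θ) :
    dl ι g₁ g₃ x = dl ι g₁ g₂ x + dl ι g₂ g₃ x := by
  simp only [dl]
  rw [← C.ι_mul _ h₁ _ h₂]
  congr 1
  group

theorem dd_eq [Finite S] (C : Ctx F F' θ E' p ι) (hP : CP θ E' P) (hg : LMap F θ E' P g)
    {t : Ω} (ht : t ∈ TT θ T') (hct : ∀ x ∈ P, (cj t (g x))⁻¹ * g₁ x ∈ kerIn θ) :
    dd θ T' ι P g g₁ = cls θ ι P (dl ι (fun x => cj t (g x)) g₁) := by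
  have h : SameCls θ T' P g g₁ := ⟨t, ht, hct⟩
  rw [dd, dif_pos h]
  obtain ⟨hs, hcs⟩ := h.choose_spec
  set s := h.choose
  have hsS : s ∈ S := preimageAlong_le hs
  have htS : t ∈ S := preimageAlong_le ht
  have hQ : CP θ E' (img g P) := hP.img C hg
  have hw : ∀ x ∈ P, (g x)⁻¹ * (s⁻¹ * t * g x * (s⁻¹ * t)⁻¹) =
      (cj s (g x))⁻¹ * cj t (g x) := fun x hx => by
    have hz : (cj s (g x))⁻¹ * cj t (g x) ∈ kerIn θ := by
      have := Subgroup.mul_mem _ (hcs x hx) (Subgroup.inv_mem _ (hct x hx))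
      rwa [show (cj s (g x))⁻¹ * g₁ x * ((cj t (g x))⁻¹ * g₁ x)⁻¹ =
        (cj s (g x))⁻¹ * cj t (g x) by group] at this
    rw [← C.conj_ker hz (S.inv_mem hsS)]
    simp only [cj_apply]
    group
  have hz : ∀ x ∈ P, (cj s (g x))⁻¹ * cj t (g x) ∈ kerIn θ := fun x hx => by
    have := Subgroup.mul_mem _ (hcs x hx) (Subgroup.inv_mem _ (hct x hx))
    rwa [show (cj s (g x))⁻¹ * g₁ x * ((cj t (g x))⁻¹ * g₁ x)⁻¹ =
      (cj s (g x))⁻¹ * cj t (g x) by group] at this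
  have hst : s⁻¹ * t ∈ img g P := hQ.mem_of_centralizes
    (Subgroup.mul_mem _ (Subgroup.inv_mem _ hs) ht) fun y hy => by
      obtain ⟨x, hx, rfl⟩ := (hg.1.mem_img_iff le_rfl).mp hy
      rw [hw x hx]; exact hz x hx
  obtain ⟨a, ha, hag⟩ := (hg.1.mem_img_iff le_rfl).mp hst
  have hkey : ∀ x ∈ P, x⁻¹ * (a * x * a⁻¹) = (cj s (g x))⁻¹ * cj t (g x) := fun x hx => by
    have hm : x⁻¹ * (a * x * a⁻¹) ∈ P :=
      P.mul_mem (P.inv_mem hx) (P.mul_mem (P.mul_mem ha hx) (P.inv_mem ha))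
    have h1 : g (x⁻¹ * (a * x * a⁻¹)) = (cj s (g x))⁻¹ * cj t (g x) := by
      rw [hg.1.map_mul (P.inv_mem hx) (P.mul_mem (P.mul_mem ha hx) (P.inv_mem ha)),
        hg.1.map_inv hx, hg.1.map_conj ha hx, hag, hw x hx]
    have h2 : (cj s (g x))⁻¹ * cj t (g x) ∈ P := hP.1 (hz x hx)
    exact hg.1.inj hm h2 (h1.trans (C.fix hg.1 (hz x hx) h2).symm)
  rw [← sub_eq_zero, ← map_sub, cls_eq_zero_iff C hP.le_S]
  refine ⟨a, ha, fun x hx => by rw [hkey x hx]; exact hz x hx, fun x hx => ?_⟩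
  rw [Pi.sub_apply, hkey x hx, dl_trans C (g₁ := fun x => cj s (g x)) (g₂ := fun x => cj t (g x))
    (hz x hx) (hct x hx), add_sub_cancel_right]
  rfl

theorem dd_exact [Finite S] (C : Ctx F F' θ E' p ι) (hP : CP θ E' P) (hg : LMap F θ E' P g)
    {t : Ω} (ht : t ∈ TT θ T') (h : ∀ x ∈ P, g₁ x = cj t (g x)) :
    dd θ T' ι P g g₁ = 0 := by
  rw [dd_eq C hP hg ht fun x hx => by rw [h x hx, inv_mul_cancel]; exact Subgroup.one_mem _,
    cls_congr C hP.le_S (w := 0) fun x hx => ?_, map_zero]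
  show ι ((cj t (g x))⁻¹ * g₁ x) = 0
  rw [h x hx, inv_mul_cancel, C.ι_one]

theorem dd_self [Finite S] (C : Ctx F F' θ E' p ι) (hP : CP θ E' P) (hg : LMap F θ E' P g)
    (h : ∀ x ∈ P, g₁ x = g x) : dd θ T' ι P g g₁ = 0 :=
  dd_exact C hP hg (Subgroup.one_mem _) fun x hx => by rw [cj_one]; exact h x hx

theorem SameCls.trans (C : Ctx F F' θ E' p ι) (h₁ : SameCls θ T' P g₁ g₂)
    (h₂ : SameCls θ T' P g₂ g₃) : SameCls θ T' P g₁ g₃ := by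
  obtain ⟨t, ht, htx⟩ := h₁
  obtain ⟨s, hs, hsx⟩ := h₂
  refine ⟨s * t, Subgroup.mul_mem _ hs ht, fun x hx => ?_⟩
  have h1 := htx x hx
  rw [show (cj (s * t) (g₁ x))⁻¹ * g₃ x =
    (s * ((cj t (g₁ x))⁻¹ * g₂ x) * s⁻¹) * ((cj s (g₂ x))⁻¹ * g₃ x) by
      simp only [cj_apply]; group, C.conj_ker h1 (preimageAlong_le hs)]
  exact Subgroup.mul_mem _ h1 (hsx x hx)

theorem SameCls.symm (C : Ctx F F' θ E' p ι) (h : SameCls θ T' P g₁ g₂) :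
    SameCls θ T' P g₂ g₁ := by
  obtain ⟨t, ht, htx⟩ := h
  refine ⟨t⁻¹, Subgroup.inv_mem _ ht, fun x hx => ?_⟩
  have h1 := htx x hx
  rw [show (cj t⁻¹ (g₂ x))⁻¹ * g₁ x = t⁻¹ * ((cj t (g₁ x))⁻¹ * g₂ x)⁻¹ * t⁻¹⁻¹ by
    simp only [cj_apply]; group,
    C.conj_ker (Subgroup.inv_mem _ h1) (S.inv_mem (preimageAlong_le ht))]
  exact Subgroup.inv_mem _ h1

theorem dd_trans [Finite S] (C : Ctx F F' θ E' p ι) (hP : CP θ E' P) (hg₁ : LMap F θ E' P g₁)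
    (hg₂ : LMap F θ E' P g₂) (h₁ : SameCls θ T' P g₁ g₂) (h₂ : SameCls θ T' P g₂ g₃) :
    dd θ T' ι P g₁ g₃ = dd θ T' ι P g₁ g₂ + dd θ T' ι P g₂ g₃ := by
  obtain ⟨t, ht, htx⟩ := h₁
  obtain ⟨s, hs, hsx⟩ := h₂
  have hsS : s ∈ S := preimageAlong_le hs
  have hm : ∀ x ∈ P, (cj (s * t) (g₁ x))⁻¹ * cj s (g₂ x) = (cj t (g₁ x))⁻¹ * g₂ x := fun x hx => by
    rw [show (cj (s * t) (g₁ x))⁻¹ * cj s (g₂ x) = s * ((cj t (g₁ x))⁻¹ * g₂ x) * s⁻¹ by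
      simp only [cj_apply]; group, C.conj_ker (htx x hx) hsS]
  have hct : ∀ x ∈ P, (cj (s * t) (g₁ x))⁻¹ * g₃ x ∈ kerIn θ := fun x hx => by
    rw [show (cj (s * t) (g₁ x))⁻¹ * g₃ x =
      ((cj (s * t) (g₁ x))⁻¹ * cj s (g₂ x)) * ((cj s (g₂ x))⁻¹ * g₃ x) by group, hm x hx]
    exact Subgroup.mul_mem _ (htx x hx) (hsx x hx)
  rw [dd_eq C hP hg₁ (Subgroup.mul_mem _ hs ht) hct, dd_eq C hP hg₁ ht htx,
    dd_eq C hP hg₂ hs hsx, ← map_add]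
  refine cls_congr C hP.le_S fun x hx => ?_
  rw [Pi.add_apply, dl_trans C (g₁ := fun x => cj (s * t) (g₁ x)) (g₂ := fun x => cj s (g₂ x))
    (by show _ ∈ _; rw [hm x hx]; exact htx x hx) (hsx x hx)]
  congr 1
  exact congrArg ι (hm x hx)

theorem dd_symm [Finite S] (C : Ctx F F' θ E' p ι) (hP : CP θ E' P) (hg₁ : LMap F θ E' P g₁)
    (hg₂ : LMap F θ E' P g₂) (h₁ : SameCls θ T' P g₁ g₂) :
    dd θ T' ι P g₂ g₁ = - dd θ T' ι P g₁ g₂ := by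
  have h := dd_trans C hP hg₁ hg₂ h₁ (h₁.symm C)
  rw [dd_self C hP hg₁ fun _ _ => rfl] at h
  exact eq_neg_of_add_eq_zero_right h.symm

theorem dd_congr [Finite S] (C : Ctx F F' θ E' p ι) (hP : CP θ E' P) (hg : LMap F θ E' P g)
    (h : SameCls θ T' P g g₂) (h₁ : ∀ x ∈ P, g₁ x = g x) (h₃ : ∀ x ∈ P, g₃ x = g₂ x) :
    dd θ T' ι P g₁ g₃ = dd θ T' ι P g g₂ := by
  obtain ⟨t, ht, htx⟩ := h
  rw [dd_eq C hP hg ht htx, dd_eq C hP (hg.congr h₁) ht fun x hx => by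
    rw [h₁ x hx, h₃ x hx]; exact htx x hx]
  refine cls_congr C hP.le_S fun x hx => ?_
  simp only [dl, h₁ x hx, h₃ x hx]

theorem dd_restrict [Finite S] (C : Ctx F F' θ E' p ι) (hP : CP θ E' P) (hR : CP θ E' R)
    (hPR : P ≤ R) (hg : LMap F θ E' R g) (h : SameCls θ T' R g g₁) {v : Ω → ZMod p}
    (hv : dd θ T' ι R g g₁ = cls θ ι R v) : dd θ T' ι P g g₁ = cls θ ι P v := by
  obtain ⟨t, ht, htx⟩ := h
  rw [dd_eq C hP (hg.restrict hPR) ht fun x hx => htx x (hPR hx)]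
  rw [dd_eq C hR hg ht htx] at hv
  exact cls_restrict C hP hPR hR.le hv

/-! ### Twists -/

/-- A pair of maps transporting lifts on `Q` to lifts on `P`. -/
structure Tw (F : FusionSystem S) (θ : S →* Ω') (E' : FusionSystem T') (P Q : Subgroup Ω)
    (h b : Ω → Ω) : Prop where
  map_h : MapTo F P h
  img_h : img h P = Q
  map_b : MapTo F (TT θ T') b
  img_b : img b (TT θ T') = TT θ T'
  fwd : ∀ g, LMap F θ E' Q g → LMap F θ E' P fun x => b (g (h x))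
  bwd : ∀ g, LMap F θ E' P g → ∃ g₁, LMap F θ E' Q g₁ ∧ ∀ x ∈ P, g x = b (g₁ (h x))

theorem Tw.h_mem (tw : Tw F θ E' P Q h f) {x : Ω} (hx : x ∈ P) : h x ∈ Q :=
  tw.img_h ▸ mem_img_of_mem hx

theorem Tw.sameCls_iff [Finite S] (C : Ctx F F' θ E' p ι) (tw : Tw F θ E' P Q h f)
    (hg₁ : LMap F θ E' Q g₁) (hg₂ : LMap F θ E' Q g₂) :
    SameCls θ T' P (fun x => f (g₁ (h x))) (fun x => f (g₂ (h x))) ↔ SameCls θ T' Q g₁ g₂ := by
  have key : ∀ {t x : Ω}, t ∈ TT θ T' → x ∈ P →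
      ((cj (f t) (f (g₁ (h x))))⁻¹ * f (g₂ (h x)) ∈ kerIn θ ↔
        (cj t (g₁ (h x)))⁻¹ * g₂ (h x) ∈ kerIn θ) := fun {t x} ht hx => by
    have h1 := hg₁.mem C (tw.h_mem hx)
    have h2 := hg₂.mem C (tw.h_mem hx)
    have hc : cj t (g₁ (h x)) ∈ TT θ T' := by
      rw [cj_apply]; exact Subgroup.mul_mem _ (Subgroup.mul_mem _ ht h1) (Subgroup.inv_mem _ ht)
    rw [cj_apply (g := f t), ← tw.map_b.map_conj ht h1, ← cj_apply,
      ← tw.map_b.map_inv hc, ← tw.map_b.map_mul (Subgroup.inv_mem _ hc) h2]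
    set w := (cj t (g₁ (h x)))⁻¹ * g₂ (h x)
    have hwT : w ∈ TT θ T' := Subgroup.mul_mem _ (Subgroup.inv_mem _ hc) h2
    constructor
    · intro hw
      exact StronglyClosed.mem_of_map_mem (IsMorphism.stronglyClosed_kerIn C.mor.1) tw.map_b hwT hw
    · intro hw
      rw [C.fix tw.map_b hw hwT]; exact hw
  constructor
  · rintro ⟨t, ht, htx⟩
    obtain ⟨s, hs, rfl⟩ := (tw.map_b.mem_img_iff le_rfl).mp (tw.img_b.symm ▸ ht : t ∈ img f (TT θ T'))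
    refine ⟨s, hs, fun y hy => ?_⟩
    obtain ⟨x, hx, rfl⟩ := (tw.map_h.mem_img_iff le_rfl).mp (tw.img_h.symm ▸ hy : y ∈ img h P)
    exact (key hs hx).mp (htx x hx)
  · rintro ⟨s, hs, hsx⟩
    exact ⟨f s, tw.img_b ▸ mem_img_of_mem hs, fun x hx => (key hs hx).mpr (hsx _ (tw.h_mem hx))⟩

theorem Tw.dd_eq [Finite S] (C : Ctx F F' θ E' p ι) (tw : Tw F θ E' P Q h f) (hP : CP θ E' P)
    (hQ : CP θ E' Q) (hg₁ : LMap F θ E' Q g₁) (hg₂ : LMap F θ E' Q g₂)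
    (hs : SameCls θ T' Q g₁ g₂) {v : Ω → ZMod p} (hv : dd θ T' ι Q g₁ g₂ = cls θ ι Q v) :
    dd θ T' ι P (fun x => f (g₁ (h x))) (fun x => f (g₂ (h x))) =
      cls θ ι P fun x => v (h x) := by
  obtain ⟨s, hs, hsx⟩ := hs
  rw [CentralLift.dd_eq C hQ hg₁ hs hsx] at hv
  have hfs : f s ∈ TT θ T' := tw.img_b ▸ mem_img_of_mem hs
  have key : ∀ x ∈ P, (cj (f s) (f (g₁ (h x))))⁻¹ * f (g₂ (h x)) =
      (cj s (g₁ (h x)))⁻¹ * g₂ (h x) := fun x hx => by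
    have h1 := hg₁.mem C (tw.h_mem hx)
    have h2 := hg₂.mem C (tw.h_mem hx)
    have hc : cj s (g₁ (h x)) ∈ TT θ T' := by
      rw [cj_apply]; exact Subgroup.mul_mem _ (Subgroup.mul_mem _ hs h1) (Subgroup.inv_mem _ hs)
    rw [cj_apply (g := f s), ← tw.map_b.map_conj hs h1, ← cj_apply,
      ← tw.map_b.map_inv hc, ← tw.map_b.map_mul (Subgroup.inv_mem _ hc) h2,
      C.fix tw.map_b (hsx _ (tw.h_mem hx)) (Subgroup.mul_mem _ (Subgroup.inv_mem _ hc) h2)]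
  rw [CentralLift.dd_eq C hP (tw.fwd _ hg₁) hfs fun x hx => by
      rw [key x hx]; exact hsx _ (tw.h_mem hx),
    ← cls_comp C tw.map_h tw.img_h hP.1 hQ.le_S hv]
  exact cls_congr C hP.le_S fun x hx => congrArg ι (key x hx)

theorem Tw.of_lmap [Finite S] (C : Ctx F F' θ E' p ι) (hh : LMap F θ E' P h) :
    Tw F θ E' P (img h P) h fun x => x := by
  refine ⟨hh.1, rfl, mapTo_id F C.T_le, img_id, fun g hg => ?_, fun g hg => ?_⟩
  · exact hh.comp hg fun x hx => mem_img_of_mem hx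
  · obtain ⟨k, hk, hkh, -, hki⟩ := hh.exists_inverse C
    exact ⟨fun y => g (k y), hk.comp hg fun y hy => hki ▸ mem_img_of_mem hy,
      fun x hx => by show g x = g (k (h x)); rw [hkh x hx]⟩

theorem Tw.trans {M : Subgroup Ω} {h₂ f₂ : Ω → Ω} (C : Ctx F F' θ E' p ι)
    (t₁ : Tw F θ E' P Q h f) (t₂ : Tw F θ E' Q M h₂ f₂) :
    Tw F θ E' P M (fun x => h₂ (h x)) fun x => f (f₂ x) := by
  have hm : ∀ x ∈ TT θ T', f₂ x ∈ TT θ T' := fun x hx => t₂.img_b ▸ mem_img_of_mem hx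
  refine ⟨t₁.map_h.comp t₂.map_h fun x hx => t₁.h_mem hx, ?_,
    t₂.map_b.comp t₁.map_b hm, ?_, fun g hg => t₁.fwd _ (t₂.fwd g hg), fun g hg => ?_⟩
  · rw [← t₁.map_h.img_img le_rfl, t₁.img_h, t₂.img_h]
  · rw [← t₂.map_b.img_img le_rfl, t₂.img_b, t₁.img_b]
  · obtain ⟨g₁, hg₁, hx₁⟩ := t₁.bwd g hg
    obtain ⟨g₂, hg₂, hx₂⟩ := t₂.bwd g₁ hg₁
    exact ⟨g₂, hg₂, fun x hx => by rw [hx₁ x hx, hx₂ _ (t₁.h_mem hx)]⟩

/-! ### Realized classes -/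

/-- Classes given by maps of `F` which are trivial modulo the kernel. -/
def Real (F : FusionSystem S) (θ : S →* Ω') (ι : Ω → ZMod p) (P : Subgroup Ω)
    (a : Hq θ ι P) : Prop :=
  ∃ k, MapTo F P k ∧ (∀ x ∈ P, x⁻¹ * k x ∈ kerIn θ) ∧ a = cls θ ι P fun x => ι (x⁻¹ * k x)

theorem real_zero (C : Ctx F F' θ E' p ι) (hP : P ≤ S) : Real F θ ι P (0 : Hq θ ι P) :=
  ⟨fun x => x, mapTo_id F hP, fun x _ => by simp, by
    rw [cls_congr C hP (w := 0) fun x _ => by simp [C.ι_one], map_zero]⟩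

theorem real_add (C : Ctx F F' θ E' p ι) (hZ : kerIn θ ≤ P) {a b : Hq θ ι P}
    (ha : Real F θ ι P a) (hb : Real F θ ι P b) : Real F θ ι P (a + b) := by
  obtain ⟨k, hk, hkz, rfl⟩ := ha
  obtain ⟨l, hl, hlz, rfl⟩ := hb
  have hlP : ∀ x ∈ P, l x ∈ P := fun x hx => by
    rw [show l x = x * (x⁻¹ * l x) by group]; exact P.mul_mem hx (hZ (hlz x hx))
  have key : ∀ x ∈ P, x⁻¹ * k (l x) = (x⁻¹ * k x) * (x⁻¹ * l x) := fun x hx => by
    have e : l x = x * (x⁻¹ * l x) := by group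
    conv_lhs => rw [e, hk.map_mul hx (hZ (hlz x hx)), C.fix hk (hlz x hx) (hZ (hlz x hx))]
    group
  refine ⟨fun x => k (l x), hl.comp hk hlP, fun x hx => ?_, ?_⟩
  · rw [key x hx]; exact Subgroup.mul_mem _ (hkz x hx) (hlz x hx)
  · rw [← map_add]
    refine cls_congr C hk.le fun x hx => ?_
    rw [Pi.add_apply, key x hx, C.ι_mul _ (hkz x hx) _ (hlz x hx)]

theorem real_nsmul (C : Ctx F F' θ E' p ι) (hP : P ≤ S) (hZ : kerIn θ ≤ P) {a : Hq θ ι P}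
    (ha : Real F θ ι P a) : ∀ n : ℕ, Real F θ ι P (n • a)
  | 0 => by rw [zero_smul]; exact real_zero C hP
  | n + 1 => by rw [succ_nsmul]; exact real_add C hZ (real_nsmul C hP hZ ha n) ha

theorem real_dd [Finite S] (C : Ctx F F' θ E' p ι) (hP : CP θ E' P) (hg₁ : LMap F θ E' P g₁)
    (hg₂ : LMap F θ E' P g₂) (hs : SameCls θ T' P g₁ g₂) :
    Real F θ ι P (dd θ T' ι P g₁ g₂) := by
  obtain ⟨t, ht, htx⟩ := hs
  set m : Ω → Ω := fun x => cj t (g₁ x)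
  have hm : LMap F θ E' P m :=
    hg₁.comp (LMap.cj_mem (hg₁.img_le C) ht) fun x hx => mem_img_of_mem hx
  obtain ⟨k, hk, hkm, -, -⟩ := hm.exists_inverse C
  have hmem : ∀ x ∈ P, g₂ x ∈ img m P := fun x hx => by
    rw [show g₂ x = m x * ((m x)⁻¹ * g₂ x) by group]
    exact Subgroup.mul_mem _ (mem_img_of_mem hx) (C.img_ker hm.1 hP.1 (htx x hx))
  have key : ∀ x ∈ P, x⁻¹ * k (g₂ x) = (m x)⁻¹ * g₂ x := fun x hx => by
    have hz : (m x)⁻¹ * g₂ x ∈ kerIn θ := htx x hx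
    conv_lhs => rw [show g₂ x = m x * ((m x)⁻¹ * g₂ x) by group,
      hk.1.map_mul (mem_img_of_mem hx) (C.img_ker hm.1 hP.1 hz), hkm x hx,
      C.fix hk.1 hz (C.img_ker hm.1 hP.1 hz), inv_mul_cancel_left]
  refine ⟨fun x => k (g₂ x), hg₂.1.comp hk.1 hmem, fun x hx => by rw [key x hx]; exact htx x hx, ?_⟩
  rw [dd_eq C hP hg₁ ht htx]
  exact cls_congr C hP.le_S fun x hx => congrArg ι (key x hx).symm

end Cfsg.Agent.Fusion.CentralLift
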