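import Cfsg.Agent.Lib.Fusion.CentralLift.Orbit

/-!
Classes extending to a normalizing overgroup, and extensions of families.
-/

set_option autoImplicit false

namespace Cfsg.Agent.Fusion.CentralLift

open Cfsg.FusionSystem (centralizerIn normalizerIn imageAlong preimageAlong)

universe u v

variable {Ω : Type u} [Group Ω] {S : Subgroup Ω} {Ω' : Type v} [Group Ω'] {S' T' : Subgroup Ω'}
variable {F : FusionSystem S} {F' : FusionSystem S'} {θ : S →* Ω'} {E' : FusionSystem T'}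
  {p : ℕ} {ι : Ω → ZMod p} {P Q R R₁ : Subgroup Ω} {f g g₁ g₂ h : Ω → Ω}
  {o : Set (Ω → Ω)} {σ σ₁ σ₂ : Set (Ω → Ω) → (Ω → Ω)}

/-- The action of an element on classes. -/
def act (F : FusionSystem S) (θ : S →* Ω') (E' : FusionSystem T') (P : Subgroup Ω) (r : Ω)
    (o : Set (Ω → Ω)) : Set (Ω → Ω) :=
  push F θ E' P (cj r) (fun x => x) o

/-- `R` normalizes `P` inside the preimage of `T'`. -/
def Norms (S : Subgroup Ω) (θ : S →* Ω') (T' : Subgroup Ω') (P R : Subgroup Ω) : Prop :=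
  P ≤ R ∧ R ≤ TT θ T' ∧ R ≤ normalizerIn S P

variable [Finite S]

theorem tw_conj (C : Ctx F F' θ E' p ι) (hP : P ≤ TT θ T') {r : Ω} (hrT : r ∈ TT θ T')
    (hr : r ∈ normalizerIn S P) : Tw F θ E' P P (cj r) fun x => x := by
  have h := Tw.of_lmap C (LMap.cj_mem (F := F) (E' := E') hP hrT)
  rwa [mapTo_cj_self (hP.trans preimageAlong_le) hr] at h

theorem act_mem (C : Ctx F F' θ E' p ι) (hN : Norms S θ T' P R) {r : Ω} (hr : r ∈ R)
    (ho : o ∈ Cls F θ E' P) : act F θ E' P r o ∈ Cls F θ E' P :=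
  push_mem C (tw_conj C (hN.1.trans hN.2.1) (hN.2.1 hr) (hN.2.2 hr)) ho

theorem act_one (C : Ctx F F' θ E' p ι) (ho : o ∈ Cls F θ E' P) :
    act F θ E' P 1 o = o := by
  ext g
  show LMap F θ E' P g ∧ (fun x => g (cj 1 x)) ∈ o ↔ g ∈ o
  rw [show (fun x => g (cj (1 : Ω) x)) = g from funext fun x => by rw [cj_one]]
  exact ⟨fun h => h.2, fun h => ⟨lmap_of_mem ho h, h⟩⟩

theorem act_mul (C : Ctx F F' θ E' p ι) (hN : Norms S θ T' P R) {r r' : Ω} (hr : r ∈ R) :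
    act F θ E' P r (act F θ E' P r' o) = act F θ E' P (r * r') o := by
  unfold act
  rw [push_push C (tw_conj C (hN.1.trans hN.2.1) (hN.2.1 hr) (hN.2.2 hr)),
    show (fun x => cj r (cj r' x)) = cj (r * r') from funext fun x => (cj_mul r r' x).symm]

theorem act_fixed_of_extends (C : Ctx F F' θ E' p ι) (hN : Norms S θ T' P R)
    (hg : LMap F θ E' R g) (ho : o ∈ Cls F θ E' P) (hgo : g ∈ o) {r : Ω} (hr : r ∈ R) :
    act F θ E' P r o = o := by
  have hgP := hg.restrict hN.1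
  have h1 : g ∈ act F θ E' P r o := by
    refine ⟨hgP, ?_⟩
    rw [eq_ocl_of_mem C ho hgo]
    refine ⟨(tw_conj C (hN.1.trans hN.2.1) (hN.2.1 hr) (hN.2.2 hr)).fwd g hgP,
      g r, hg.mem C hr, fun x hx => ?_⟩
    show (cj (g r) (g x))⁻¹ * g (cj r x) ∈ kerIn θ
    rw [cj_apply, cj_apply, hg.1.map_conj hr (hN.1 hx), inv_mul_cancel]
    exact Subgroup.one_mem _
  rw [eq_ocl_of_mem C (act_mem C hN hr ho) h1, ← eq_ocl_of_mem C ho hgo]

variable [Fact p.Prime]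

/-- A class fixed by an overgroup contains a map extending to it. -/
theorem exists_extends_of_fixed (C : Ctx F F' θ E' p ι) (hP : CP θ E' P)
    (hN : Norms S θ T' P R) (ho : o ∈ Cls F θ E' P)
    (hfix : ∀ r ∈ R, act F θ E' P r o = o) : ∃ g, LMap F θ E' R g ∧ g ∈ o := by
  obtain ⟨g₀, hg₀, rfl⟩ := ho
  obtain ⟨g', hg', hgg⟩ := id hg₀.2.2
  haveI := C.finite_T'
  have hT'p : IsPGroup p T' := by
    have h := C.hS.of_surjective θ.rangeRestrict θ.rangeRestrict_surjective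
    exact h.to_le C.T'_le
  have hRS : R ≤ S := hN.2.1.trans preimageAlong_le
  have hext : imageAlong θ R ≤ extSub T' hg' := by
    intro y hy
    obtain ⟨r, hr, rfl⟩ := (mem_imageAlong hRS).mp hy
    have hrT' : th θ r ∈ T' := (mem_preimageAlong.mp (hN.2.1 hr)).2
    have hm := (hfix r hr).symm ▸ mem_ocl_self hg₀
    obtain ⟨-, -, t, ht, htx⟩ := hm
    obtain ⟨htS, ht'⟩ := mem_preimageAlong.mp ht
    refine ⟨⟨hrT', Subgroup.mem_normalizer_iff.mpr fun z => ?_⟩, th θ t, ht', ?_⟩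
    · have hconj : ∀ {s : Ω}, s ∈ R → ∀ z ∈ imageAlong θ P,
          th θ s * z * (th θ s)⁻¹ ∈ imageAlong θ P := fun {s} hs z hz => by
        obtain ⟨x, hx, rfl⟩ := (mem_imageAlong hP.le_S).mp hz
        rw [← th_conj θ (hRS hs) (hP.le_S hx)]
        exact th_mem_imageAlong hP.le_S (conj_mem_of_mem_normalizerIn (hN.2.2 hs) hx)
      refine ⟨fun hz => hconj hr z hz, fun hz => ?_⟩
      have := hconj (R.inv_mem hr) _ hz
      rw [th_inv θ (hRS hr)] at this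
      simpa [mul_assoc] using this
    · intro z hz
      obtain ⟨x, hx, rfl⟩ := (mem_imageAlong hP.le_S).mp hz
      have hrx : cj r x ∈ P := conj_mem_of_mem_normalizerIn (hN.2.2 hr) hx
      rw [← th_conj θ (hRS hr) (hP.le_S hx), ← cj_apply, hgg _ hrx, hgg x hx,
        ← th_conj θ htS (hg₀.1.mem hx)]
      refine ((th_eq_iff ?_ (hg₀.1.mem hrx)).mpr (htx x hx)).symm
      exact S.mul_mem (S.mul_mem htS (hg₀.1.mem hx)) (S.inv_mem htS)
  have hc : E'.IsCentric (img g' (imageAlong θ P)) := isCentric_of_isConj hP.2.2 hg'.isConj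
  obtain ⟨k', hk', hkk⟩ := (isReceptive_iff.mp (isReceptive_of_isFullyCentralized hT'p C.hE.1.1
    (isFullyCentralized_of_isCentric hc))).2 _ g' hg' rfl
  obtain ⟨g, hg, hgx⟩ := exists_lift_on C hRS (hP.1.trans hN.1) (hk'.restrict hext)
  refine ⟨g, hg, hg.restrict hN.1, 1, Subgroup.one_mem _, fun x hx => ?_⟩
  rw [cj_one, ← th_eq_iff (hg₀.1.mem hx) (hg.1.mem (hN.1 hx)), ← hgx x (hN.1 hx),
    hkk _ (th_mem_imageAlong hP.le_S hx), hgg x hx]

theorem sameCls_of_sameCls_restrict (C : Ctx F F' θ E' p ι) (hP : CP θ E' P) (hPR : P ≤ R)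
    (hg₁ : LMap F θ E' R g₁) (hg₂ : LMap F θ E' R g₂) (hs : SameCls θ T' P g₁ g₂) :
    SameCls θ T' R g₁ g₂ := by
  obtain ⟨t, ht, htx⟩ := hs
  haveI := C.finite_T'
  have hT'p : IsPGroup p T' :=
    (C.hS.of_surjective θ.rangeRestrict θ.rangeRestrict_surjective).to_le C.T'_le
  set w : Ω → Ω := fun x => cj t (g₁ x) with hw
  have hwL : LMap F θ E' R w :=
    hg₁.comp (LMap.cj_mem (hg₁.img_le C) ht) fun x hx => mem_img_of_mem hx
  obtain ⟨w', hw', hww⟩ := id hwL.2.2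
  obtain ⟨k', hk', hkk⟩ := id hg₂.2.2
  have hRS : R ≤ S := hg₁.1.le
  have hagree : ∀ y ∈ imageAlong θ P, w' y = k' y := fun y hy => by
    obtain ⟨x, hx, rfl⟩ := (mem_imageAlong hP.le_S).mp hy
    rw [hww x (hPR hx), hkk x (hPR hx), th_eq_iff (hwL.1.mem (hPR hx)) (hg₂.1.mem (hPR hx))]
    exact htx x hx
  have hle : imageAlong θ P ≤ imageAlong θ R := Subgroup.map_mono (Subgroup.comap_mono hPR)
  obtain ⟨z, hz, -, hzy⟩ := eq_conj_of_eqOn_centric hT'p C.hE.1.1 hP.2.2 hle hw' hk' hagree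
  obtain ⟨a, ha, rfl⟩ := (mem_imageAlong hP.le_S).mp hz
  have haR := hPR ha
  refine ⟨w a * t, Subgroup.mul_mem _ (hwL.mem C haR) ht, fun x hx => ?_⟩
  have hm : a * x * a⁻¹ ∈ R := R.mul_mem (R.mul_mem haR hx) (R.inv_mem haR)
  have h1 := hzy _ (th_mem_imageAlong hRS hx)
  rw [hkk x hx, ← th_conj θ (hP.le_S ha) (hRS hx), hww _ hm] at h1
  have h2 := (th_eq_iff (hwL.1.mem hm) (hg₂.1.mem hx)).mp h1.symm
  rw [show cj (w a * t) (g₁ x) = w (a * x * a⁻¹) by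
    rw [hwL.1.map_conj haR hx, cj_mul]; rfl]
  exact h2

/-- Sums of invariant functions of classes. -/
theorem sum_classes {A : Type*} [AddCommGroup A] (hA : ∀ a : A, p • a = 0)
    (C : Ctx F F' θ E' p ι) (hP : CP θ E' P) (hN : Norms S θ T' P R)
    (hσ : IsSec F θ E' R σ) (Φ : Set (Ω → Ω) → A)
    (hΦ : ∀ r ∈ R, ∀ o ∈ Cls F θ E' P, Φ (act F θ E' P r o) = Φ o) :
    ∑ o ∈ clsF F θ E' P, Φ o = ∑ o ∈ clsF F θ E' R, Φ (ocl F θ E' P (σ o)) := by
  classical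
  let I := {o // o ∈ clsF F θ E' P}
  letI : MulAction R I :=
    { smul := fun r o => ⟨act F θ E' P r o.1, mem_clsF.mpr (act_mem C hN r.2 (mem_clsF.mp o.2))⟩
      one_smul := fun o => Subtype.ext (act_one C (mem_clsF.mp o.2))
      mul_smul := fun r r' o => Subtype.ext (act_mul C hN r.2).symm }
  have hRp : IsPGroup p R := C.hS.to_le (hN.2.1.trans preimageAlong_le)
  rw [← Finset.sum_coe_sort (clsF F θ E' P) Φ,
    IndexP.sum_eq_sum_fixed hRp hA (fun o : I => Φ o.1) fun r o => hΦ r r.2 o.1 (mem_clsF.mp o.2)]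
  have hmem : ∀ o ∈ clsF F θ E' R, ocl F θ E' P (σ o) ∈ Cls F θ E' P := fun o ho =>
    ⟨σ o, (lmap_of_mem (mem_clsF.mp ho) (hσ o (mem_clsF.mp ho))).restrict hN.1, rfl⟩
  symm
  refine Finset.sum_bij (fun o ho => (⟨ocl F θ E' P (σ o), mem_clsF.mpr (hmem o ho)⟩ : I))
    (fun o ho => ?_) (fun o₁ h₁ o₂ h₂ he => ?_) (fun b hb => ?_) fun o ho => rfl
  · rw [Finset.mem_filter]
    refine ⟨Finset.mem_univ _, fun r => Subtype.ext ?_⟩
    have hg := lmap_of_mem (mem_clsF.mp ho) (hσ o (mem_clsF.mp ho))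
    exact act_fixed_of_extends C hN hg (hmem o ho) (mem_ocl_self (hg.restrict hN.1)) r.2
  · rw [mem_clsF] at h₁ h₂
    have hg₁ := lmap_of_mem h₁ (hσ o₁ h₁)
    have hg₂ := lmap_of_mem h₂ (hσ o₂ h₂)
    have he' : ocl F θ E' P (σ o₁) = ocl F θ E' P (σ o₂) := congrArg Subtype.val he
    have h3 : σ o₂ ∈ ocl F θ E' P (σ o₁) := he'.symm ▸ mem_ocl_self (hg₂.restrict hN.1)
    rw [eq_ocl_of_mem C h₁ (hσ o₁ h₁), eq_ocl_of_mem C h₂ (hσ o₂ h₂)]
    exact ocl_eq_of_sameCls C (sameCls_of_sameCls_restrict C hP hN.1 hg₁ hg₂ h3.2)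
  · rw [Finset.mem_filter] at hb
    have hb' : b.1 ∈ Cls F θ E' P := mem_clsF.mp b.2
    obtain ⟨g, hg, hgo⟩ := exists_extends_of_fixed C hP hN hb'
      fun r hr => congrArg Subtype.val (hb.2 ⟨r, hr⟩)
    have ho : ocl F θ E' R g ∈ Cls F θ E' R := ⟨g, hg, rfl⟩
    refine ⟨_, mem_clsF.mpr ho, Subtype.ext ?_⟩
    show ocl F θ E' P (σ _) = b.1
    rw [eq_ocl_of_mem C hb' hgo]
    obtain ⟨t, ht, htx⟩ := (hσ _ ho).2
    exact (ocl_eq_of_sameCls C ⟨t, ht, fun x hx => htx x (hN.1 hx)⟩).symm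

/-- A family on `P` coherent under `R` and extending a family on `R`. -/
structure Ext (F : FusionSystem S) (θ : S →* Ω') (E' : FusionSystem T') (ι : Ω → ZMod p)
    (P R : Subgroup Ω) (σR σ : Set (Ω → Ω) → (Ω → Ω)) : Prop where
  sec : IsSec F θ E' P σ
  coh : ∀ r ∈ R, ∀ o ∈ Cls F θ E' P,
    dd θ T' ι P (σ o) (fun x => σ (act F θ E' P r o) (cj r x)) = 0
  ext : ∀ o ∈ Cls F θ E' R, dd θ T' ι P (σR o) (σ (ocl F θ E' P (σR o))) = 0

theorem dd_res (C : Ctx F F' θ E' p ι) (hP : CP θ E' P) (hPR : P ≤ R) (hR : CP θ E' R)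
    (hg : LMap F θ E' R g) (h : SameCls θ T' R g g₁) :
    dd θ T' ι P g g₁ = pbk θ ι P R (fun x => x) (dd θ T' ι R g g₁) := by
  rw [← cls_out (dd θ T' ι R g g₁), res_cls C hP hPR hR.le]
  exact dd_restrict C hP hR hPR hg h (cls_out _).symm

/-- Extensions are unique up to the difference of what they extend. -/
theorem Ext.DD_eq (C : Ctx F F' θ E' p ι) (hP : CP θ E' P) (hN : Norms S θ T' P R)
    {σR σR' ν ν' : Set (Ω → Ω) → (Ω → Ω)} (hσR : IsSec F θ E' R σR) (hσR' : IsSec F θ E' R σR')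
    (h : Ext F θ E' ι P R σR ν) (h' : Ext F θ E' ι P R σR' ν') :
    DD F θ E' ι P ν ν' = pbk θ ι P R (fun x => x) (DD F θ E' ι R σR σR') := by
  have hR : CP θ E' R := hP.mono hN.1 hN.2.1
  have hinv : ∀ r ∈ R, ∀ o ∈ Cls F θ E' P,
      dd θ T' ι P (ν (act F θ E' P r o)) (ν' (act F θ E' P r o)) = dd θ T' ι P (ν o) (ν' o) := by
    intro r hr o ho
    have tw := tw_conj C hP.le (hN.2.1 hr) (hN.2.2 hr) (F := F) (E' := E')
    have hm := act_mem C hN hr ho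
    set a := ν (act F θ E' P r o) with ha
    set b := ν' (act F θ E' P r o) with hb
    have hA : (fun x => a (cj r x)) ∈ o := (h.sec _ hm).2
    have hB : (fun x => b (cj r x)) ∈ o := (h'.sec _ hm).2
    have hd := sameCls_of_mem C hm (h.sec _ hm) (h'.sec _ hm)
    have e1 := tw.dd_eq C hP hP (lmap_of_mem hm (h.sec _ hm)) (lmap_of_mem hm (h'.sec _ hm)) hd
      (cls_out _).symm
    rw [← pbk_cls C tw.map_h tw.img_h hP.1 hP.le_S, cls_out,
      pbk_conj C hP (real_dd C hP (lmap_of_mem hm (h.sec _ hm)) (lmap_of_mem hm (h'.sec _ hm)) hd)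
        (hN.2.1 hr) (hN.2.2 hr)] at e1
    rw [dd_trans C hP (lmap_of_mem ho (h.sec o ho)) (lmap_of_mem ho hA)
        (sameCls_of_mem C ho (h.sec o ho) hA) (sameCls_of_mem C ho hA (h'.sec o ho)),
      h.coh r hr o ho, zero_add,
      dd_trans C hP (lmap_of_mem ho hA) (lmap_of_mem ho hB) (sameCls_of_mem C ho hA hB)
        (sameCls_of_mem C ho hB (h'.sec o ho)),
      dd_symm C hP (lmap_of_mem ho (h'.sec o ho)) (lmap_of_mem ho hB)
        (sameCls_of_mem C ho (h'.sec o ho) hB), h'.coh r hr o ho, neg_zero, add_zero]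
    exact e1.symm
  have hlin : pbk θ ι P R (fun x => x) (DD F θ E' ι R σR σR') =
      ∑ o ∈ clsF F θ E' R, pbk θ ι P R (fun x => x) (dd θ T' ι R (σR o) (σR' o)) :=
    map_sum (AddMonoidHom.mk' (pbk θ ι P R fun x => x) (res_add C hP hN.1 hR.le)) _ _
  rw [hlin, DD, sum_classes nsmul_p_eq_zero C hP hN hσR
    (fun o => dd θ T' ι P (ν o) (ν' o)) hinv]
  refine Finset.sum_congr rfl fun o ho => ?_
  rw [mem_clsF] at ho
  have hg := lmap_of_mem ho (hσR o ho)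
  have hg' := lmap_of_mem ho (hσR' o ho)
  have hs := sameCls_of_mem C ho (hσR o ho) (hσR' o ho)
  have hsP : SameCls θ T' P (σR o) (σR' o) := by
    obtain ⟨t, ht, htx⟩ := hs
    exact ⟨t, ht, fun x hx => htx x (hN.1 hx)⟩
  set o₁ := ocl F θ E' P (σR o) with ho₁
  have ho₁m : o₁ ∈ Cls F θ E' P := ⟨_, hg.restrict hN.1, rfl⟩
  have he : ocl F θ E' P (σR' o) = o₁ := (ocl_eq_of_sameCls C hsP).symm
  have hmem : σR o ∈ o₁ := mem_ocl_self (hg.restrict hN.1)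
  have hmem' : σR' o ∈ o₁ := ⟨hg'.restrict hN.1, hsP⟩
  have e2 := h'.ext o ho
  rw [he] at e2
  rw [dd_trans C hP (lmap_of_mem ho₁m (h.sec _ ho₁m)) (hg.restrict hN.1)
      (sameCls_of_mem C ho₁m (h.sec _ ho₁m) hmem) (sameCls_of_mem C ho₁m hmem (h'.sec _ ho₁m)),
    dd_symm C hP (hg.restrict hN.1) (lmap_of_mem ho₁m (h.sec _ ho₁m))
      (sameCls_of_mem C ho₁m hmem (h.sec _ ho₁m)), h.ext o ho, neg_zero, zero_add,
    dd_trans C hP (hg.restrict hN.1) (hg'.restrict hN.1) hsP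
      (sameCls_of_mem C ho₁m hmem' (h'.sec _ ho₁m)), e2, add_zero]
  exact dd_res C hP hN.1 hR hg hs

theorem exists_ext (C : Ctx F F' θ E' p ι) (hP : CP θ E' P) (hN : Norms S θ T' P R)
    {σR : Set (Ω → Ω) → (Ω → Ω)} (hσR : IsSec F θ E' R σR) :
    ∃ σ, Ext F θ E' ι P R σR σ := by
  classical
  let I := {o // o ∈ Cls F θ E' P}
  let rel : Setoid I :=
    { r := fun a b => ∃ r ∈ R, act F θ E' P r a.1 = b.1
      iseqv := ⟨fun a => ⟨1, R.one_mem, act_one C a.2⟩,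
        fun {a b} ⟨r, hr, e⟩ => ⟨r⁻¹, R.inv_mem hr, by
          rw [← e, act_mul C hN (R.inv_mem hr), inv_mul_cancel, act_one C a.2]⟩,
        fun {a b c} ⟨r, hr, e⟩ ⟨r', hr', e'⟩ => ⟨r' * r, R.mul_mem hr' hr, by
          rw [← act_mul C hN hr', e, e']⟩⟩ }
  let base : I → I := fun a => (Quotient.mk rel a).out
  have hbase : ∀ a, ∃ r ∈ R, act F θ E' P r (base a).1 = a.1 := fun a =>
    Quotient.exact (Quotient.out_eq (Quotient.mk rel a))
  have hbase_eq : ∀ a b : I, (∃ r ∈ R, act F θ E' P r a.1 = b.1) → base a = base b := fun a b h =>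
    congrArg Quotient.out (Quotient.sound (s := rel) h)
  -- representatives extending to stabilizers
  have hrep : ∀ a : I, ∃ g₀ : Ω → Ω, g₀ ∈ a.1 ∧
      (∀ r ∈ R, act F θ E' P r a.1 = a.1 → ∃ g₁ : Ω → Ω, ∃ Q : Subgroup Ω,
        P ≤ Q ∧ r ∈ Q ∧ LMap F θ E' Q g₁ ∧ ∀ x ∈ P, g₁ x = g₀ x) ∧
      ((∀ r ∈ R, act F θ E' P r a.1 = a.1) →
        ∃ o ∈ Cls F θ E' R, g₀ = σR o) := by
    intro a
    by_cases hall : ∀ r ∈ R, act F θ E' P r a.1 = a.1
    · obtain ⟨g, hg, hgo⟩ := exists_extends_of_fixed C hP hN a.2 hall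
      have ho : ocl F θ E' R g ∈ Cls F θ E' R := ⟨g, hg, rfl⟩
      have hσ := lmap_of_mem ho (hσR _ ho)
      refine ⟨σR (ocl F θ E' R g), ?_, fun r hr _ => ⟨σR (ocl F θ E' R g), R, hN.1, hr, hσ,
        fun _ _ => rfl⟩, fun _ => ⟨_, ho, rfl⟩⟩
      rw [eq_ocl_of_mem C a.2 hgo]
      obtain ⟨t, ht, htx⟩ := (hσR _ ho).2
      exact ⟨hσ.restrict hN.1, t, ht, fun x hx => htx x (hN.1 hx)⟩
    · let R₀ : Subgroup Ω :=
        { carrier := {r | r ∈ R ∧ act F θ E' P r a.1 = a.1}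
          one_mem' := ⟨R.one_mem, act_one C a.2⟩
          mul_mem' := fun {x y} hx hy => ⟨R.mul_mem hx.1 hy.1, by
            rw [← act_mul C hN hx.1, hy.2, hx.2]⟩
          inv_mem' := fun {x} hx => ⟨R.inv_mem hx.1, by
            conv_lhs => rw [← hx.2]
            rw [act_mul C hN (R.inv_mem hx.1), inv_mul_cancel, act_one C a.2]⟩ }
      have hPR₀ : P ≤ R₀ := fun x hx => by
        obtain ⟨g, hg, hga⟩ := id a.2
        exact ⟨hN.1 hx, act_fixed_of_extends C ⟨le_rfl, hP.le, le_normalizerIn hP.le_S⟩ hg a.2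
          (hga ▸ mem_ocl_self hg) hx⟩
      obtain ⟨g, hg, hgo⟩ := exists_extends_of_fixed C hP
        ⟨hPR₀, fun x hx => hN.2.1 hx.1, fun x hx => hN.2.2 hx.1⟩ a.2 fun r hr => hr.2
      exact ⟨g, hgo, fun r hr he => ⟨g, R₀, hPR₀, ⟨hr, he⟩, hg, fun _ _ => rfl⟩,
        fun h => absurd h hall⟩
  choose g₀ hg₀ hg₀e hg₀σ using hrep
  choose rr hrr hrre using hbase
  let σ : Set (Ω → Ω) → (Ω → Ω) := fun o =>
    if h : o ∈ Cls F θ E' P then fun x => g₀ (base ⟨o, h⟩) (cj (rr ⟨o, h⟩)⁻¹ x) else fun x => x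
  have hσdef : ∀ (o : Set (Ω → Ω)) (h : o ∈ Cls F θ E' P),
      σ o = fun x => g₀ (base ⟨o, h⟩) (cj (rr ⟨o, h⟩)⁻¹ x) := fun o h => dif_pos h
  have hexact : ∀ (b : I) (ρ : Ω), ρ ∈ R → act F θ E' P ρ b.1 = b.1 → ∀ r ∈ R,
      dd θ T' ι P (fun x => g₀ b (cj r x)) (fun x => g₀ b (cj (ρ * r) x)) = 0 := by
    intro b ρ hρ he r hr
    obtain ⟨g₁, Q, hPQ, hρQ, hg₁, hg₁x⟩ := hg₀e b ρ hρ he
    have hgL : LMap F θ E' P (g₀ b) := lmap_of_mem b.2 (hg₀ b)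
    refine dd_exact C hP ((tw_conj C hP.le (hN.2.1 hr) (hN.2.2 hr)).fwd _ hgL)
      (hg₁.mem C hρQ) fun x hx => ?_
    have hy : cj r x ∈ P := conj_mem_of_mem_normalizerIn (hN.2.2 hr) hx
    have hy2 : cj ρ (cj r x) ∈ P := conj_mem_of_mem_normalizerIn (hN.2.2 hρ) hy
    show g₀ b (cj (ρ * r) x) = cj (g₁ ρ) (g₀ b (cj r x))
    rw [cj_mul, ← hg₁x _ hy2, ← hg₁x _ hy, cj_apply (g := ρ), hg₁.1.map_conj hρQ (hPQ hy)]
    rfl
  refine ⟨σ, fun o ho => ?_, fun r hr o ho => ?_, fun o ho => ?_⟩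
  · rw [hσdef o ho]
    have hr := hrr ⟨o, ho⟩
    have hb := hg₀ (base ⟨o, ho⟩)
    have e : act F θ E' P (rr ⟨o, ho⟩) (base ⟨o, ho⟩).1 = o := hrre ⟨o, ho⟩
    suffices h : (fun x => g₀ (base ⟨o, ho⟩) (cj (rr ⟨o, ho⟩)⁻¹ x)) ∈
        act F θ E' P (rr ⟨o, ho⟩) (base ⟨o, ho⟩).1 by rwa [e] at h
    refine ⟨(tw_conj C hP.le (hN.2.1 (R.inv_mem hr)) (hN.2.2 (R.inv_mem hr))).fwd _
      (lmap_of_mem (base ⟨o, ho⟩).2 hb), ?_⟩
    show (fun x => g₀ (base ⟨o, ho⟩) (cj (rr ⟨o, ho⟩)⁻¹ (cj (rr ⟨o, ho⟩) x))) ∈ (base ⟨o, ho⟩).1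
    simpa only [cj_inv_cancel] using hb
  · have hm := act_mem C hN hr ho
    have heq : base ⟨act F θ E' P r o, hm⟩ = base ⟨o, ho⟩ :=
      (hbase_eq ⟨o, ho⟩ ⟨_, hm⟩ ⟨r, hr, rfl⟩).symm
    rw [hσdef o ho, hσdef _ hm, heq]
    set b := base ⟨o, ho⟩ with hb
    set r₂ := rr ⟨o, ho⟩
    set r₁ := rr ⟨act F θ E' P r o, hm⟩ with hr₁
    have h1 := hrr ⟨o, ho⟩
    have h2 : r₁ ∈ R := hrr _
    have hfix : act F θ E' P (r₁⁻¹ * r * r₂) b.1 = b.1 := by
      rw [← act_mul C hN (R.mul_mem (R.inv_mem h2) hr), ← act_mul C hN (R.inv_mem h2), hrre ⟨o, ho⟩]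
      have h3 : act F θ E' P r₁ b.1 = act F θ E' P r o := heq ▸ hrre ⟨act F θ E' P r o, hm⟩
      show act F θ E' P r₁⁻¹ (act F θ E' P r o) = b.1
      rw [← h3, act_mul C hN (R.inv_mem h2), inv_mul_cancel, act_one C b.2]
    have h4 := hexact b _ (R.mul_mem (R.mul_mem (R.inv_mem h2) hr) h1) hfix r₂⁻¹ (R.inv_mem h1)
    rw [mul_inv_cancel_right] at h4
    refine Eq.trans ?_ h4
    congr 1
    funext x
    rw [cj_mul]
  · have hg := lmap_of_mem ho (hσR o ho)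
    have hm : ocl F θ E' P (σR o) ∈ Cls F θ E' P := ⟨_, hg.restrict hN.1, rfl⟩
    have hfix : ∀ r ∈ R, act F θ E' P r (ocl F θ E' P (σR o)) = ocl F θ E' P (σR o) :=
      fun r hr => act_fixed_of_extends C hN hg hm (mem_ocl_self (hg.restrict hN.1)) hr
    set a : I := ⟨_, hm⟩ with ha
    have hab : base a = a := by
      obtain ⟨r, hr, e⟩ := (⟨rr a, hrr a, hrre a⟩ : ∃ r ∈ R, act F θ E' P r (base a).1 = a.1)
      refine Subtype.ext ?_
      have := congrArg (act F θ E' P r⁻¹) e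
      rw [act_mul C hN (R.inv_mem hr), inv_mul_cancel, act_one C (base a).2,
        hfix r⁻¹ (R.inv_mem hr)] at this
      exact this
    obtain ⟨o', ho', he⟩ := hg₀σ a hfix
    have hoo : o' = o := by
      have h1 : σR o' ∈ ocl F θ E' P (σR o) := he ▸ hg₀ a
      rw [eq_ocl_of_mem C ho' (hσR o' ho'), eq_ocl_of_mem C ho (hσR o ho)]
      exact (ocl_eq_of_sameCls C
        (sameCls_of_sameCls_restrict C hP hN.1 hg (lmap_of_mem ho' (hσR o' ho')) h1.2)).symm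
    rw [hσdef _ hm, hab, he, hoo]
    have hr := R.inv_mem (hrr a)
    refine dd_exact C hP (hg.restrict hN.1) (hg.mem C hr) fun x hx => ?_
    show σR o (cj (rr a)⁻¹ x) = _
    rw [cj_apply (g := (rr a)⁻¹), hg.1.map_conj hr (hN.1 hx)]
    rfl

/-- An extension can be chosen to be an extension along an intermediate subgroup as well. -/
theorem exists_ext_both (C : Ctx F F' θ E' p ι) (hP : CP θ E' P) (hN : Norms S θ T' P R)
    (hN₁ : Norms S θ T' P R₁) (hRR₁ : Norms S θ T' R R₁)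
    {σ₁ ρ : Set (Ω → Ω) → (Ω → Ω)} (hσ₁ : IsSec F θ E' R₁ σ₁)
    (hρ : Ext F θ E' ι R R₁ σ₁ ρ) :
    ∃ ν, Ext F θ E' ι P R ρ ν ∧ Ext F θ E' ι P R₁ σ₁ ν := by
  classical
  obtain ⟨ν₁, hν₁⟩ := exists_ext C hP hN₁ hσ₁ (ι := ι)
  have hR : CP θ E' R := hP.mono hN.1 hN.2.1
  let lab : Set (Ω → Ω) → Prop := fun o => ∃ o' ∈ Cls F θ E' R, ocl F θ E' P (ρ o') = o
  let ν : Set (Ω → Ω) → (Ω → Ω) := fun o => if h : lab o then ρ h.choose else ν₁ o
  have hinj : ∀ {a b}, a ∈ Cls F θ E' R → b ∈ Cls F θ E' R →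
      ocl F θ E' P (ρ a) = ocl F θ E' P (ρ b) → a = b := fun {a b} ha hb he => by
    have hga := lmap_of_mem ha (hρ.sec a ha)
    have hgb := lmap_of_mem hb (hρ.sec b hb)
    have h1 : ρ b ∈ ocl F θ E' P (ρ a) := he.symm ▸ mem_ocl_self (hgb.restrict hN.1)
    rw [eq_ocl_of_mem C ha (hρ.sec a ha), eq_ocl_of_mem C hb (hρ.sec b hb)]
    exact ocl_eq_of_sameCls C (sameCls_of_sameCls_restrict C hP hN.1 hga hgb h1.2)
  have hνlab : ∀ {a}, a ∈ Cls F θ E' R → ν (ocl F θ E' P (ρ a)) = ρ a := fun {a} ha => by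
    have hl : lab (ocl F θ E' P (ρ a)) := ⟨a, ha, rfl⟩
    show dite _ _ _ = _
    rw [dif_pos hl, hinj hl.choose_spec.1 ha hl.choose_spec.2]
  have hνno : ∀ {o}, ¬ lab o → ν o = ν₁ o := fun h => dif_neg h
  have hνsec : IsSec F θ E' P ν := fun o ho => by
    by_cases hl : lab o
    · obtain ⟨a, ha, rfl⟩ := hl
      rw [hνlab ha]
      exact mem_ocl_self ((lmap_of_mem ha (hρ.sec a ha)).restrict hN.1)
    · rw [hνno hl]; exact hν₁.sec o ho
  -- transport of labelled classes by `R₁`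
  have hact : ∀ {r}, r ∈ R₁ → ∀ {a}, a ∈ Cls F θ E' R →
      act F θ E' P r (ocl F θ E' P (ρ a)) = ocl F θ E' P (ρ (act F θ E' R r a)) ∧
        SameCls θ T' R (ρ a) (fun x => ρ (act F θ E' R r a) (cj r x)) := by
    intro r hr a ha
    have hm := act_mem C hRR₁ hr ha
    have twR := tw_conj (F := F) (E' := E') C hR.le (hRR₁.2.1 hr) (hRR₁.2.2 hr)
    have twP := tw_conj (F := F) (E' := E') C hP.le (hN₁.2.1 hr) (hN₁.2.2 hr)
    set b := ρ (act F θ E' R r a)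
    have hb := lmap_of_mem hm (hρ.sec _ hm)
    have hbm : (fun x => b (cj r x)) ∈ a := (hρ.sec _ hm).2
    have hs := sameCls_of_mem C ha (hρ.sec a ha) hbm
    refine ⟨?_, hs⟩
    have e : ocl F θ E' P (ρ a) = ocl F θ E' P fun x => b (cj r x) := by
      obtain ⟨t, ht, htx⟩ := hs
      exact ocl_eq_of_sameCls C ⟨t, ht, fun x hx => htx x (hN.1 hx)⟩
    rw [e]
    exact push_ocl C twP (hb.restrict hN.1)
  have hlab_act : ∀ {r}, r ∈ R₁ → ∀ {o}, o ∈ Cls F θ E' P → lab (act F θ E' P r o) → lab o := by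
    rintro r hr o ho ⟨a, ha, hae⟩
    refine ⟨act F θ E' R r⁻¹ a, act_mem C hRR₁ (R₁.inv_mem hr) ha, ?_⟩
    rw [← (hact (R₁.inv_mem hr) ha).1, hae, act_mul C hN₁ (R₁.inv_mem hr), inv_mul_cancel,
      act_one C ho]
  refine ⟨ν, ⟨hνsec, fun r hr o ho => ?_, fun o ho => ?_⟩, ⟨hνsec, fun r hr o ho => ?_, fun o ho => ?_⟩⟩
  · by_cases hl : lab o
    · obtain ⟨a, ha, rfl⟩ := hl
      have hg := lmap_of_mem ha (hρ.sec a ha)
      rw [act_fixed_of_extends C hN hg ho (mem_ocl_self (hg.restrict hN.1)) hr, hνlab ha]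
      refine dd_exact C hP (hg.restrict hN.1) (hg.mem C hr) fun x hx => ?_
      show ρ a (cj r x) = _
      rw [cj_apply (g := r), hg.1.map_conj hr (hN.1 hx)]
      rfl
    · have hr₁ : r ∈ R₁ := hRR₁.1 hr
      rw [hνno hl, hνno fun h => hl (hlab_act hr₁ ho h)]
      exact hν₁.coh r hr₁ o ho
  · rw [hνlab ho]
    exact dd_self C hP ((lmap_of_mem ho (hρ.sec o ho)).restrict hN.1) fun _ _ => rfl
  · by_cases hl : lab o
    · obtain ⟨a, ha, rfl⟩ := hl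
      obtain ⟨he, hs⟩ := hact hr ha
      rw [he, hνlab ha, hνlab (act_mem C hRR₁ hr ha),
        dd_res C hP hN.1 hR (lmap_of_mem ha (hρ.sec a ha)) hs, hρ.coh r hr a ha,
        res_zero C hP hN.1 hR.le]
    · rw [hνno hl, hνno fun h => hl (hlab_act hr ho h)]
      exact hν₁.coh r hr o ho
  · set g := σ₁ o
    have hg := lmap_of_mem ho (hσ₁ o ho)
    set a := ocl F θ E' R g
    have ha : a ∈ Cls F θ E' R := ⟨g, hg.restrict hRR₁.1, rfl⟩
    have hs : SameCls θ T' R g (ρ a) := (hρ.sec a ha).2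
    have e : ocl F θ E' P g = ocl F θ E' P (ρ a) := by
      obtain ⟨t, ht, htx⟩ := hs
      exact ocl_eq_of_sameCls C ⟨t, ht, fun x hx => htx x (hN.1 hx)⟩
    rw [e, hνlab ha, dd_res C hP hN.1 hR (hg.restrict hRR₁.1) hs, hρ.ext o ho,
      res_zero C hP hN.1 hR.le]

end Cfsg.Agent.Fusion.CentralLift
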