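import Cfsg.Agent.Lib.Fusion.CentralLift.MLemma

/-!
The lifted subsystem is invariant.
-/

set_option autoImplicit false

namespace Cfsg.Agent.Fusion.CentralLift

open Cfsg.FusionSystem (centralizerIn normalizerIn imageAlong preimageAlong)

universe u v

variable {Ω : Type u} [Group Ω] {S : Subgroup Ω} {Ω' : Type v} [Group Ω'] {S' T' : Subgroup Ω'}
variable {F : FusionSystem S} {F' : FusionSystem S'} {θ : S →* Ω'} {E' : FusionSystem T'}
  {p : ℕ} {ι : Ω → ZMod p} {P Q R : Subgroup Ω} {a l f g h h₂ : Ω → Ω}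
  {o : Set (Ω → Ω)} {σ σ₁ σ₂ σ₃ : Set (Ω → Ω) → (Ω → Ω)}

/-- An automorphism of `T` in `F` with its inverse. -/
structure AutT (F : FusionSystem S) (θ : S →* Ω') (T' : Subgroup Ω') (a l : Ω → Ω) : Prop where
  map : MapTo F (TT θ T') a
  inv : MapTo F (TT θ T') l
  img_map : img a (TT θ T') = TT θ T'
  img_inv : img l (TT θ T') = TT θ T'
  la : ∀ x ∈ TT θ T', l (a x) = x
  al : ∀ x ∈ TT θ T', a (l x) = x

theorem AutT.symm (A : AutT F θ T' a l) : AutT F θ T' l a :=
  ⟨A.inv, A.map, A.img_inv, A.img_map, A.al, A.la⟩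

theorem AutT.mem (A : AutT F θ T' a l) {x : Ω} (hx : x ∈ TT θ T') : a x ∈ TT θ T' :=
  A.img_map ▸ mem_img_of_mem hx

theorem AutT.img_le (A : AutT F θ T' a l) (hP : P ≤ TT θ T') : img a P ≤ TT θ T' :=
  (img_mono hP).trans A.img_map.le

theorem AutT.img_img_inv (A : AutT F θ T' a l) (hP : P ≤ TT θ T') : img l (img a P) = P := by
  rw [(A.map.restrict hP).img_img le_rfl]
  exact (img_congr fun x hx => A.la x (hP hx)).trans img_id

theorem AutT.lmap (A : AutT F θ T' a l) [Finite S] (C : Ctx F F' θ E' p ι) (hP : P ≤ TT θ T')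
    (hg : LMap F θ E' (img a P) g) : LMap F θ E' P fun x => l (g (a x)) := by
  obtain ⟨g', hg', hgg⟩ := hg.2.2
  refine ⟨((A.map.restrict hP).comp hg.1 fun x hx => mem_img_of_mem hx).comp A.inv
    fun x hx => hg.mem C (mem_img_of_mem hx), hP, ?_⟩
  obtain ⟨l', hl', hll⟩ := IsMorphism.exists_map C.mor.1 A.inv
  have him : img l' (imageAlong θ (TT θ T')) = imageAlong θ (TT θ T') := by
    rw [img_induced A.inv hl' hll, A.img_inv]
  rw [imageAlong_preimageAlong C.T'_le] at hl' him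
  have hP1 : img a P ≤ TT θ T' := A.img_le hP
  have hm : imageAlong θ (img a P) ≤ T' := fun y hy => by
    obtain ⟨x, hx, rfl⟩ := (mem_imageAlong (hP1.trans C.T_le)).mp hy
    exact (mem_preimageAlong.mp (hP1 hx)).2
  obtain ⟨g₂, hg₂, hg₂x⟩ := IsInvariantIn.transport C.hE.1.2.2 hm hg' (autOf_mem hl' him)
  have hβ : ∀ {x}, x ∈ TT θ T' → autFun (autOf hl' him) (th θ x) = th θ (l x) := fun {x} hx => by
    rw [autFun_autOf hl' him (mem_preimageAlong.mp hx).2, hll x hx]
  have hT'S : T' ≤ S' := C.hE.1.2.2.2.1.1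
  have he : img (autFun (autOf hl' him)) (imageAlong θ (img a P)) = imageAlong θ P := by
    have hmm := (mapTo_of_mem_autGroup hT'S (autOf_mem hl' him)).restrict hm
    ext y
    rw [hmm.mem_img_iff le_rfl, mem_imageAlong (hP.trans C.T_le)]
    constructor
    · rintro ⟨w, hw, rfl⟩
      obtain ⟨x, hx, rfl⟩ := (mem_imageAlong (hP1.trans C.T_le)).mp hw
      obtain ⟨x₀, hx₀, rfl⟩ := ((A.map.restrict hP).mem_img_iff le_rfl).mp hx
      exact ⟨x₀, hx₀, by rw [hβ (hP1 hx), A.la _ (hP hx₀)]⟩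
    · rintro ⟨x, hx, rfl⟩
      exact ⟨th θ (a x), th_mem_imageAlong (hP1.trans C.T_le) (mem_img_of_mem hx),
        by rw [hβ (A.mem (hP hx)), A.la _ (hP hx)]⟩
  refine ⟨g₂, he ▸ hg₂, fun x hx => ?_⟩
  have h1 := hg₂x _ (th_mem_imageAlong (hP1.trans C.T_le) (mem_img_of_mem hx))
  rw [hβ (A.mem (hP hx)), A.la _ (hP hx), hgg _ (mem_img_of_mem hx),
    hβ (hg.mem C (mem_img_of_mem hx))] at h1
  exact h1

theorem AutT.lmap' (A : AutT F θ T' a l) [Finite S] (C : Ctx F F' θ E' p ι) (hP : P ≤ TT θ T')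
    (hg : LMap F θ E' P g) : LMap F θ E' (img a P) fun y => a (g (l y)) := by
  refine A.symm.lmap C (A.img_le hP) ?_
  rwa [A.img_img_inv hP]

theorem AutT.tw (A : AutT F θ T' a l) [Finite S] (C : Ctx F F' θ E' p ι) (hP : P ≤ TT θ T') :
    Tw F θ E' P (img a P) a l := by
  refine ⟨A.map.restrict hP, rfl, A.inv, A.img_inv, fun g hg => A.lmap C hP hg, fun g hg => ?_⟩
  refine ⟨_, A.lmap' C hP hg, fun x hx => ?_⟩
  show g x = l (a (g (l (a x))))
  rw [A.la x (hP hx), A.la _ (hg.mem C hx)]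

variable [Finite S] [Fact p.Prime]

theorem AutT.cp (A : AutT F θ T' a l) (C : Ctx F F' θ E' p ι) (hP : CP θ E' P) :
    CP θ E' (img a P) :=
  hP.img_map C (A.map.restrict hP.le)

theorem AutT.img_normalizer (A : AutT F θ T' a l) (hP : P ≤ TT θ T') :
    img a (normalizerIn (TT θ T') P) = normalizerIn (TT θ T') (img a P) := by
  have hTS : TT θ T' ≤ S := preimageAlong_le
  refine le_antisymm (img_le_of_forall fun x hx => mem_normalizerIn.mpr ⟨A.mem hx.1,
    (A.map.map_mem_normalizerIn hP hx.1 ⟨hTS hx.1, hx.2⟩).2⟩) fun y hy => ?_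
  have h1 := A.inv.map_mem_normalizerIn (A.img_le hP) hy.1 ⟨hTS hy.1, hy.2⟩
  rw [A.img_img_inv hP] at h1
  rw [← A.al y hy.1]
  exact mem_img_of_mem (mem_normalizerIn.mpr ⟨A.symm.mem hy.1, h1.2⟩)

theorem DD_congr_right (C : Ctx F F' θ E' p ι) (hP : CP θ E' P) (h₁ : IsSec F θ E' P σ₁)
    (h₂ : IsSec F θ E' P σ₂) (h : ∀ o ∈ Cls F θ E' P, ∀ x ∈ P, σ₃ o x = σ₂ o x) :
    DD F θ E' ι P σ₁ σ₃ = DD F θ E' ι P σ₁ σ₂ := by
  have h₃ : IsSec F θ E' P σ₃ := fun o ho => mem_congr C ho (h₂ o ho) (h o ho)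
  rw [DD_trans C hP h₁ h₂ h₃, DD_self C hP h₂ h, add_zero]

omit [Finite S] [Fact p.Prime] in
theorem pull_congr (C : Ctx F F' θ E' p ι) (hh : ∀ x ∈ P, h₂ x = h x) (ho : o ∈ Cls F θ E' P) :
    ∀ x ∈ P, pull F θ E' Q h₂ f σ o x = pull F θ E' Q h f σ o x := by
  intro x hx
  have e : push F θ E' Q h₂ f o = push F θ E' Q h f o :=
    Set.ext fun g => and_congr_right fun _ => mem_congr_iff C ho fun y hy => by
      show f (g (h₂ y)) = f (g (h y))
      rw [hh y hy]
  simp only [pull, e, hh x hx]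

theorem res_res (C : Ctx F F' θ E' p ι) (hP : CP θ E' P) (hPR : P ≤ R) (hR : R ≤ TT θ T')
    (b : Hq θ ι (TT θ T')) : pbk θ ι P R (fun x => x) (pbk θ ι R (TT θ T') (fun x => x) b) =
      pbk θ ι P (TT θ T') (fun x => x) b := by
  rw [← cls_out b, res_cls C (hP.mono hPR hR) hR le_rfl, res_cls C hP hPR hR,
    res_cls C hP hP.le le_rfl]

/-- The transported family. -/
noncomputable def secA (C : Ctx F F' θ E' p ι) (a l : Ω → Ω) (P : Subgroup Ω) :
    Set (Ω → Ω) → (Ω → Ω) :=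
  pull F θ E' (img a P) a l (sec C (img a P))

theorem AutT.isSec_secA (A : AutT F θ T' a l) (C : Ctx F F' θ E' p ι) (hP : CP θ E' P) :
    IsSec F θ E' P (secA C a l P) :=
  isSec_pull C (A.tw C hP.le) (isSec_sec C (A.cp C hP))

theorem AutT.dd_secA (A : AutT F θ T' a l) (C : Ctx F F' θ E' p ι) : ∀ P, CP θ E' P →
    DD F θ E' ι P (sec C P) (secA C a l P) = pbk θ ι P (TT θ T') (fun x => x)
      (DD F θ E' ι (TT θ T') (sec C (TT θ T')) (secA C a l (TT θ T'))) := by
  intro P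
  induction hk : Nat.card (TT θ T') - Nat.card P using Nat.strong_induction_on generalizing P with
  | h k ih =>
  intro hP
  by_cases hne : P = TT θ T'
  · subst hne
    conv_lhs => rw [← cls_out (DD F θ E' ι (TT θ T') (sec C (TT θ T')) (secA C a l (TT θ T')))]
    rw [← res_cls C hP le_rfl le_rfl, cls_out]
  have hlt := card_lt_normalizer C hP hne
  have hN := norms_normalizer C hP
  have hNcp := hP.mono hN.1 hN.2.1
  have hQ := A.cp C hP
  have hQne : img a P ≠ TT θ T' := fun he => by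
    have hc := (A.map.restrict hP.le).card_img le_rfl
    rw [he] at hc
    omega
  have hN' := norms_normalizer C hQ
  have he := A.img_normalizer (T' := T') hP.le
  have twR : Tw F θ E' (normalizerIn (TT θ T') P) (normalizerIn (TT θ T') (img a P)) a l := by
    rw [← he]; exact A.tw C hN.2.1
  have hpull := Ext.pull C (A.tw C hP.le) twR hP hQ hN hN' (isSec_sec C (hQ.mono hN'.1 hN'.2.1))
    ((sec_spec C _ hQ).2 hQne)
  rw [← he] at hpull
  have h := Ext.DD_eq C hP hN (isSec_sec C hNcp) (A.isSec_secA C hNcp) ((sec_spec C P hP).2 hne)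
    hpull
  show DD F θ E' ι P (sec C P) (CentralLift.pull F θ E' (img a P) a l (sec C (img a P))) = _
  rw [h]
  show pbk θ ι P _ _ (DD F θ E' ι _ (sec C _) (secA C a l _)) = _
  rw [ih _ (by omega) _ rfl hNcp, res_res C hP hN.1 hN.2.1]

/-- Transport of generating maps. -/
theorem AutT.W_transport (A : AutT F θ T' a l) (C : Ctx F F' θ E' p ι) (hP : CP θ E' P)
    (hf : LMap F θ E' P f) (hW : W C P f = 0) :
    W C (img a P) (fun y => a (f (l y))) = 0 := by
  set g : Ω → Ω := fun y => a (f (l y)) with hgd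
  have hg : LMap F θ E' (img a P) g := A.lmap' C hP.le hf
  have hQ := hP.img C hf
  have hQ₁ := A.cp C hQ
  have hP₁ := A.cp C hP
  have hga : ∀ x ∈ P, g (a x) = a (f x) := fun x hx => by rw [hgd]; simp only [A.la x (hP.le hx)]
  have hi : img g (img a P) = img a (img f P) := by
    rw [(A.map.restrict hP.le).img_img le_rfl, hf.1.img_img le_rfl]
    exact img_congr hga
  have tw := A.tw C hP.le (E' := E')
  have twf := Tw.of_lmap C hf
  have twg := Tw.of_lmap C hg
  have hsecg := isSec_pull C twg (isSec_sec C (hP₁.img C hg))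
  set b := DD F θ E' ι (TT θ T') (sec C (TT θ T')) (secA C a l (TT θ T'))
  have hb : Real F θ ι (TT θ T') b :=
    real_DD C (cp_top C) (isSec_sec C (cp_top C)) (A.isSec_secA C (cp_top C))
  have hsA := A.isSec_secA C hP
  have hmid : IsSec F θ E' P
      (CentralLift.pull F θ E' (img f P) f (fun x => x) (secA C a l (img f P))) :=
    isSec_pull C twf (A.isSec_secA C hQ)
  have h1 : pbk θ ι P (img a P) a (W C (img a P) g) = DD F θ E' ι P (secA C a l P)
      (CentralLift.pull F θ E' (img f P) f (fun x => x) (secA C a l (img f P))) := by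
    rw [W, ← DD_pull C tw hP hP₁ (isSec_sec C hP₁) hsecg]
    refine DD_congr_right C hP hsA hmid fun o ho x hx => ?_
    unfold secA
    rw [pull_pull C twg, pull_pull C (A.tw C hQ.le), hi]
    exact pull_congr C hga ho x hx
  have h2 : DD F θ E' ι P (secA C a l P)
      (CentralLift.pull F θ E' (img f P) f (fun x => x) (secA C a l (img f P))) = 0 := by
    rw [DD_trans C hP hsA (isSec_sec C hP) hmid,
      DD_trans C hP (isSec_sec C hP) (isSec_pull C twf (isSec_sec C hQ)) hmid,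
      DD_symm C hP (isSec_sec C hP) hsA, A.dd_secA C P hP,
      DD_pull C twf hP hQ (isSec_sec C hQ) (A.isSec_secA C hQ), A.dd_secA C _ hQ,
      pbk_res_eq C hP hf hb]
    have hW' : DD F θ E' ι P (sec C P)
        (CentralLift.pull F θ E' (img f P) f (fun x => x) (sec C (img f P))) = 0 := hW
    rw [hW', zero_add, neg_add_cancel]
  rw [h2] at h1
  obtain ⟨v, hv⟩ : ∃ v, W C (img a P) g = cls θ ι (img a P) v := ⟨_, (cls_out _).symm⟩
  rw [hv, pbk_cls C tw.map_h rfl hP.1 hP₁.le_S] at h1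
  have h3 := cls_comp C (A.inv.restrict hP₁.le) (A.img_img_inv hP.le) hP₁.1 hP.le_S
    (h1.trans (map_zero (cls θ ι P)).symm)
  rw [hv, cls_congr C hP₁.le_S (v := v) (w := fun y => v (a (l y))) fun y hy => by
    show v y = v (a (l y)); rw [A.al y (hP₁.le hy)], h3]
  exact (cls_congr C hP₁.le_S (w := 0) fun _ _ => rfl).trans (map_zero _)

/-- The maps of the system which can be transported. -/
theorem AutT.transport (A : AutT F θ T' a l) (C : Ctx F F' θ E' p ι)
    (hf : MapTo (eSys C) P f) :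
    ∃ g, MapTo (eSys C) (img a P) g ∧ ∀ x ∈ P, g (a x) = a (f x) := by
  have haT : ∀ {R : Subgroup Ω}, R ≤ TT θ T' → MapTo F R a := fun h => A.map.restrict h
  let D : FusionSystem (TT θ T') := restrictSys (eSys C)
    (fun P f => ∃ g, MapTo (eSys C) (img a P) g ∧ ∀ x ∈ P, g (a x) = a (f x))
    (fun {P f g} _ ⟨k, hk, hkx⟩ hfg => ⟨k, hk, fun x hx => by rw [hfg x hx]; exact hkx x hx⟩)
    (fun {P t} hP ht => ⟨cj (a t), mapTo_cj (A.img_le hP) (A.mem ht), fun x hx => by
      simp only [cj_apply]; rw [A.map.map_conj ht (hP hx)]⟩)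
    (fun {P Q f g} hf hg hfQ ⟨k, hk, hkx⟩ ⟨m, hm, hmx⟩ => ⟨fun y => m (k y), hk.comp hm
      (fun y hy => by
        obtain ⟨x, hx, rfl⟩ := ((haT hf.le).mem_img_iff le_rfl).mp hy
        rw [hkx x hx]; exact mem_img_of_mem (hfQ x hx)),
      fun x hx => by
        show m (k (a x)) = a (g (f x))
        rw [hkx x hx, hmx _ (hfQ x hx)]⟩)
    (fun {P f g} hf hg hgf ⟨k, hk, hkx⟩ => by
      obtain ⟨m, hm, hmk, -, -⟩ := hk.exists_iso_inverse
      have he : img a (img f P) = img k (img a P) := by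
        rw [hf.img_img le_rfl a, (haT hf.le).img_img le_rfl k]
        exact img_congr fun x hx => (hkx x hx).symm
      refine ⟨m, he ▸ hm, fun y hy => ?_⟩
      obtain ⟨x, hx, rfl⟩ := (hf.mem_img_iff le_rfl).mp hy
      rw [← hkx x hx, hmk _ (mem_img_of_mem hx), hgf x hx])
  have hD : Good C D := by
    intro Q g hQ hg hW
    obtain ⟨φ, hφ, hφg⟩ := good_eSys C Q g hQ hg hW
    refine ⟨φ, ⟨hφ, _, good_eSys C _ _ (A.cp C hQ) (A.lmap' C hQ.le hg)
      (A.W_transport C hQ hg hW), fun x hx => ?_⟩, hφg⟩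
    show a (g (l (a x))) = a (ev φ x)
    rw [A.la x (hQ.le hx), ev_apply φ hx]
    exact congrArg a (hφg ⟨x, hx⟩).symm
  obtain ⟨φ, ⟨-, g, hg, hgx⟩, hφf⟩ := eSys_induction C hD hf
  exact ⟨g, hg, fun x hx => by rw [hgx x hx, ev_apply φ hx]; exact congrArg a (hφf ⟨x, hx⟩)⟩

end Cfsg.Agent.Fusion.CentralLift
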