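import Cfsg.Agent.Lib.Fusion.CentralLift.Canon
import Cfsg.Agent.Lib.Fusion.Generation
import Cfsg.Agent.Lib.Fusion.SaturationCriterionMain
import Cfsg.Agent.Lib.Fusion.ImageSaturation

/-!
The lifted subsystem: generated by the lifts of invariant zero on subgroups with centric image.
-/

set_option autoImplicit false

namespace Cfsg.Agent.Fusion.CentralLift

open Cfsg.FusionSystem (centralizerIn normalizerIn imageAlong preimageAlong)

universe u v

variable {Ω : Type u} [Group Ω] {S : Subgroup Ω} {Ω' : Type v} [Group Ω'] {S' T' : Subgroup Ω'}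
variable {F : FusionSystem S} {F' : FusionSystem S'} {θ : S →* Ω'} {E' : FusionSystem T'}
  {p : ℕ} {ι : Ω → ZMod p} {P Q R : Subgroup Ω} {P' Q' : Subgroup Ω'} {f g k : Ω → Ω}

/-- All lifts of maps of `E'`. -/
def lSys [Finite S] (C : Ctx F F' θ E' p ι) : FusionSystem (TT θ T') where
  Hom P := {φ | LMap F θ E' P (ev φ)}
  le_of_mem := fun {P φ} h => ⟨h.2.1, fun x => ev_coe φ x ▸ h.mem C x.2⟩
  injective_of_mem := fun {P φ} h => F.injective_of_mem (mapTo_ev_iff.mp h.1)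
  conj_mem := fun {P g} hP hg => (LMap.cj_mem hP hg).congr fun x hx => by rw [ev_apply _ hx]; rfl
  comp_mem := fun {P Q φ ψ} hφ hψ hQ =>
    (hφ.comp hψ fun x hx => ev_apply φ hx ▸ hQ ⟨x, hx⟩).congr fun x hx => by
      rw [ev_apply _ hx, ev_apply φ hx, ev_apply ψ (hQ ⟨x, hx⟩)]; rfl
  inv_mem := fun {P φ} hφ => by
    obtain ⟨k, hk, hkφ, -, -⟩ := hφ.exists_inverse C
    rw [← range_eq_img_ev φ] at hk
    obtain ⟨ψ, hψ, hψk⟩ := id hk.1
    refine ⟨ψ, hk.congr fun y hy => ?_, fun x => ?_⟩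
    · rw [ev_apply ψ hy]; exact hψk ⟨y, hy⟩
    · rw [hψk ⟨φ x, ⟨x, rfl⟩⟩, ← hkφ x x.2, ev_coe]

theorem mapTo_lSys_iff [Finite S] (C : Ctx F F' θ E' p ι) :
    MapTo (lSys C) P f ↔ LMap F θ E' P f := by
  refine ⟨fun ⟨φ, hφ, hφf⟩ => hφ.congr fun x hx => ?_, fun h => ?_⟩
  · rw [ev_apply φ hx]; exact (hφf ⟨x, hx⟩).symm
  · obtain ⟨φ, -, hφf⟩ := id h.1
    exact ⟨φ, h.congr fun x hx => by rw [ev_apply φ hx]; exact hφf ⟨x, hx⟩, hφf⟩

theorem eq_of_ι (C : Ctx F F' θ E' p ι) {a b : Ω} (ha : a ∈ kerIn θ) (hb : b ∈ kerIn θ)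
    (h : ι a = ι b) : a = b := by
  refine mul_inv_eq_one.mp (C.ι_eq_zero _ (Subgroup.mul_mem _ ha (Subgroup.inv_mem _ hb)) ?_)
  rw [C.ι_mul _ ha _ (Subgroup.inv_mem _ hb), C.ι_inv hb, h, add_neg_cancel]

variable [Finite S] [Fact p.Prime]

/-- The invariant vanishes on every subgroup with centric image. -/
def CondW (C : Ctx F F' θ E' p ι) (P : Subgroup Ω) (f : Ω → Ω) : Prop :=
  ∀ R, R ≤ P → CP θ E' R → W C R f = 0

theorem condW_cj (C : Ctx F F' θ E' p ι) {t : Ω} (ht : t ∈ TT θ T') :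
    CondW C P (cj t) := fun _ _ hR => W_cj C ht hR

theorem W_id (C : Ctx F F' θ E' p ι) (hP : CP θ E' P) (h : ∀ x ∈ P, f x = x) : W C P f = 0 := by
  rw [W_congr C hP (LMap.id hP.le) h]
  have e : (fun x : Ω => x) = cj 1 := funext fun x => (cj_one x).symm
  rw [e]
  exact W_cj C (Subgroup.one_mem _) hP

/-- The lifts on which the invariant vanishes everywhere. -/
noncomputable def d1 (C : Ctx F F' θ E' p ι) : FusionSystem (TT θ T') :=
  restrictSys (lSys C) (CondW C)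
    (fun {P f g} hf h hfg R hR hRc => (W_congr C hRc (((mapTo_lSys_iff C).mp hf).restrict hR)
      fun x hx => hfg x (hR hx)).trans (h R hR hRc))
    (fun {P g} _ hg => condW_cj C hg)
    (fun {P Q f g} hf hg hfQ h₁ h₂ R hR hRc => by
      have hfR := ((mapTo_lSys_iff C).mp hf).restrict hR
      have hQR : img f R ≤ Q := img_le_of_forall fun x hx => hfQ x (hR hx)
      rw [W_comp C hRc hfR (((mapTo_lSys_iff C).mp hg).restrict hQR), h₁ R hR hRc,
        h₂ _ hQR (hRc.img C hfR), zero_add, pbk_zero C hfR.1 rfl hRc.1 (hRc.img C hfR).le_S])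
    (fun {P f g} hf hg hgf h R hR hRc => by
      have hgR := ((mapTo_lSys_iff C).mp hg).restrict hR
      have hfg : ∀ y ∈ R, f (g y) = y := fun y hy => by
        obtain ⟨x, hx, rfl⟩ := (hf.mem_img_iff le_rfl).mp (hR hy)
        rw [hgf x hx]
      have hgP : img g R ≤ P := img_le_of_forall fun y hy => by
        obtain ⟨x, hx, rfl⟩ := (hf.mem_img_iff le_rfl).mp (hR hy)
        rw [hgf x hx]; exact hx
      have h1 := W_id C hRc hfg
      rw [W_comp C hRc hgR (((mapTo_lSys_iff C).mp hf).restrict hgP), h _ hgP (hRc.img C hgR),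
        pbk_zero C hgR.1 rfl hRc.1 (hRc.img C hgR).le_S, add_zero] at h1
      exact h1)

theorem mapTo_d1_iff (C : Ctx F F' θ E' p ι) :
    MapTo (d1 C) P f ↔ LMap F θ E' P f ∧ CondW C P f := by
  refine ⟨fun ⟨φ, ⟨hφ, hφW⟩, hφf⟩ => ?_, fun ⟨hf, hW⟩ => ?_⟩
  · have e : ∀ x ∈ P, f x = ev φ x := fun x hx => by
      rw [ev_apply φ hx]; exact (hφf ⟨x, hx⟩).symm
    exact ⟨LMap.congr hφ e, fun R hR hRc =>
      (W_congr C hRc (LMap.restrict hφ hR) fun x hx => e x (hR hx)).trans (hφW R hR hRc)⟩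
  · obtain ⟨φ, hφ, hφf⟩ := (mapTo_lSys_iff C).mpr hf
    exact ⟨φ, ⟨hφ, fun R hR hRc => (W_congr C hRc (hf.restrict hR) fun x hx => by
      rw [ev_apply φ (hR hx)]; exact hφf ⟨x, hR hx⟩).trans (hW R hR hRc)⟩, hφf⟩

/-- The system contains the generating maps. -/
def Good (C : Ctx F F' θ E' p ι) (D : FusionSystem (TT θ T')) : Prop :=
  ∀ Q g, CP θ E' Q → LMap F θ E' Q g → W C Q g = 0 → MapTo D Q g

theorem good_d1 (C : Ctx F F' θ E' p ι) : Good C (d1 C) := fun Q g hQ hg hW =>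
  (mapTo_d1_iff C).mpr ⟨hg, fun R hR hRc => by
    rw [W_res C hRc hR hg, hW, res_zero C hRc hR hQ.le]⟩

/-- The generated system. -/
noncomputable def eSys (C : Ctx F F' θ E' p ι) : FusionSystem (TT θ T') where
  Hom P := {φ | ∀ D, Good C D → φ ∈ D.Hom P}
  le_of_mem := fun {P φ} h => (d1 C).le_of_mem (h _ (good_d1 C))
  injective_of_mem := fun {P φ} h => (d1 C).injective_of_mem (h _ (good_d1 C))
  conj_mem := fun {P g} hP hg D _ => D.conj_mem hP hg
  comp_mem := fun {P Q φ ψ} hφ hψ hQ D hD => D.comp_mem (hφ D hD) (hψ D hD) hQ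
  inv_mem := fun {P φ} hφ => by
    obtain ⟨ψ, -, hψφ⟩ := (d1 C).inv_mem (hφ _ (good_d1 C))
    refine ⟨ψ, fun D hD => ?_, hψφ⟩
    obtain ⟨ψ', hψ', hψ'φ⟩ := D.inv_mem (hφ D hD)
    have e : ψ = ψ' := MonoidHom.ext fun ⟨y, x, hxy⟩ => by
      subst hxy
      exact (hψφ x).trans (hψ'φ x).symm
    exact e ▸ hψ'

theorem mapTo_eSys (C : Ctx F F' θ E' p ι) (h : MapTo (eSys C) P f) :
    LMap F θ E' P f ∧ CondW C P f := by
  obtain ⟨φ, hφ, hφf⟩ := h
  exact (mapTo_d1_iff C).mp ⟨φ, hφ _ (good_d1 C), hφf⟩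

theorem good_eSys (C : Ctx F F' θ E' p ι) : Good C (eSys C) := by
  intro Q g hQ hg hW
  obtain ⟨φ, -, hφg⟩ := id hg.1
  exact ⟨φ, fun D hD => (hD Q g hQ hg hW).hom_mem hφg, hφg⟩

theorem eSys_induction (C : Ctx F F' θ E' p ι) {D : FusionSystem (TT θ T')} (hD : Good C D)
    (h : MapTo (eSys C) P f) : MapTo D P f := by
  obtain ⟨φ, hφ, hφf⟩ := h
  exact ⟨φ, hφ D hD, hφf⟩

theorem mapTo_eSys_iff (C : Ctx F F' θ E' p ι) (hP : CP θ E' P) :
    MapTo (eSys C) P f ↔ LMap F θ E' P f ∧ W C P f = 0 :=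
  ⟨fun h => ⟨(mapTo_eSys C h).1, (mapTo_eSys C h).2 P le_rfl hP⟩,
    fun h => good_eSys C P f hP h.1 h.2⟩

/-! ### Lifts with vanishing invariant -/

theorem exists_adjust (C : Ctx F F' θ E' p ι) (hP : CP θ E' P) (hf : LMap F θ E' P f) :
    ∃ g, MapTo (eSys C) P g ∧ ∀ x ∈ P, th θ (g x) = th θ (f x) := by
  have hQ := hP.img C hf
  have hreal : Real F θ ι P (W C P f) :=
    real_DD C hP (isSec_sec C hP) (isSec_pull C (Tw.of_lmap C hf) (isSec_sec C hQ))
  set c := (clsF F θ E' P).card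
  set n := (-((c : ZMod p))⁻¹).val with hn
  obtain ⟨k, hk, hkz, hkc⟩ := real_nsmul C hP.le_S hP.1 hreal n
  obtain ⟨hkL, hkimg, hWk⟩ := W_ker C hP hk hkz
  have hkP : ∀ x ∈ P, k x ∈ P := fun x hx => hkimg ▸ mem_img_of_mem hx
  have hfk : LMap F θ E' P fun x => f (k x) := hkL.comp hf hkP
  refine ⟨fun x => f (k x), good_eSys C P _ hP hfk ?_, fun x hx => ?_⟩
  · rw [W_comp C hP hkL (hkimg.symm ▸ hf), hWk, hkimg, ← hkc, smul_smul]
    have hpb : pbk θ ι P P k (W C P f) = W C P f := by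
      obtain ⟨l, hl, hlz, hle⟩ := hreal
      rw [hle, pbk_cls C hk hkimg hP.1 hP.le_S]
      refine cls_congr C hP.le_S fun x hx => congrArg ι ?_
      have hz := hkz x hx
      rw [show k x = x * (x⁻¹ * k x) by group, hl.map_mul hx (hP.1 hz), C.fix hl hz (hP.1 hz)]
      set w := x⁻¹ * k x with hw
      rw [show (x * w)⁻¹ * (l x * w) = w⁻¹ * (x⁻¹ * l x) * w⁻¹⁻¹ by group,
        C.conj_ker (hlz x hx) (S.inv_mem (kerIn_le hz))]
    rw [hpb]
    conv_lhs => arg 2; rw [← one_smul ℕ (W C P f)]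
    rw [← add_smul]
    have hdvd : p ∣ c * n + 1 := by
      rw [← ZMod.natCast_eq_zero_iff, Nat.cast_add, Nat.cast_mul, Nat.cast_one, hn,
        ZMod.natCast_val, ZMod.cast_id, mul_neg, mul_inv_cancel₀ (card_cls_ne_zero C hP),
        neg_add_cancel]
    obtain ⟨d, hd⟩ := hdvd
    rw [hd, mul_comm, mul_smul, nsmul_p_eq_zero, smul_zero]
  · obtain ⟨f', hf', hff⟩ := hf.2.2
    rw [← hff x hx, ← hff _ (hkP x hx),
      (th_eq_iff (hP.le_S hx) (hk.mem hx)).mpr (hkz x hx)]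

/-- Two maps inducing the same map differ by an inner automorphism. -/
theorem eq_comp_inner (C : Ctx F F' θ E' p ι) (hP : CP θ E' P) (hf : MapTo (eSys C) P f)
    (hg : MapTo (eSys C) P g) (h : ∀ x ∈ P, th θ (g x) = th θ (f x)) :
    ∃ u ∈ P, ∀ x ∈ P, g x = f (cj u x) := by
  obtain ⟨hfL, -⟩ := mapTo_eSys C hf
  obtain ⟨hgL, -⟩ := mapTo_eSys C hg
  obtain ⟨l, hl, hlf, hfl, -⟩ := hf.exists_iso_inverse
  have hlL := (mapTo_eSys C hl).1
  have hgm : ∀ x ∈ P, g x ∈ img f P := fun x hx => by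
    rw [show g x = f x * ((f x)⁻¹ * g x) by group]
    exact Subgroup.mul_mem _ (mem_img_of_mem hx) (C.img_ker hfL.1 hP.1
      ((th_eq_iff (hfL.1.mem hx) (hgL.1.mem hx)).mp (h x hx).symm))
  have hk : MapTo (eSys C) P fun x => l (g x) := hg.comp hl hgm
  obtain ⟨hkL, hkW⟩ := mapTo_eSys C hk
  have hkz : ∀ x ∈ P, x⁻¹ * l (g x) ∈ kerIn θ := fun x hx => by
    obtain ⟨l', -, hll⟩ := hlL.2.2
    rw [← th_eq_iff (hP.le_S hx) (hlL.1.mem (hgm x hx)), ← hll _ (hgm x hx), h x hx,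
      hll _ (mem_img_of_mem hx), hlf x hx]
  obtain ⟨-, -, hWk⟩ := W_ker C hP hkL.1 hkz
  have h0 := hkW P le_rfl hP
  rw [hWk] at h0
  have hcls : cls θ ι P (fun x => ι (x⁻¹ * l (g x))) = 0 := by
    obtain ⟨m, hm⟩ : ∃ m : ℕ, p ∣ m * (clsF F θ E' P).card + (p - 1) := by
      refine ⟨(((clsF F θ E' P).card : ZMod p))⁻¹.val, ?_⟩
      rw [← ZMod.natCast_eq_zero_iff, Nat.cast_add, Nat.cast_mul, ZMod.natCast_val, ZMod.cast_id,
        inv_mul_cancel₀ (card_cls_ne_zero C hP), Nat.cast_sub (Fact.out : p.Prime).one_le,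
        Nat.cast_one, ZMod.natCast_self]
      ring
    obtain ⟨d, hd⟩ := hm
    set a := cls θ ι P fun x => ι (x⁻¹ * l (g x))
    have h1 : (p * d) • a = (m * (clsF F θ E' P).card) • a + (p - 1) • a := by
      rw [← add_smul, hd]
    rw [mul_smul, nsmul_p_eq_zero, mul_smul, h0, smul_zero, zero_add] at h1
    have h2 : (p - 1 + 1) • a = 0 := by
      rw [Nat.sub_add_cancel (Fact.out : p.Prime).one_le, nsmul_p_eq_zero]
    rwa [add_smul, ← h1, zero_add, one_smul] at h2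
  obtain ⟨u, hu, huz, huv⟩ := (cls_eq_zero_iff C hP.le_S).mp hcls
  refine ⟨u, hu, fun x hx => ?_⟩
  have := eq_of_ι C (hkz x hx) (huz x hx) (huv x hx)
  rw [mul_right_inj] at this
  rw [cj_apply, ← this, hfl _ (hgm x hx)]

/-- Every map of `E'` lifts to the system. -/
theorem exists_eSys_lift (C : Ctx F F' θ E' p ι) {f' : Ω' → Ω'} (hf' : MapTo E' P' f') :
    ∃ g, MapTo (eSys C) (preimageAlong θ P') g ∧
      ∀ x ∈ preimageAlong θ P', f' (th θ x) = th θ (g x) := by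
  haveI := C.finite_T'
  have hT'p : IsPGroup p T' :=
    (C.hS.of_surjective θ.rangeRestrict θ.rangeRestrict_surjective).to_le C.T'_le
  have hpre : ∀ {A' : Subgroup Ω'}, A' ≤ T' → preimageAlong θ A' ≤ TT θ T' := fun hA x hx =>
    mem_preimageAlong.mpr ⟨(mem_preimageAlong.mp hx).1, hA (mem_preimageAlong.mp hx).2⟩
  refine alperin_prop hT'p C.hE.1.1
    (fun P' f' => ∃ g, MapTo (eSys C) (preimageAlong θ P') g ∧
      ∀ x ∈ preimageAlong θ P', f' (th θ x) = th θ (g x)) ?_ ?_ ?_ ?_ ?_ hf'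
  · rintro P f g - ⟨k, hk, hkx⟩ hfg
    exact ⟨k, hk, fun x hx => by rw [hfg _ (mem_preimageAlong.mp hx).2, hkx x hx]⟩
  · intro P t' hP ht'
    obtain ⟨t, ht, rfl⟩ := exists_preimage C.T'_le ht'
    exact ⟨cj t, mapTo_cj (hpre hP) ht, fun x hx => by
      rw [cj_apply, cj_apply, th_conj θ (C.T_le ht) (preimageAlong_le hx)]⟩
  · rintro A B f g hf hg hfB ⟨k, hk, hkx⟩ ⟨l, hl, hlx⟩
    have hm : ∀ x ∈ preimageAlong θ A, k x ∈ preimageAlong θ B := fun x hx =>
      mem_preimageAlong.mpr ⟨C.T_le (hk.mem hx), hkx x hx ▸ hfB _ (mem_preimageAlong.mp hx).2⟩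
    exact ⟨fun x => l (k x), hk.comp hl hm, fun x hx => by
      show g (f (th θ x)) = _
      rw [hkx x hx, hlx _ (hm x hx)]⟩
  · rintro A f g hf hg hgf ⟨k, hk, hkx⟩
    obtain ⟨hkL, -⟩ := mapTo_eSys C hk
    obtain ⟨l, hl, hlk, -, -⟩ := hk.exists_iso_inverse
    have hA : imageAlong θ (preimageAlong θ A) = A := imageAlong_preimageAlong (hf.le.trans C.T'_le)
    have hkf : ∀ x ∈ preimageAlong θ A, f (th θ x) = th θ (k x) := hkx
    have hi := img_induced hkL.1 (hA.symm ▸ hf) hkf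
    rw [hA] at hi
    have he : preimageAlong θ (img f A) = img k (preimageAlong θ A) := by
      rw [hi, preimageAlong_imageAlong hkL.1.img_le (C.img_ker hkL.1 kerIn_le_preimageAlong)]
    refine ⟨l, he ▸ hl, fun y hy => ?_⟩
    rw [he] at hy
    obtain ⟨x, hx, rfl⟩ := (hk.mem_img_iff le_rfl).mp hy
    rw [← hkx x hx, hlk x hx, hgf _ (mem_preimageAlong.mp hx).2]
  · intro Q' hQ' α hα
    have hc : E'.IsCentric Q' := by
      rcases hQ' with rfl | h
      · exact isCentric_top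
      · exact h.1
    have himQ := imageAlong_preimageAlong (θ := θ) (hc.1.trans C.T'_le)
    have hQ : CP θ E' (preimageAlong θ Q') := ⟨kerIn_le_preimageAlong, hpre hc.1, himQ.symm ▸ hc⟩
    have hα' : MapTo E' (imageAlong θ (preimageAlong θ Q')) (autFun α) := by
      rw [himQ]; exact mapTo_of_mem_autGroup hc.1 hα
    obtain ⟨g, hg, hgx⟩ := exists_lift_on C hQ.le_S hQ.1 hα'
    obtain ⟨k, hk, hkx⟩ := exists_adjust C hQ hg
    exact ⟨k, hk, fun x hx => by rw [hgx x hx, hkx x hx]⟩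

theorem exists_eSys_lift_on (C : Ctx F F' θ E' p ι) (hP : P ≤ S) (hZ : kerIn θ ≤ P)
    {g' : Ω' → Ω'} (hg' : MapTo E' (imageAlong θ P) g') :
    ∃ g, MapTo (eSys C) P g ∧ ∀ x ∈ P, g' (th θ x) = th θ (g x) := by
  obtain ⟨g, hg, hgg⟩ := exists_eSys_lift C hg'
  rw [preimageAlong_imageAlong hP hZ] at hg hgg
  exact ⟨g, hg, hgg⟩

/-! ### Saturation -/

theorem isPGroup_T (C : Ctx F F' θ E' p ι) : IsPGroup p (TT θ T') := C.hS.to_le C.T_le

theorem isFullyAutomized_eSys (C : Ctx F F' θ E' p ι) (hQ : CP θ E' Q)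
    (hQ' : E'.IsFullyNormalized (imageAlong θ Q)) : (eSys C).IsFullyAutomized p Q := by
  haveI := C.finite_T'
  haveI : Finite (TT θ T') := finite_of_le C.T_le
  haveI := finite_of_le hQ.le_S
  haveI := finite_mulAut Q
  have hQT' : imageAlong θ Q ≤ T' := hQ.2.2.1
  have hT'p : IsPGroup p T' :=
    (C.hS.of_surjective θ.rangeRestrict θ.rangeRestrict_surjective).to_le C.T'_le
  have hfa := isFullyAutomized_of_isFullyNormalized hT'p C.hE.1.1 hQ'
  have key : ∀ a : (eSys C).autGroup Q, ∃ b : E'.autGroup (imageAlong θ Q), ∀ x ∈ Q,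
      autFun (b : MulAut (imageAlong θ Q)) (th θ x) = th θ (autFun (a : MulAut Q) x) := by
    intro a
    obtain ⟨hL, -⟩ := mapTo_eSys C (mapTo_of_mem_autGroup hQ.le a.2)
    obtain ⟨g', hg', hgg⟩ := id hL.2.2
    have hi : img g' (imageAlong θ Q) = imageAlong θ Q := by
      rw [img_induced hL.1 hg' hgg, img_autFun]
    exact ⟨⟨autOf hg' hi, autOf_mem hg' hi⟩, fun x hx => by
      rw [autFun_autOf hg' hi (th_mem_imageAlong hQ.le_S hx), hgg x hx]⟩
  choose ρ₀ hρ₀ using key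
  let ρ : (eSys C).autGroup Q →* E'.autGroup (imageAlong θ Q) :=
    MonoidHom.mk' ρ₀ fun a b => Subtype.ext (autFun_ext fun y hy => by
      obtain ⟨x, hx, rfl⟩ := (mem_imageAlong hQ.le_S).mp hy
      rw [Subgroup.coe_mul, autFun_mul _ _ hy, hρ₀ (a * b) x hx, hρ₀ b x hx,
        hρ₀ a _ (autFun_mem _ hx), Subgroup.coe_mul, autFun_mul _ _ hx])
  have hρ : ∀ a, ∀ x ∈ Q, autFun (ρ a : MulAut (imageAlong θ Q)) (th θ x) =
      th θ (autFun (a : MulAut Q) x) := hρ₀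
  have hsurj : Function.Surjective ρ := by
    intro b
    obtain ⟨g, hg, hgg⟩ := exists_eSys_lift_on C hQ.le_S hQ.1 (mapTo_of_mem_autGroup hQT' b.2)
    have hgQ : ∀ x ∈ Q, g x ∈ Q := fun x hx => by
      rw [← preimageAlong_imageAlong hQ.le_S hQ.1]
      exact mem_preimageAlong.mpr ⟨C.T_le (hg.mem hx),
        hgg x hx ▸ autFun_mem _ (th_mem_imageAlong hQ.le_S hx)⟩
    refine ⟨⟨autOf hg (img_eq_self_of_forall hg hgQ), autOf_mem hg _⟩,
      Subtype.ext (autFun_ext fun y hy => ?_)⟩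
    obtain ⟨x, hx, rfl⟩ := (mem_imageAlong hQ.le_S).mp hy
    rw [hρ _ x hx, hgg x hx]
    exact congrArg (th θ) (autFun_autOf hg _ hx)
  have hcomap : (autInducedBy (TT θ T') Q).subgroupOf ((eSys C).autGroup Q) =
      ((autInducedBy T' (imageAlong θ Q)).subgroupOf (E'.autGroup (imageAlong θ Q))).comap ρ := by
    ext a
    rw [Subgroup.mem_comap, Subgroup.mem_subgroupOf, Subgroup.mem_subgroupOf,
      mem_autInducedBy_iff_cj, mem_autInducedBy_iff_cj]
    constructor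
    · rintro ⟨t, ht, htx⟩
      refine ⟨th θ t, (mem_preimageAlong.mp ht).2, fun y hy => ?_⟩
      obtain ⟨x, hx, rfl⟩ := (mem_imageAlong hQ.le_S).mp hy
      rw [hρ a x hx, htx x hx, cj_apply, cj_apply, th_conj θ (C.T_le ht) (hQ.le_S hx)]
    · rintro ⟨t', ht', htx⟩
      obtain ⟨t, ht, rfl⟩ := exists_preimage C.T'_le ht'
      obtain ⟨u, hu, hux⟩ := eq_comp_inner C hQ (mapTo_cj hQ.le ht)
        (mapTo_of_mem_autGroup hQ.le a.2) fun x hx => by
          rw [← hρ a x hx, htx _ (th_mem_imageAlong hQ.le_S hx), cj_apply, cj_apply,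
            th_conj θ (C.T_le ht) (hQ.le_S hx)]
      exact ⟨t * u, Subgroup.mul_mem _ ht (hQ.le hu), fun x hx => by rw [hux x hx, cj_mul]⟩
  refine (isFullyAutomized_iff (isPGroup_T C)).mpr ⟨hQ.le, ?_⟩
  rw [Subgroup.relIndex, hcomap, Subgroup.index_comap_of_surjective _ hsurj]
  exact ((isFullyAutomized_iff hT'p).mp hfa).2

theorem isReceptive_eSys (C : Ctx F F' θ E' p ι) (hQ : CP θ E' Q)
    (hQ' : E'.IsFullyNormalized (imageAlong θ Q)) : (eSys C).IsReceptive Q := by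
  haveI := C.finite_T'
  have hT'p : IsPGroup p T' :=
    (C.hS.of_surjective θ.rangeRestrict θ.rangeRestrict_surjective).to_le C.T'_le
  refine isReceptive_iff.mpr ⟨hQ.le, fun R f hf hfQ => ?_⟩
  obtain ⟨hfL, -⟩ := mapTo_eSys C hf
  obtain ⟨l, hl, hlf, -, hli⟩ := hfL.exists_inverse C
  have hR : CP θ E' R := by
    have := (hfQ.symm ▸ hQ : CP θ E' (img f R)).img C hl
    rwa [hli] at this
  obtain ⟨f', hf', hff⟩ := id hfL.2.2
  have hi : img f' (imageAlong θ R) = imageAlong θ Q := by rw [img_induced hfL.1 hf' hff, hfQ]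
  obtain ⟨g', hg', hgf'⟩ := (isReceptive_iff.mp
    (isReceptive_of_isFullyNormalized hT'p C.hE.1.1 hQ')).2 _ f' hf' hi
  set N := extSub (TT θ T') hf with hN
  have hNT : N ≤ TT θ T' := fun x hx => hx.1.1
  have hNS : N ≤ S := hNT.trans C.T_le
  have hRN : R ≤ N := le_extSub hf
  have hle : imageAlong θ N ≤ extSub T' hf' := by
    intro y hy
    obtain ⟨z, hz, rfl⟩ := (mem_imageAlong hNS).mp hy
    obtain ⟨⟨hzT, hzN⟩, h, hh, hx⟩ := hz
    obtain ⟨hzS, hz'⟩ := mem_preimageAlong.mp hzT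
    haveI := finite_of_le hR.le_S
    haveI : Finite (imageAlong θ R) := finite_of_le hR.2.2.1
    refine ⟨mem_normalizerIn_of_forall hR.2.2.1 hz' fun y hy => ?_, th θ h,
      (mem_preimageAlong.mp hh).2, fun y hy => ?_⟩
    · obtain ⟨x, hxR, rfl⟩ := (mem_imageAlong hR.le_S).mp hy
      rw [← th_conj θ hzS (hR.le_S hxR)]
      exact th_mem_imageAlong hR.le_S ((Subgroup.mem_normalizer_iff.mp hzN x).mp hxR)
    · obtain ⟨x, hxR, rfl⟩ := (mem_imageAlong hR.le_S).mp hy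
      have hm := (Subgroup.mem_normalizer_iff.mp hzN x).mp hxR
      rw [← th_conj θ hzS (hR.le_S hxR), hff _ hm, hx x hxR, hff x hxR,
        th_conj θ (C.T_le hh) (hfL.1.mem hxR)]
  obtain ⟨g, hg, hgg⟩ := exists_eSys_lift_on C hNS (hR.1.trans hRN) (hg'.restrict hle)
  obtain ⟨u, hu, hux⟩ := eq_comp_inner C hR hf (hg.restrict hRN) fun x hx => by
    rw [← hgg x (hRN hx), hgf' _ (th_mem_imageAlong hR.le_S hx), hff x hx]
  refine ⟨fun x => g (cj u⁻¹ x), (mapTo_cj hNT (Subgroup.inv_mem _ (hR.le hu))).comp hg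
    fun x hx => ?_, fun x hx => ?_⟩
  · rw [cj_apply]
    exact N.mul_mem (N.mul_mem (N.inv_mem (hRN hu)) hx) (N.inv_mem (N.inv_mem (hRN hu)))
  · have hm : cj u⁻¹ x ∈ R := by
      rw [cj_apply]
      exact R.mul_mem (R.mul_mem (R.inv_mem hu) hx) (R.inv_mem (R.inv_mem hu))
    show g (cj u⁻¹ x) = f x
    rw [hux _ hm, cj_cancel_inv]

theorem isSaturated_eSys (C : Ctx F F' θ E' p ι) : (eSys C).IsSaturated p := by
  haveI := C.finite_T'
  haveI : Finite (TT θ T') := finite_of_le C.T_le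
  refine isSaturated_of_generated (isPGroup_T C) (ℋ := {P | CP θ E' P}) (fun P hP Q hQ => ?_)
    (fun P hP => ?_) (fun D hD => ?_) (fun P hPc hP => ?_)
  · obtain ⟨g, hg, rfl⟩ := isConj_iff.mp hQ
    exact CP.img C hP (mapTo_eSys C hg).1
  · have hP' : imageAlong θ P ≤ T' := hP.2.2.1
    obtain ⟨Q', hQ', hQn⟩ := exists_isFullyNormalized (F := E') hP'
    obtain ⟨g', hg', hgi⟩ := isConj_iff.mp hQ'
    obtain ⟨g, hg, hgg⟩ := exists_eSys_lift_on C hP.le_S hP.1 hg'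
    obtain ⟨hgL, -⟩ := mapTo_eSys C hg
    have hi : imageAlong θ (img g P) = Q' := by rw [← img_induced hgL.1 hg' hgg, hgi]
    have hQ := hP.img C hgL
    rw [← hi] at hQn
    exact ⟨_, hg.isConj, isFullyAutomized_eSys C hQ hQn, isReceptive_eSys C hQ hQn⟩
  · intro P φ hφ
    exact hφ D fun Q g hQ hg hW => by
      obtain ⟨ψ, hψ, hψg⟩ := good_eSys C Q g hQ hg hW
      exact ⟨ψ, hD Q hQ hψ, hψg⟩
  · have hPT : P ≤ TT θ T' := hPc.1
    have hPS : P ≤ S := hPT.trans C.T_le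
    have hZP : kerIn θ ≤ P := fun z hz => centralizerIn_le_of_isCentric hPc
      (mem_centralizerIn.mpr ⟨C.Z_le_T hz, fun x hx => C.comm hz (hPS hx)⟩)
    have hP' : imageAlong θ P ≤ T' := fun y hy => by
      obtain ⟨x, hx, rfl⟩ := (mem_imageAlong hPS).mp hy
      exact (mem_preimageAlong.mp (hPT hx)).2
    have hnc : ¬ E'.IsCentric (imageAlong θ P) := fun h => hP ⟨hZP, hPT, h⟩
    simp only [FusionSystem.IsCentric, not_and, not_forall] at hnc
    obtain ⟨R', hR', hCR⟩ := hnc hP'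
    obtain ⟨y', hy'C, hy'R⟩ := SetLike.not_le_iff_exists.mp hCR
    obtain ⟨g', hg', hgi⟩ := isConj_iff.mp hR'
    obtain ⟨g, hg, hgg⟩ := exists_eSys_lift_on C hPS hZP hg'
    obtain ⟨hgL, -⟩ := mapTo_eSys C hg
    set R := img g P with hR
    have hRT : R ≤ TT θ T' := hg.img_le
    have hRS : R ≤ S := hRT.trans C.T_le
    have hZR : kerIn θ ≤ R := C.img_ker hgL.1 hZP
    have hi : imageAlong θ R = R' := by rw [← img_induced hgL.1 hg' hgg, hgi]
    have hRc : (eSys C).IsCentric R := isCentric_of_isConj hPc hg.isConj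
    obtain ⟨hy'T, hy'c⟩ := mem_centralizerIn.mp hy'C
    obtain ⟨y, hy, hyy⟩ := exists_preimage C.T'_le hy'T
    subst hyy
    have hyS := C.T_le hy
    have hyR : y ∉ R := fun h => hy'R (hi ▸ th_mem_imageAlong hRS h)
    have hyz : ∀ x ∈ R, x⁻¹ * (y * x * y⁻¹) ∈ kerIn θ := fun x hx => by
      refine (th_eq_iff (hRS hx) (S.mul_mem (S.mul_mem hyS (hRS hx)) (S.inv_mem hyS))).mp ?_
      rw [th_conj θ hyS (hRS hx), ← hy'c _ (hi ▸ th_mem_imageAlong hRS hx), mul_inv_cancel_right]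
    haveI := finite_of_le hRS
    haveI := finite_mulAut R
    have hyN : y ∈ normalizerIn (TT θ T') R := mem_normalizerIn_of_forall hRT hy fun x hx => by
      rw [show y * x * y⁻¹ = x * (x⁻¹ * (y * x * y⁻¹)) by group]
      exact R.mul_mem hx (hZR (hyz x hx))
    obtain ⟨γ, hγ⟩ := exists_conjAut (P := R) hyN.2
    have hγT : γ ∈ autInducedBy (TT θ T') R := mem_autInducedBy_iff_cj.mpr ⟨y, hy, hγ⟩
    refine ⟨R, hg.isConj, fun hle => ?_⟩
    have hEK : ∀ a ∈ (eSys C).autGroup R, a ∈ F.autGroup R := fun a ha =>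
      (mem_autGroup_iff hRS).mpr (mapTo_eSys C (mapTo_of_mem_autGroup hRT ha)).1.1
    set K := (kerAut C R hRS hZR).subgroupOf ((eSys C).autGroup R) with hK
    have hKn : K.Normal := by
      refine ⟨fun a ha b => Subgroup.mem_subgroupOf.mpr ⟨?_, fun x hx => ?_⟩⟩
      · exact hEK _ (b * a * b⁻¹).2
      · have ha' := (Subgroup.mem_subgroupOf.mp ha).2
        have hb := mapTo_of_mem_autGroup hRS (hEK _ b.2)
        have hm : autFun ((b : MulAut R)⁻¹) x ∈ R := autFun_mem _ hx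
        have hz := ha' _ hm
        rw [Subgroup.coe_mul, Subgroup.coe_mul, Subgroup.coe_inv, autFun_mul _ _ hx,
          autFun_mul _ _ hm]
        set w := (autFun ((b : MulAut R)⁻¹) x)⁻¹ *
          autFun (a : MulAut R) (autFun ((b : MulAut R)⁻¹) x) with hw
        rw [show autFun (a : MulAut R) (autFun ((b : MulAut R)⁻¹) x) =
            autFun ((b : MulAut R)⁻¹) x * w by rw [hw]; group,
          hb.map_mul hm (hZR hz), autFun_autFun_inv _ hx, C.fix hb hz (hZR hz),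
          inv_mul_cancel_left]
        exact hz
    have hKp : IsPGroup p K :=
      (isPGroup_kerAut C hRS hZR).comap_of_injective _ (Subgroup.subtype_injective _)
    have hγE := autInducedBy_le_autGroup (F := eSys C) hRT hγT
    have hmem : (⟨γ, hγE⟩ : (eSys C).autGroup R) ∈ pCore p ((eSys C).autGroup R) :=
      le_pCore hKn hKp (Subgroup.mem_subgroupOf.mpr ⟨hEK γ hγE, fun x hx => by
        rw [hγ x hx]; exact hyz x hx⟩)
    have hInn := hle ⟨hγT, _, hmem, rfl⟩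
    rw [inn_eq_autInducedBy] at hInn
    obtain ⟨r, hr, hrx⟩ := mem_autInducedBy_iff_cj.mp hInn
    refine hyR ?_
    have hc : r⁻¹ * y ∈ centralizerIn (TT θ T') R := by
      refine mem_centralizerIn.mpr ⟨Subgroup.mul_mem _ (Subgroup.inv_mem _ (hRT hr)) hy,
        fun x hx => ?_⟩
      have e : y * x * y⁻¹ = r * x * r⁻¹ := by rw [← cj_apply, ← hγ x hx, hrx x hx, cj_apply]
      calc x * (r⁻¹ * y) = r⁻¹ * (r * x * r⁻¹) * y := by group
        _ = r⁻¹ * y * x := by rw [← e]; group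
    have h2 := centralizerIn_le_of_isCentric hRc hc
    have h3 := R.mul_mem hr h2
    rwa [mul_inv_cancel_left] at h3

end Cfsg.Agent.Fusion.CentralLift
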