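import Cfsg.Agent.Lib.Fusion.CentralLift.Lift

/-!
Classes realised on the whole preimage are fixed by all lifts of maps of `E'`.
-/

set_option autoImplicit false

namespace Cfsg.Agent.Fusion.CentralLift

open Cfsg.FusionSystem (centralizerIn normalizerIn imageAlong preimageAlong)

universe u v

variable {Ω : Type u} [Group Ω] {S : Subgroup Ω} {Ω' : Type v} [Group Ω'] {S' T' : Subgroup Ω'}
variable {F : FusionSystem S} {F' : FusionSystem S'} {θ : S →* Ω'} {E' : FusionSystem T'}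
  {p : ℕ} {ι : Ω → ZMod p} {P Q R : Subgroup Ω} {P' Q' : Subgroup Ω'} {f g k : Ω → Ω} {z : Ω}

/-- The function attached to an element. -/
def vz (ι : Ω → ZMod p) (z : Ω) : Ω → ZMod p := fun x => ι (x⁻¹ * cj z x)

/-- The element centralizes `T` modulo the kernel. -/
def ZT (S : Subgroup Ω) (θ : S →* Ω') (T' : Subgroup Ω') (z : Ω) : Prop :=
  z ∈ S ∧ ∀ x ∈ TT θ T', x⁻¹ * cj z x ∈ kerIn θ

theorem vz_mul (C : Ctx F F' θ E' p ι) (hz : ZT S θ T' z) {x y : Ω} (hx : x ∈ TT θ T')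
    (hy : y ∈ TT θ T') : vz ι z (x * y) = vz ι z x + vz ι z y := by
  have hw := hz.2 x hx
  have e : (x * y)⁻¹ * cj z (x * y) = x⁻¹ * cj z x * (y⁻¹ * cj z y) := by
    set w := x⁻¹ * cj z x with hwd
    have h1 : cj z (x * y) = x * w * cj z y := by rw [hwd]; simp only [cj_apply]; group
    rw [h1, show (x * y)⁻¹ * (x * w * cj z y) = y⁻¹ * w * y⁻¹⁻¹ * (y⁻¹ * cj z y) by group,
      C.conj_ker hw (S.inv_mem (C.T_le hy))]
  rw [vz, vz, vz, e, C.ι_mul _ hw _ (hz.2 y hy)]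

theorem vz_mod (C : Ctx F F' θ E' p ι) (hz : ZT S θ T' z) {x y : Ω} (hx : x ∈ TT θ T')
    (hy : y ∈ S) (h : th θ x = th θ y) : vz ι z y = vz ι z x := by
  have hw := (th_eq_iff (C.T_le hx) hy).mp h
  rw [show y = x * (x⁻¹ * y) by group, vz_mul C hz hx (C.Z_le_T hw)]
  have : vz ι z (x⁻¹ * y) = 0 := by
    rw [vz, cj_apply, C.conj_ker hw hz.1, inv_mul_cancel, C.ι_one]
  rw [this, add_zero]

theorem vz_cj (C : Ctx F F' θ E' p ι) (hz : ZT S θ T' z) {t x : Ω} (ht : t ∈ TT θ T')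
    (hx : x ∈ TT θ T') : vz ι z (cj t x) = vz ι z x := by
  have h1 : vz ι z (1 : Ω) = 0 := by rw [vz, cj_apply, mul_one, mul_inv_cancel, mul_one, inv_one, C.ι_one]
  have h2 := vz_mul C hz ht (Subgroup.inv_mem _ ht)
  rw [mul_inv_cancel, h1] at h2
  rw [cj_apply, vz_mul C hz (Subgroup.mul_mem _ ht hx) (Subgroup.inv_mem _ ht), vz_mul C hz ht hx,
    add_right_comm, ← h2, zero_add]

theorem real_vz (C : Ctx F F' θ E' p ι) (hz : ZT S θ T' z) (hP : P ≤ TT θ T') :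
    Real F θ ι P (cls θ ι P (vz ι z)) :=
  ⟨cj z, mapTo_cj (hP.trans C.T_le) hz.1, fun x hx => hz.2 x (hP hx), rfl⟩

/-- Realized functions are constant on cosets of the kernel. -/
theorem realFun_mod (C : Ctx F F' θ E' p ι) (hk : MapTo F P k) (hZ : kerIn θ ≤ P)
    (hkz : ∀ x ∈ P, x⁻¹ * k x ∈ kerIn θ) {x y : Ω} (hx : x ∈ P) (hy : y ∈ P)
    (h : th θ x = th θ y) : ι (y⁻¹ * k y) = ι (x⁻¹ * k x) := by
  have hw := (th_eq_iff (hk.le hx) (hk.le hy)).mp h
  set w := x⁻¹ * y with hwd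
  have e : y = x * w := by rw [hwd]; group
  rw [e, hk.map_mul hx (hZ hw), C.fix hk hw (hZ hw),
    show (x * w)⁻¹ * (k x * w) = w⁻¹ * (x⁻¹ * k x) * w⁻¹⁻¹ by group,
    C.conj_ker (hkz x hx) (S.inv_mem (kerIn_le hw))]

variable [Finite S] [Fact p.Prime]

theorem pbk_real_congr (C : Ctx F F' θ E' p ι) (hP : CP θ E' P) {a : Hq θ ι P}
    (ha : Real F θ ι P a) {g₁ g₂ : Ω → Ω} (h₁ : MapTo F P g₁) (hi₁ : img g₁ P = P)
    (h₂ : MapTo F P g₂) (hi₂ : img g₂ P = P) (h : ∀ x ∈ P, th θ (g₁ x) = th θ (g₂ x)) :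
    pbk θ ι P P g₁ a = pbk θ ι P P g₂ a := by
  obtain ⟨k, hk, hkz, rfl⟩ := ha
  rw [pbk_cls C h₁ hi₁ hP.1 hP.le_S, pbk_cls C h₂ hi₂ hP.1 hP.le_S]
  exact cls_congr C hP.le_S fun x hx => (realFun_mod C hk hP.1 hkz (hi₁ ▸ mem_img_of_mem hx)
    (hi₂ ▸ mem_img_of_mem hx) (h x hx)).symm

theorem pbk_pbk (C : Ctx F F' θ E' p ι) (hP : CP θ E' P) (a : Hq θ ι P) {g₁ g₂ : Ω → Ω}
    (h₁ : MapTo F P g₁) (hi₁ : img g₁ P = P) (h₂ : MapTo F P g₂) (hi₂ : img g₂ P = P) :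
    pbk θ ι P P g₁ (pbk θ ι P P g₂ a) = pbk θ ι P P (fun x => g₂ (g₁ x)) a := by
  have hm : ∀ x ∈ P, g₁ x ∈ P := fun x hx => hi₁ ▸ mem_img_of_mem hx
  rw [← cls_out a, pbk_cls C h₂ hi₂ hP.1 hP.le_S, pbk_cls C h₁ hi₁ hP.1 hP.le_S,
    pbk_cls C (h₁.comp h₂ hm) (by rw [← h₁.img_img le_rfl, hi₁, hi₂]) hP.1 hP.le_S]

/-- The class of `z` is fixed by the lift on a subgroup. -/
def CM (θ : S →* Ω') (E' : FusionSystem T') (ι : Ω → ZMod p) (z : Ω) (P' : Subgroup Ω')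
    (f' : Ω' → Ω') : Prop :=
  ∀ R, CP θ E' R → R ≤ preimageAlong θ P' → ∀ g : Ω → Ω,
    (∀ x ∈ R, g x ∈ TT θ T' ∧ th θ (g x) = f' (th θ x)) →
      cls θ ι R (fun x => vz ι z (g x)) = cls θ ι R (vz ι z)

theorem cm_of_lift (C : Ctx F F' θ E' p ι) (hz : ZT S θ T' z)
    (hQ : CP θ E' (preimageAlong θ P')) {f' : Ω' → Ω'} {g₁ : Ω → Ω}
    (hg₁ : LMap F θ E' (preimageAlong θ P') g₁)
    (hgx : ∀ x ∈ preimageAlong θ P', f' (th θ x) = th θ (g₁ x))
    (h : cls θ ι (preimageAlong θ P') (fun x => vz ι z (g₁ x)) =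
      cls θ ι (preimageAlong θ P') (vz ι z)) : CM θ E' ι z P' f' := by
  intro R hR hRQ g hg
  rw [← cls_restrict C hR hRQ hQ.le h]
  exact cls_congr C hR.le_S fun x hx => vz_mod C hz (hg₁.mem C (hRQ hx)) (C.T_le (hg x hx).1)
    (by rw [(hg x hx).2, hgx x (hRQ hx)])

/-- The step at the top. -/
theorem cm_top (C : Ctx F F' θ E' p ι) (hz : ZT S θ T' z) {α : MulAut T'}
    (hα : α ∈ E'.autGroup T') : CM θ E' ι z T' (autFun α) := by
  haveI := C.finite_T'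
  haveI := finite_of_le C.T_le
  have hT'S : T' ≤ S' := C.hE.1.2.2.2.1.1
  have hT := cp_top C
  have himT : imageAlong θ (TT θ T') = T' := imageAlong_preimageAlong C.T'_le
  have hα' : MapTo E' (imageAlong θ (TT θ T')) (autFun α) := by
    rw [himT]; exact mapTo_of_mem_autGroup le_rfl hα
  obtain ⟨g₁, hg₁, hgx⟩ := exists_lift_on C C.T_le C.Z_le_T hα'
  refine cm_of_lift C hz hT hg₁ hgx ?_
  obtain ⟨β, hβ, hβx, hβc⟩ := C.hE.2 α hα
  have hU : T' ⊔ centralizerIn S' T' ≤ S' := sup_le hT'S centralizerIn_le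
  obtain ⟨-, g, hg, hgg⟩ := IsSurjectiveMorphism.exists_lift C.mor (mapTo_of_mem_autGroup hU hβ)
  set U := preimageAlong θ (T' ⊔ centralizerIn S' T') with hUd
  have hTU : TT θ T' ≤ U := fun x hx => mem_preimageAlong.mpr
    ⟨C.T_le hx, Subgroup.mem_sup_left (mem_preimageAlong.mp hx).2⟩
  have hzc : th θ z ∈ centralizerIn S' T' := by
    refine mem_centralizerIn.mpr ⟨C.mor.2.1 ▸ th_mem_range θ z, fun y hy => ?_⟩
    obtain ⟨x, hx, rfl⟩ := exists_preimage C.T'_le hy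
    have hxS := C.T_le hx
    have h1 := (th_eq_iff hxS (S.mul_mem (S.mul_mem hz.1 hxS) (S.inv_mem hz.1))).mpr (hz.2 x hx)
    rw [th_conj θ hz.1 hxS, eq_mul_inv_iff_mul_eq] at h1
    exact h1
  have hzU : z ∈ U := mem_preimageAlong.mpr ⟨hz.1, Subgroup.mem_sup_right hzc⟩
  set w := z⁻¹ * g z with hw
  have hwS : w ∈ S := S.mul_mem (S.inv_mem hz.1) (hg.mem hzU)
  have hw' : th θ w ∈ T' ⊓ Subgroup.centralizer (T' : Set Ω') := by
    rw [hw, th_mul θ (S.inv_mem hz.1) (hg.mem hzU), th_inv θ hz.1, ← hgg z hzU,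
      autFun_apply _ (Subgroup.mem_sup_right hzc)]
    exact hβc ⟨th θ z, Subgroup.mem_sup_right hzc⟩ hzc
  have hwT : w ∈ TT θ T' := mem_preimageAlong.mpr ⟨hwS, hw'.1⟩
  have hwz : ∀ y ∈ TT θ T', y⁻¹ * cj w y ∈ kerIn θ := fun y hy => by
    have hyS := C.T_le hy
    refine (th_eq_iff hyS (S.mul_mem (S.mul_mem hwS hyS) (S.inv_mem hwS))).mp ?_
    rw [th_conj θ hwS hyS, ← hw'.2 _ (mem_preimageAlong.mp hy).2, mul_inv_cancel_right]
  have hαx : ∀ x ∈ TT θ T', th θ (g x) = autFun α (th θ x) := fun x hx => by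
    have hx' := (mem_preimageAlong.mp hx).2
    rw [← hgg x (hTU hx), autFun_apply _ (Subgroup.mem_sup_left hx'), autFun_apply _ hx']
    exact hβx ⟨th θ x, hx'⟩
  have hgT : ∀ x ∈ TT θ T', g x ∈ TT θ T' := fun x hx => mem_preimageAlong.mpr
    ⟨hg.mem (hTU hx), hαx x hx ▸ autFun_mem α (mem_preimageAlong.mp hx).2⟩
  have hgimg : img g (TT θ T') = TT θ T' := img_eq_self_of_forall (hg.restrict hTU) hgT
  have key : ∀ x ∈ TT θ T', vz ι z x = vz ι z (g x) + vz ι w (g x) := fun x hx => by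
    have hd := hz.2 x hx
    have hy := hgT x hx
    have h1 : g (x⁻¹ * cj z x) = (g x)⁻¹ * cj (z * w) (g x) := by
      rw [cj_apply, hg.map_mul (U.inv_mem (hTU hx))
        (U.mul_mem (U.mul_mem hzU (hTU hx)) (U.inv_mem hzU)), hg.map_inv (hTU hx),
        hg.map_conj hzU (hTU hx), cj_apply, hw]
      group
    rw [C.fix hg hd (hTU (C.Z_le_T hd))] at h1
    have hc := hwz _ hy
    have hz' := hz.2 _ hy
    set c := (g x)⁻¹ * cj w (g x) with hcd
    have h2 : (g x)⁻¹ * cj (z * w) (g x) = (g x)⁻¹ * cj z (g x) * c := by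
      rw [cj_mul, show cj w (g x) = g x * c by rw [hcd]; group]
      calc (g x)⁻¹ * cj z (g x * c) = (g x)⁻¹ * cj z (g x) * (z * c * z⁻¹) := by
            simp only [cj_apply]; group
        _ = _ := by rw [C.conj_ker hc hz.1]
    show ι (x⁻¹ * cj z x) = _
    rw [h1, h2, C.ι_mul _ hz' _ hc]
    rfl
  have h0 : cls θ ι (TT θ T') (vz ι w) = cls θ ι (TT θ T') 0 := by
    rw [map_zero, cls_eq_zero_iff C C.T_le]
    exact ⟨w, hwT, fun x hx => hwz x hx, fun x _ => rfl⟩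
  have h3 := cls_comp C (hg.restrict hTU) hgimg C.Z_le_T C.T_le h0
  rw [cls_congr C C.T_le (v := vz ι z) (w := (fun x => vz ι z (g₁ x)) + fun x => vz ι w (g x))
    fun x hx => by
      rw [key x hx, Pi.add_apply, vz_mod C hz (hg₁.mem C hx) (hg.mem (hTU hx))
        (by rw [← hgx x hx, hαx x hx])], map_add, h3]
  exact (add_eq_left.mpr ((cls_congr C C.T_le (w := 0) fun _ _ => rfl).trans (map_zero _))).symm

/-- The step at an essential subgroup. -/
theorem cm_essential (C : Ctx F F' θ E' p ι) (hz : ZT S θ T' z) (hess : E'.IsEssential p P')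
    (hne : P' ≠ T') (hIH : ∀ (R : Subgroup Ω') (g : Ω' → Ω'), Nat.card P' < Nat.card R →
      MapTo E' R g → CM θ E' ι z R g) {α : MulAut P'} (hα : α ∈ E'.autGroup P') :
    CM θ E' ι z P' (autFun α) := by
  haveI := C.finite_T'
  have hP'T : P' ≤ T' := hess.1.1
  have hT'p : IsPGroup p T' :=
    (C.hS.of_surjective θ.rangeRestrict θ.rangeRestrict_surjective).to_le C.T'_le
  have himQ := imageAlong_preimageAlong (θ := θ) (hP'T.trans C.T'_le)
  set Q := preimageAlong θ P' with hQd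
  have hQ : CP θ E' Q := ⟨kerIn_le_preimageAlong, fun x hx => mem_preimageAlong.mpr
    ⟨(mem_preimageAlong.mp hx).1, hP'T (mem_preimageAlong.mp hx).2⟩, himQ.symm ▸ hess.1⟩
  haveI := finite_of_le hQ.le_S
  haveI := finite_of_le hP'T
  haveI := finite_mulAut P'
  have hlift : ∀ a : E'.autGroup P', ∃ g, LMap F θ E' Q g ∧ img g Q = Q ∧
      ∀ x ∈ Q, th θ (g x) = autFun (a : MulAut P') (th θ x) := fun a => by
    obtain ⟨g, hg, hgx⟩ := exists_lift C (mapTo_of_mem_autGroup hP'T a.2)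
    refine ⟨g, hg, img_eq_self_of_forall hg.1 fun x hx => mem_preimageAlong.mpr
      ⟨hg.1.mem hx, ?_⟩, fun x hx => (hgx x hx).symm⟩
    rw [← hgx x hx]
    exact autFun_mem _ (mem_preimageAlong.mp hx).2
  choose lg hlg hlgi hlgx using hlift
  let act : E'.autGroup P' → Hq θ ι Q → Hq θ ι Q := fun a => pbk θ ι Q Q (lg a)
  have act_real : ∀ a {b}, Real F θ ι Q b → Real F θ ι Q (act a b) := fun a b hb =>
    real_pbk C (hlg a).1 (hlgi a) hQ.1 hQ.le_S hQ.1 hb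
  have act_mul : ∀ a a' {b}, Real F θ ι Q b → act (a * a') b = act a' (act a b) := fun a a' b hb => by
    show pbk θ ι Q Q _ b = pbk θ ι Q Q _ (pbk θ ι Q Q _ b)
    rw [pbk_pbk C hQ b (hlg a').1 (hlgi a') (hlg a).1 (hlgi a)]
    have hm : ∀ x ∈ Q, lg a' x ∈ Q := fun x hx => hlgi a' ▸ mem_img_of_mem hx
    refine pbk_real_congr C hQ hb (hlg _).1 (hlgi _) ((hlg a').1.comp (hlg a).1 hm)
      (by rw [← (hlg a').1.img_img le_rfl, hlgi, hlgi]) fun x hx => ?_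
    rw [hlgx _ x hx, hlgx a _ (hm x hx), hlgx a' x hx, Subgroup.coe_mul,
      autFun_mul _ _ (mem_preimageAlong.mp hx).2]
  have act_one : ∀ {b}, Real F θ ι Q b → act 1 b = b := fun {b} hb => by
    show pbk θ ι Q Q _ b = b
    rw [pbk_real_congr C hQ hb (hlg 1).1 (hlgi 1) (mapTo_id F hQ.le_S) img_id fun x hx => by
      rw [hlgx 1 x hx, OneMemClass.coe_one, autFun_one (mem_preimageAlong.mp hx).2]]
    conv_lhs => rw [← cls_out b]
    rw [res_cls C hQ le_rfl hQ.le, cls_out]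
  let J : Subgroup (E'.autGroup P') :=
    { carrier := {a | ∀ b, Real F θ ι Q b → act a b = b}
      one_mem' := fun b hb => act_one hb
      mul_mem' := fun {a a'} ha ha' b hb => by rw [act_mul a a' hb, ha b hb, ha' b hb]
      inv_mem' := fun {a} ha b hb => by
        have h := act_mul a a⁻¹ hb
        rw [mul_inv_cancel, act_one hb, ha b hb] at h
        exact h.symm }
  haveI hJn : J.Normal := ⟨fun j hj n b hb => by
    rw [act_mul _ _ hb, act_mul _ _ hb, hj _ (act_real n hb), ← act_mul n n⁻¹ hb, mul_inv_cancel,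
      act_one hb]⟩
  obtain ⟨-, Sy, hSy⟩ := isFullyAutomized_of_isFullyNormalized hT'p C.hE.1.1 hess.2.1
  have hSyJ : (Sy : Subgroup (E'.autGroup P')) ≤ J := by
    intro a ha b hb
    rw [hSy] at ha
    obtain ⟨t', ht', htx⟩ := mem_autInducedBy_iff_cj.mp (Subgroup.mem_subgroupOf.mp ha)
    obtain ⟨t, ht, rfl⟩ := exists_preimage C.T'_le ht'
    have htQ : ∀ x ∈ Q, t * x * t⁻¹ ∈ Q := fun x hx => by
      have hxS := hQ.le_S hx
      refine mem_preimageAlong.mpr ⟨S.mul_mem (S.mul_mem (C.T_le ht) hxS) (S.inv_mem (C.T_le ht)), ?_⟩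
      rw [th_conj θ (C.T_le ht) hxS, ← cj_apply, ← htx _ (mem_preimageAlong.mp hx).2]
      exact autFun_mem _ (mem_preimageAlong.mp hx).2
    have htN : t ∈ normalizerIn S Q := mem_normalizerIn_of_forall hQ.le_S (C.T_le ht) htQ
    refine (pbk_real_congr C hQ hb (hlg a).1 (hlgi a) (mapTo_cj hQ.le_S (C.T_le ht))
      (mapTo_cj_self hQ.le_S htN) fun x hx => ?_).trans (pbk_conj C hQ hb ht htN)
    rw [hlgx a x hx, htx _ (mem_preimageAlong.mp hx).2, cj_apply, cj_apply,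
      th_conj θ (C.T_le ht) (hQ.le_S hx)]
  set b₀ := cls θ ι Q (vz ι z)
  have hb₀ : Real F θ ι Q b₀ := real_vz C hz hQ.le
  let St : Subgroup (E'.autGroup P') :=
    { carrier := {a | act a b₀ = b₀}
      one_mem' := act_one hb₀
      mul_mem' := fun {a a'} ha ha' => by
        show act (a * a') b₀ = b₀
        rw [act_mul a a' hb₀, ha, ha']
      inv_mem' := fun {a} ha => by
        have h := act_mul a a⁻¹ hb₀
        rw [mul_inv_cancel, act_one hb₀, ha] at h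
        exact h.symm }
  have hnorm : Subgroup.normalizer ((Sy : Subgroup (E'.autGroup P')) : Set (E'.autGroup P')) ≤ St := by
    intro n hn
    have hnm := mapTo_of_mem_autGroup hP'T n.2
    have hext : normalizerIn T' P' ≤ extSub T' hnm := by
      intro t ht
      obtain ⟨γ, hγ⟩ := exists_conjAut (P := P') ht.2
      have hγA : γ ∈ autInducedBy T' P' := mem_autInducedBy_iff_cj.mpr ⟨t, ht.1, hγ⟩
      have h1 : (n : MulAut P') * γ * (n : MulAut P')⁻¹ ∈ autInducedBy T' P' := by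
        have h2 := (Subgroup.mem_normalizer_iff.mp hn
          ⟨γ, autInducedBy_le_autGroup hP'T hγA⟩).mp (hSy.symm ▸ Subgroup.mem_subgroupOf.mpr hγA)
        rw [hSy, Subgroup.mem_subgroupOf] at h2
        exact h2
      obtain ⟨h', hh', hx'⟩ := mem_autInducedBy_iff_cj.mp h1
      refine ⟨ht, h', hh', fun x hx => ?_⟩
      have := hx' _ (autFun_mem (n : MulAut P') hx)
      rw [autFun_mul _ _ (autFun_mem _ hx), autFun_inv_autFun _ hx, autFun_mul _ _ hx, hγ x hx] at this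
      exact this
    obtain ⟨ψ, hψ, hψx⟩ := (isReceptive_iff.mp
      (isReceptive_of_isFullyNormalized hT'p C.hE.1.1 hess.2.1)).2 P' _ hnm (img_autFun _)
    have hlt : P' < normalizerIn T' P' := lt_normalizerIn hT'p (lt_of_le_of_ne hP'T hne)
    haveI := finite_of_le (normalizerIn_le (S := T') (P := P'))
    have hcard : Nat.card P' < Nat.card (normalizerIn T' P') :=
      lt_of_le_of_ne (Subgroup.card_le_of_le hlt.le)
        fun he => hlt.ne (Subgroup.eq_of_le_of_card_ge hlt.le he.ge)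
    have hC := hIH _ ψ hcard (hψ.restrict hext) Q hQ (fun x hx => mem_preimageAlong.mpr
      ⟨(mem_preimageAlong.mp hx).1, hlt.le (mem_preimageAlong.mp hx).2⟩) (lg n)
      fun x hx => ⟨(hlg n).mem C hx, by rw [hψx _ (mem_preimageAlong.mp hx).2, hlgx n x hx]⟩
    show pbk θ ι Q Q (lg n) b₀ = b₀
    rw [pbk_cls C (hlg n).1 (hlgi n) hQ.1 hQ.le_S]
    exact hC
  have hall : (⊤ : Subgroup (E'.autGroup P')) ≤ St := by
    rw [← Sylow.normalizer_sup_eq_top' Sy hSyJ]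
    exact sup_le hnorm fun a ha => ha b₀ hb₀
  have hfin := hall (Subgroup.mem_top (⟨α, hα⟩ : E'.autGroup P'))
  refine cm_of_lift C hz hQ (hlg ⟨α, hα⟩) (fun x hx => (hlgx ⟨α, hα⟩ x hx).symm) ?_
  rw [← pbk_cls C (hlg _).1 (hlgi _) hQ.1 hQ.le_S]
  exact hfin

theorem cm_all (C : Ctx F F' θ E' p ι) (hz : ZT S θ T' z) {f' : Ω' → Ω'} (hf' : MapTo E' P' f') :
    CM θ E' ι z P' f' := by
  haveI := C.finite_T'
  have hT'p : IsPGroup p T' :=
    (C.hS.of_surjective θ.rangeRestrict θ.rangeRestrict_surjective).to_le C.T'_le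
  refine alperin_prop_strong hT'p C.hE.1.1 (CM θ E' ι z) ?_ ?_ ?_ ?_ ?_ hf'
  · intro A f g _ h hfg R hR hRA k hk
    exact h R hR hRA k fun x hx =>
      ⟨(hk x hx).1, (hk x hx).2.trans (hfg _ (mem_preimageAlong.mp (hRA hx)).2)⟩
  · intro A t' _ ht' R hR hRA g hg
    obtain ⟨t, ht, rfl⟩ := exists_preimage C.T'_le ht'
    refine cls_congr C hR.le_S fun x hx => ?_
    have hm : cj t x ∈ TT θ T' := by
      rw [cj_apply]
      exact Subgroup.mul_mem _ (Subgroup.mul_mem _ ht (hR.le hx)) (Subgroup.inv_mem _ ht)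
    rw [vz_mod C hz hm (C.T_le (hg x hx).1) (by
      rw [(hg x hx).2, cj_apply, cj_apply, th_conj θ (C.T_le ht) (hR.le_S hx)]),
      vz_cj C hz ht (hR.le hx)]
  · intro A B f g hf hg hfB h₁ h₂ R hR hRA k hk
    have hRA' : imageAlong θ R ≤ A := fun y hy => by
      obtain ⟨x, hx, rfl⟩ := (mem_imageAlong hR.le_S).mp hy
      exact (mem_preimageAlong.mp (hRA hx)).2
    obtain ⟨g₁, hg₁, hg₁x⟩ := exists_lift_on C hR.le_S hR.1 (hf.restrict hRA')
    set R₁ := img g₁ R with hR₁d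
    have hR₁ := hR.img C hg₁
    have hR₁B : R₁ ≤ preimageAlong θ B := img_le_of_forall fun x hx =>
      mem_preimageAlong.mpr ⟨hg₁.1.mem hx, hg₁x x hx ▸ hfB _ (hRA' (th_mem_imageAlong hR.le_S hx))⟩
    have hR₁B' : imageAlong θ R₁ ≤ B := fun y hy => by
      obtain ⟨x, hx, rfl⟩ := (mem_imageAlong hR₁.le_S).mp hy
      exact (mem_preimageAlong.mp (hR₁B hx)).2
    obtain ⟨g₂, hg₂, hg₂x⟩ := exists_lift_on C hR₁.le_S hR₁.1 (hg.restrict hR₁B')
    have h2 := h₂ R₁ hR₁ hR₁B g₂ fun x hx => ⟨hg₂.mem C hx, (hg₂x x hx).symm⟩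
    have h3 := cls_comp C hg₁.1 rfl hR.1 hR₁.le_S h2
    rw [h₁ R hR hRA g₁ fun x hx => ⟨hg₁.mem C hx, (hg₁x x hx).symm⟩] at h3
    rw [← h3]
    refine cls_congr C hR.le_S fun x hx => ?_
    refine vz_mod C hz (hg₂.mem C (mem_img_of_mem hx)) (C.T_le (hk x hx).1) ?_
    rw [(hk x hx).2, ← hg₂x _ (mem_img_of_mem hx), ← hg₁x x hx]
  · intro A f g hf hg hgf h R hR hRA k hk
    have hRA' : imageAlong θ R ≤ img f A := fun y hy => by
      obtain ⟨x, hx, rfl⟩ := (mem_imageAlong hR.le_S).mp hy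
      exact (mem_preimageAlong.mp (hRA hx)).2
    obtain ⟨g₁, hg₁, hg₁x⟩ := exists_lift_on C hR.le_S hR.1 (hg.restrict hRA')
    set R₀ := img g₁ R
    have hR₀ := hR.img C hg₁
    have hga : ∀ x ∈ R, ∃ a ∈ A, f a = th θ x ∧ g (th θ x) = a := fun x hx => by
      obtain ⟨a, ha, hax⟩ := (hf.mem_img_iff le_rfl).mp (hRA' (th_mem_imageAlong hR.le_S hx))
      exact ⟨a, ha, hax, by rw [← hax, hgf a ha]⟩
    have hR₀A : R₀ ≤ preimageAlong θ A := img_le_of_forall fun x hx => by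
      obtain ⟨a, ha, -, hgx⟩ := hga x hx
      exact mem_preimageAlong.mpr ⟨hg₁.1.mem hx, by rw [← hg₁x x hx, hgx]; exact ha⟩
    have hR₀A' : imageAlong θ R₀ ≤ A := fun y hy => by
      obtain ⟨x, hx, rfl⟩ := (mem_imageAlong hR₀.le_S).mp hy
      exact (mem_preimageAlong.mp (hR₀A hx)).2
    obtain ⟨g₂, hg₂, hg₂x⟩ := exists_lift_on C hR₀.le_S hR₀.1 (hf.restrict hR₀A')
    have h2 := cls_comp C hg₁.1 rfl hR.1 hR₀.le_S
      (h R₀ hR₀ hR₀A g₂ fun x hx => ⟨hg₂.mem C hx, (hg₂x x hx).symm⟩)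
    rw [cls_congr C hR.le_S (v := fun x => vz ι z (g₂ (g₁ x))) (w := vz ι z) fun x hx => by
      refine vz_mod C hz (hR.le hx) (hg₂.1.mem (mem_img_of_mem hx)) ?_
      obtain ⟨a, -, hfa, hgx⟩ := hga x hx
      rw [← hg₂x _ (mem_img_of_mem hx), ← hg₁x x hx, hgx, hfa]] at h2
    rw [h2]
    refine cls_congr C hR.le_S fun x hx => ?_
    refine vz_mod C hz (hg₁.mem C hx) (C.T_le (hk x hx).1) ?_
    rw [(hk x hx).2, hg₁x x hx]
  · intro Q' hQ' hIH α hα
    by_cases hne : Q' = T'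
    · subst hne
      exact cm_top C hz hα
    · exact cm_essential C hz (hQ'.resolve_left hne) hne hIH hα

/-- Classes realized on the whole preimage are fixed by lifts. -/
theorem pbk_res_eq (C : Ctx F F' θ E' p ι) (hP : CP θ E' P) (hf : LMap F θ E' P f)
    {a : Hq θ ι (TT θ T')} (ha : Real F θ ι (TT θ T') a) :
    pbk θ ι P (img f P) f (pbk θ ι (img f P) (TT θ T') (fun x => x) a) =
      pbk θ ι P (TT θ T') (fun x => x) a := by
  obtain ⟨k, hk, hkz, rfl⟩ := ha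
  haveI := finite_of_le (normalizerIn_le (S := S) (P := TT θ T'))
  have hn : F.IsFullyNormalized (TT θ T') := by
    refine ⟨C.T_le, fun Q hQ => Subgroup.card_le_of_le fun x hx => ?_⟩
    exact mem_normalizerIn.mpr ⟨hx.1, StronglyClosed.le_normalizer C.scT hx.1⟩
  obtain ⟨z, hzN, hzx⟩ := exists_conj_of_real C hn C.Z_le_T hk hkz
  have hz : ZT S θ T' z := ⟨hzN.1, fun x hx => hzx x hx ▸ hkz x hx⟩
  have hQ := hP.img C hf
  have e : cls θ ι (TT θ T') (fun x => ι (x⁻¹ * k x)) = cls θ ι (TT θ T') (vz ι z) :=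
    cls_congr C C.T_le fun x hx => by show ι _ = ι _; rw [hzx x hx]
  rw [e, res_cls C hQ hQ.le le_rfl, res_cls C hP hP.le le_rfl, pbk_cls C hf.1 rfl hP.1 hQ.le_S]
  obtain ⟨f', hf', hff⟩ := hf.2.2
  exact cm_all C hz hf' P hP
    (fun x hx => mem_preimageAlong.mpr ⟨hP.le_S hx, th_mem_imageAlong hP.le_S hx⟩) f
    fun x hx => ⟨hf.mem C hx, (hff x hx).symm⟩

end Cfsg.Agent.Fusion.CentralLift
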