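import Cfsg.Agent.Lib.Fusion.CentralLift.Invariance
import Mathlib.GroupTheory.Index

/-!
The lifted subsystem is normal.
-/

set_option autoImplicit false

namespace Cfsg.Agent.Fusion.CentralLift

open Cfsg.FusionSystem (centralizerIn normalizerIn imageAlong preimageAlong)

universe u v

variable {Ω : Type u} [Group Ω] {S : Subgroup Ω} {Ω' : Type v} [Group Ω'] {S' T' : Subgroup Ω'}
variable {F : FusionSystem S} {F' : FusionSystem S'} {θ : S →* Ω'} {E' : FusionSystem T'}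
  {p : ℕ} {ι : Ω → ZMod p} {P Q R : Subgroup Ω} {f g : Ω → Ω}

theorem autT_of_mem [Finite S] (C : Ctx F F' θ E' p ι) {α : MulAut ↥(TT θ T')}
    (hα : α ∈ F.autGroup (TT θ T')) : AutT F θ T' (autFun α) (autFun α⁻¹) :=
  ⟨mapTo_of_mem_autGroup C.T_le hα, mapTo_of_mem_autGroup C.T_le (Subgroup.inv_mem _ hα),
    img_autFun _, img_autFun _, fun _ hx => autFun_inv_autFun α hx,
    fun _ hx => autFun_autFun_inv α hx⟩

variable [Finite S] [Fact p.Prime]

theorem subsystem (C : Ctx F F' θ E' p ι) : (eSys C).IsSubsystemOf F := fun _ _ hφ =>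
  mapTo_ev_iff.mp (mapTo_eSys C (mapTo_ev hφ)).1.1

theorem frattini_of_ker_le (C : Ctx F F' θ E' p ι) : ∀ (P : Subgroup Ω) (f : Ω → Ω),
    kerIn θ ≤ P → P ≤ TT θ T' → MapTo F P f → ∃ α ∈ F.autGroup (TT θ T'), ∃ f₀,
      MapTo (eSys C) P f₀ ∧ ∀ x ∈ P, f x = autFun α (f₀ x) := by
  intro P
  induction hk : Nat.card (TT θ T') - Nat.card P using Nat.strong_induction_on generalizing P with
  | h n ih =>
  intro f hZ hPT hf
  haveI : Finite (TT θ T') := finite_of_le C.T_le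
  haveI := C.finite_T'
  have hPS : P ≤ S := hPT.trans C.T_le
  have hT'S : T' ≤ S' := C.hE.1.2.2.2.1.1
  obtain ⟨f', hf', hff⟩ := IsMorphism.exists_map C.mor.1 hf
  have hP'T : imageAlong θ P ≤ T' := fun y hy => by
    obtain ⟨x, hx, rfl⟩ := (mem_imageAlong hPS).mp hy
    exact (mem_preimageAlong.mp (hPT hx)).2
  obtain ⟨α', hα', e', he', hae⟩ := IsInvariantIn.frattini C.hE.1.2.2 hP'T hf'
  obtain ⟨e, he, hee⟩ := exists_eSys_lift_on C hPS hZ he'
  obtain ⟨heL, -⟩ := mapTo_eSys C he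
  obtain ⟨-, a, ha, haa⟩ := IsSurjectiveMorphism.exists_lift C.mor (mapTo_of_mem_autGroup hT'S hα')
  have ham : ∀ x ∈ TT θ T', a x ∈ TT θ T' := fun x hx => mem_preimageAlong.mpr
    ⟨ha.mem hx, haa x hx ▸ autFun_mem _ (mem_preimageAlong.mp hx).2⟩
  set αa := autOf ha (img_eq_self_of_forall ha ham)
  have hαa : αa ∈ F.autGroup (TT θ T') := autOf_mem ha _
  have hax : ∀ {x}, x ∈ TT θ T' → autFun αa x = a x := fun hx => autFun_autOf ha _ hx
  have Aa := autT_of_mem C hαa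
  obtain ⟨ei, hei, heie, -, heii⟩ := he.exists_iso_inverse
  set P₁ := img e P with hP₁d
  have hP₁T : P₁ ≤ TT θ T' := he.img_le
  have hP₁S : P₁ ≤ S := hP₁T.trans C.T_le
  have hZ₁ : kerIn θ ≤ P₁ := C.img_ker heL.1 hZ
  have heim : ∀ y ∈ P₁, ei y ∈ P := fun y hy => by
    obtain ⟨x, hx, rfl⟩ := (he.mem_img_iff le_rfl).mp hy
    rw [heie x hx]; exact hx
  have hfT : ∀ x ∈ P, f x ∈ TT θ T' := fun x hx => StronglyClosed.map_mem C.scT hf hx (hPT hx)
  set k : Ω → Ω := fun y => autFun αa⁻¹ (f (ei y)) with hkd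
  have hk : MapTo F P₁ k :=
    ((mapTo_eSys C hei).1.1.comp hf heim).comp Aa.inv fun y hy => hfT _ (heim y hy)
  have hkz : ∀ y ∈ P₁, y⁻¹ * k y ∈ kerIn θ := fun y hy => by
    obtain ⟨x, hx, rfl⟩ := (he.mem_img_iff le_rfl).mp hy
    have hxT := hP₁T hy
    have h1 : (autFun αa (e x))⁻¹ * f x ∈ kerIn θ := by
      refine (th_eq_iff (C.T_le (autFun_mem _ hxT)) (hf.mem hx)).mp ?_
      rw [hax hxT, ← haa _ hxT, ← hee x hx, ← hae _ (th_mem_imageAlong hPS hx), hff x hx]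
    set c := (autFun αa (e x))⁻¹ * f x with hc
    show (e x)⁻¹ * autFun αa⁻¹ (f (ei (e x))) ∈ _
    rw [heie x hx, show f x = autFun αa (e x) * c by rw [hc]; group,
      Aa.inv.map_mul (autFun_mem _ hxT) (C.Z_le_T h1), autFun_inv_autFun _ hxT,
      C.fix Aa.inv h1 (C.Z_le_T h1), inv_mul_cancel_left]
    exact h1
  obtain ⟨P₀, hc₀, hP₀n⟩ := exists_isFullyNormalized (F := F) hP₁S
  obtain ⟨s, hs, hsP⟩ := exists_isStd C.hS C.hF hP₀n hc₀
  have hs₁ := hs.restrict (le_normalizerIn hP₁S)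
  have hstd : ∃ σ ∈ F.autGroup (TT θ T'), ∃ e₂, MapTo (eSys C) P₁ e₂ ∧
      ∀ x ∈ P₁, s x = autFun σ (e₂ x) := by
    by_cases hne : P₁ = TT θ T'
    · have hsT : MapTo F (TT θ T') s := hne ▸ hs₁
      have hsi : img s (TT θ T') = TT θ T' := img_eq_self_of_forall hsT fun x hx =>
        StronglyClosed.map_mem C.scT hsT hx hx
      exact ⟨autOf hsT hsi, autOf_mem hsT hsi, fun x => x, mapTo_id _ hP₁T,
        fun x hx => (autFun_autOf hsT hsi (hP₁T hx)).symm⟩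
    · have hlt : P₁ < normalizerIn (TT θ T') P₁ :=
        lt_normalizerIn (isPGroup_T C) (lt_of_le_of_ne hP₁T hne)
      haveI := finite_of_le ((normalizerIn_le (S := TT θ T') (P := P₁)).trans C.T_le)
      have h1 : Nat.card P₁ < Nat.card (normalizerIn (TT θ T') P₁) :=
        lt_of_le_of_ne (Subgroup.card_le_of_le hlt.le)
          fun he => hlt.ne (Subgroup.eq_of_le_of_card_ge hlt.le he.ge)
      have h2 := Subgroup.card_le_of_le (normalizerIn_le (S := TT θ T') (P := P₁))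
      have h3 : Nat.card P₁ = Nat.card P := he.card_img le_rfl
      obtain ⟨σ, hσ, e₂, he₂, hx₂⟩ := ih _ (by omega) _ rfl s (hZ₁.trans hlt.le) normalizerIn_le
        (hs.restrict fun x hx => mem_normalizerIn.mpr ⟨C.T_le hx.1, hx.2⟩)
      exact ⟨σ, hσ, e₂, he₂.restrict hlt.le, fun x hx => hx₂ x (hlt.le hx)⟩
  obtain ⟨σ, hσ, e₂, he₂, hse⟩ := hstd
  obtain ⟨si, hsi, hsis, -, -⟩ := hs₁.exists_iso_inverse
  rw [hsP] at hsi
  have hsim : ∀ y ∈ P₀, si y ∈ P₁ := fun y hy => by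
    obtain ⟨x, hx, rfl⟩ := (hs₁.mem_img_iff le_rfl).mp (hsP.symm ▸ hy)
    rw [hsis x hx]; exact hx
  have hkm : ∀ y ∈ P₁, k y ∈ P₁ := fun y hy => by
    rw [show k y = y * (y⁻¹ * k y) by group]; exact P₁.mul_mem hy (hZ₁ (hkz y hy))
  have hZ₀ : kerIn θ ≤ P₀ := hsP ▸ C.img_ker hs₁ hZ₁
  obtain ⟨z, hz, hzx⟩ := exists_conj_of_real C hP₀n hZ₀ (k := fun y => s (k (si y)))
    ((hsi.comp hk hsim).comp hs₁ fun y hy => hkm _ (hsim y hy)) fun y hy => by
      obtain ⟨x, hx, rfl⟩ := (hs₁.mem_img_iff le_rfl).mp (hsP.symm ▸ hy)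
      show (s x)⁻¹ * s (k (si (s x))) ∈ _
      rw [hsis x hx, ← hs₁.map_inv hx, ← hs₁.map_mul (P₁.inv_mem hx) (hkm x hx),
        C.fix hs₁ (hkz x hx) (hZ₁ (hkz x hx))]
      exact hkz x hx
  have hzT : img (cj z) (TT θ T') = TT θ T' :=
    img_eq_self_of_forall (mapTo_cj (F := F) C.T_le hz.1) fun x hx =>
      StronglyClosed.conj_mem C.scT hz.1 hx
  set cz := autOf (mapTo_cj (F := F) C.T_le hz.1) hzT
  have hcz : cz ∈ F.autGroup (TT θ T') := autOf_mem _ _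
  set β := σ⁻¹ * cz * σ with hβd
  have hβ : β ∈ F.autGroup (TT θ T') :=
    Subgroup.mul_mem _ (Subgroup.mul_mem _ (Subgroup.inv_mem _ hσ) hcz) hσ
  have he₂m : ∀ x ∈ P₁, e₂ x ∈ TT θ T' := fun x hx => he₂.mem hx
  have hkey : ∀ x ∈ P₁, e₂ (k x) = autFun β (e₂ x) := fun x hx => by
    have h1 := hzx _ (hsP ▸ mem_img_of_mem hx : s x ∈ P₀)
    simp only [hsis x hx] at h1
    have he2 := he₂m x hx
    rw [hβd, autFun_mul _ _ he2, autFun_mul _ _ (autFun_mem σ he2),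
      autFun_autOf _ hzT (autFun_mem σ he2), ← hse x hx, ← h1, hse _ (hkm x hx),
      autFun_inv_autFun σ (he₂m _ (hkm x hx))]
  obtain ⟨ei₂, hei₂, hei₂e, -, -⟩ := he₂.exists_iso_inverse
  obtain ⟨g, hg, hgx⟩ := (autT_of_mem C (Subgroup.inv_mem _ hβ)).transport C hei₂
  have hmem : ∀ x ∈ P₁, e₂ x ∈ img (autFun β⁻¹) (img e₂ P₁) := fun x hx => by
    rw [← autFun_inv_autFun β (he₂m x hx), ← hkey x hx]
    exact mem_img_of_mem (mem_img_of_mem (hkm x hx))
  refine ⟨αa * β, Subgroup.mul_mem _ hαa hβ, fun x => g (e₂ (e x)),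
    (he.comp (he₂.comp hg hmem) fun x hx => mem_img_of_mem hx), fun x hx => ?_⟩
  have hy : e x ∈ P₁ := mem_img_of_mem hx
  have h1 := hgx _ (mem_img_of_mem (hkm _ hy) : e₂ (k (e x)) ∈ img e₂ P₁)
  rw [hei₂e _ (hkm _ hy), hkey _ hy, autFun_inv_autFun β (he₂m _ hy)] at h1
  show f x = autFun (αa * β) (g (e₂ (e x)))
  rw [h1, autFun_mul _ _ (autFun_mem _ (hP₁T (hkm _ hy))),
    autFun_autFun_inv β (hP₁T (hkm _ hy))]
  show f x = autFun αa (autFun αa⁻¹ (f (ei (e x))))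
  rw [heie x hx, autFun_autFun_inv αa (hfT x hx)]

theorem isInvariantIn_eSys (C : Ctx F F' θ E' p ι) : (eSys C).IsInvariantIn F := by
  refine ⟨subsystem C, C.scT, fun P hPT φ hφ α hα => ?_, fun P hPT φ hφ => ?_⟩
  · obtain ⟨g, hg, hgx⟩ := (autT_of_mem C hα).transport C (mapTo_ev hφ)
    have he : (P.subgroupOf (TT θ T')).map ((TT θ T').subtype.comp α.toMonoidHom) =
        img (autFun α) P := map_subgroupOf_eq_img (fun x => (autFun_coe α x).symm) hPT
    obtain ⟨χ, hχ, hχg⟩ := (he ▸ hg : MapTo (eSys C)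
      ((P.subgroupOf (TT θ T')).map ((TT θ T').subtype.comp α.toMonoidHom)) g)
    refine ⟨χ, hχ, fun x hφx hαx => ?_⟩
    rw [hχg]
    show g ((α ⟨x, hPT x.2⟩ : TT θ T') : Ω) = _
    rw [← autFun_apply α (hPT x.2), hgx x x.2, ev_coe, autFun_apply α hφx]
  · have hf := mapTo_ev hφ
    obtain ⟨g, hg, hgf, -⟩ := (isCentral_iff.mp C.hZ).2 P _ hf
    obtain ⟨α, hα, f₀, hf₀, hx⟩ :=
      frattini_of_ker_le C _ g le_sup_right (sup_le hPT C.Z_le_T) hg
    have hf₀P := hf₀.restrict (le_sup_left : P ≤ P ⊔ kerIn θ)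
    obtain ⟨φ₀, hφ₀, hφ₀x⟩ := id hf₀P
    refine ⟨α, hα, φ₀, hφ₀, fun x hxT => ?_⟩
    have h1 := hφ₀x x
    rw [← autFun_apply α hxT, h1, ← hx _ (Subgroup.mem_sup_left x.2), hgf x x.2, ev_coe]

omit [Fact p.Prime] in
theorem res_self (C : Ctx F F' θ E' p ι) (hP : CP θ E' P) (b : Hq θ ι P) :
    pbk θ ι P P (fun x => x) b = b := by
  conv_lhs => rw [← cls_out b]
  rw [res_cls C hP le_rfl hP.le, cls_out]

theorem isNormalIn_eSys (C : Ctx F F' θ E' p ι) : (eSys C).IsNormalIn F p := by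
  refine ⟨⟨isSaturated_eSys C, C.hF, isInvariantIn_eSys C⟩, fun α hα => ?_⟩
  haveI := C.finite_T'
  haveI : Finite (TT θ T') := finite_of_le C.T_le
  have hT := cp_top C
  have himT : imageAlong θ (TT θ T') = T' := imageAlong_preimageAlong C.T'_le
  have hT'S : T' ≤ S' := C.hE.1.2.2.2.1.1
  obtain ⟨hαL, -⟩ := mapTo_eSys C (mapTo_of_mem_autGroup le_rfl hα)
  obtain ⟨g', hg', hgg⟩ := id hαL.2.2
  rw [himT] at hg'
  have hg'i : img g' T' = T' := img_eq_self_of_forall hg' fun y hy => hg'.mem hy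
  set α' := autOf hg' hg'i
  have hα'x : ∀ x ∈ TT θ T', autFun α' (th θ x) = th θ (autFun α x) := fun x hx => by
    rw [autFun_autOf hg' hg'i (mem_preimageAlong.mp hx).2, hgg x hx]
  obtain ⟨β', hβ', hβ'x, hβ'c⟩ := C.hE.2 α' (autOf_mem hg' hg'i)
  obtain ⟨-, G, hG, hGG⟩ := IsSurjectiveMorphism.exists_lift C.mor
    (mapTo_of_mem_autGroup (sup_le hT'S centralizerIn_le) hβ')
  set U := TT θ T' ⊔ centralizerIn S (TT θ T') with hUd
  have hcc : ∀ c ∈ centralizerIn S (TT θ T'), th θ c ∈ centralizerIn S' T' := fun c hc => by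
    refine mem_centralizerIn.mpr ⟨C.mor.2.1 ▸ th_mem_range θ c, fun y hy => ?_⟩
    obtain ⟨x, hx, rfl⟩ := exists_preimage C.T'_le hy
    rw [← th_mul θ (C.T_le hx) hc.1, ← th_mul θ hc.1 (C.T_le hx), (mem_centralizerIn.mp hc).2 x hx]
  have hUle : U ≤ preimageAlong θ (T' ⊔ centralizerIn S' T') := sup_le
    (fun x hx => mem_preimageAlong.mpr
      ⟨C.T_le hx, Subgroup.mem_sup_left (mem_preimageAlong.mp hx).2⟩)
    fun c hc => mem_preimageAlong.mpr ⟨hc.1, Subgroup.mem_sup_right (hcc c hc)⟩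
  have hGU := hG.restrict hUle
  have hTU : TT θ T' ≤ U := le_sup_left
  have hUS : U ≤ S := sup_le C.T_le centralizerIn_le
  haveI := finite_of_le hUS
  have hGT' : ∀ x ∈ TT θ T', th θ (G x) = th θ (autFun α x) := fun x hx => by
    have hx' := (mem_preimageAlong.mp hx).2
    rw [← hGG x (hUle (hTU hx)), ← hα'x x hx, autFun_apply _ (Subgroup.mem_sup_left hx'),
      autFun_apply _ hx']
    exact hβ'x ⟨th θ x, hx'⟩
  have hGT : ∀ x ∈ TT θ T', G x ∈ TT θ T' := fun x hx => mem_preimageAlong.mpr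
    ⟨hGU.mem (hTU hx), hGT' x hx ▸ (mem_preimageAlong.mp (autFun_mem α hx)).2⟩
  have hGTi : img G (TT θ T') = TT θ T' := img_eq_self_of_forall (hGU.restrict hTU) hGT
  set D := TT θ T' ⊓ Subgroup.centralizer ((TT θ T' : Subgroup Ω) : Set Ω) with hD
  have hGc : ∀ c ∈ centralizerIn S (TT θ T'), c⁻¹ * G c ∈ D := fun c hc => by
    have hcU : c ∈ U := Subgroup.mem_sup_right hc
    have h1 : th θ (c⁻¹ * G c) ∈ T' := by
      rw [th_mul θ (S.inv_mem hc.1) (hGU.mem hcU), th_inv θ hc.1, ← hGG c (hUle hcU),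
        autFun_apply _ (Subgroup.mem_sup_right (hcc c hc))]
      exact (hβ'c ⟨th θ c, Subgroup.mem_sup_right (hcc c hc)⟩ (hcc c hc)).1
    refine ⟨mem_preimageAlong.mpr ⟨S.mul_mem (S.inv_mem hc.1) (hGU.mem hcU), h1⟩,
      Subgroup.mem_centralizer_iff.mpr fun y hy => ?_⟩
    obtain ⟨x, hx, rfl⟩ := ((hGU.restrict hTU).mem_img_iff le_rfl).mp (hGTi.symm ▸ hy : y ∈ _)
    have h2 : G x * G c = G c * G x := by
      rw [← hGU.map_mul (hTU hx) hcU, ← hGU.map_mul hcU (hTU hx),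
        (mem_centralizerIn.mp hc).2 x hx]
    have h3 : G x * c⁻¹ = c⁻¹ * G x :=
      ((mem_centralizerIn.mp (Subgroup.inv_mem _ hc)).2 _ (hGT x hx))
    rw [← mul_assoc, h3, mul_assoc, h2, mul_assoc]
  have hGUi : img G U = U := by
    refine img_eq_self_of_forall hGU fun x hx => ?_
    have h1 : img G U ≤ U := by
      rw [hUd, hGU.img_sup le_sup_left le_sup_right, hGTi]
      refine sup_le le_sup_left (img_le_of_forall fun c hc => ?_)
      rw [show G c = c * (c⁻¹ * G c) by group]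
      exact U.mul_mem (Subgroup.mem_sup_right hc) (hTU (hGc c hc).1)
    exact h1 (mem_img_of_mem hx)
  set γ := autOf hGU hGUi
  have hγ : γ ∈ F.autGroup U := autOf_mem _ _
  set a₁ := autOf (hGU.restrict hTU) hGTi
  have ha₁ : a₁ ∈ F.autGroup (TT θ T') := autOf_mem _ _
  have ha₁x : ∀ x ∈ TT θ T', autFun a₁ x = G x := fun x hx => autFun_autOf _ hGTi hx
  have ha₁L : LMap F θ E' (TT θ T') (autFun a₁) := by
    refine ⟨mapTo_of_mem_autGroup C.T_le ha₁, le_rfl, g', himT.symm ▸ hg', fun x hx => ?_⟩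
    rw [hgg x hx, ha₁x x hx, hGT' x hx]
  have hW₁ : Real F θ ι (TT θ T') (W C (TT θ T') (autFun a₁)) :=
    real_DD C hT (isSec_sec C hT)
      (isSec_pull C (Tw.of_lmap C ha₁L) (isSec_sec C (hT.img C ha₁L)))
  have hpow : ∀ n : ℕ, LMap F θ E' (TT θ T') (autFun (a₁ ^ n)) ∧
      W C (TT θ T') (autFun (a₁ ^ n)) = n • W C (TT θ T') (autFun a₁) ∧
      (∀ x ∈ TT θ T', th θ (autFun (a₁ ^ n) x) = th θ (autFun (α ^ n) x)) ∧
      (∀ x ∈ TT θ T', autFun (γ ^ n) x = autFun (a₁ ^ n) x) ∧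
      ∀ c ∈ centralizerIn S (TT θ T'), c⁻¹ * autFun (γ ^ n) c ∈ D := by
    intro n
    induction n with
    | zero =>
      have hid : LMap F θ E' (TT θ T') (autFun (a₁ ^ 0)) :=
        (LMap.id le_rfl).congr fun x hx => by rw [pow_zero, autFun_one hx]
      refine ⟨hid, ?_, fun x hx => by rw [pow_zero, pow_zero, autFun_one hx],
        fun x hx => by rw [pow_zero, pow_zero, autFun_one hx, autFun_one (hTU hx)], fun c hc => ?_⟩
      · rw [zero_smul]
        exact W_id C hT fun x hx => by rw [pow_zero, autFun_one hx]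
      · rw [pow_zero, autFun_one (Subgroup.mem_sup_right hc), inv_mul_cancel]
        exact Subgroup.one_mem _
    | succ n ihn =>
      obtain ⟨hL, hWn, hth, hγn, hcn⟩ := ihn
      have hcomp : ∀ x ∈ TT θ T', autFun (a₁ ^ (n + 1)) x = autFun (a₁ ^ n) (autFun a₁ x) :=
        fun x hx => by rw [pow_succ, autFun_mul _ _ hx]
      have hmem : ∀ x ∈ TT θ T', autFun a₁ x ∈ TT θ T' := fun x hx => autFun_mem _ hx
      have hi : img (autFun a₁) (TT θ T') = TT θ T' := img_autFun _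
      have hLc := ha₁L.comp hL hmem
      refine ⟨hLc.congr hcomp, ?_, fun x hx => ?_, fun x hx => ?_, fun c hc => ?_⟩
      · have hbr : Real F θ ι (TT θ T') (W C (TT θ T') (autFun (a₁ ^ n))) :=
          hWn.symm ▸ real_nsmul C C.T_le C.Z_le_T hW₁ n
        have hfix := pbk_res_eq C hT ha₁L hbr
        rw [hi, res_self C hT] at hfix
        rw [W_congr C hT hLc hcomp, W_comp C hT ha₁L (hi.symm ▸ hL), hi, hfix, hWn, succ_nsmul,
          add_comm]
      · rw [hcomp x hx, hth _ (hmem x hx), ha₁x x hx, pow_succ, autFun_mul _ _ hx]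
        obtain ⟨hLn, -⟩ := mapTo_eSys C (mapTo_of_mem_autGroup le_rfl (Subgroup.pow_mem _ hα n))
        obtain ⟨q, -, hq⟩ := hLn.2.2
        rw [← hq _ (hGT x hx), ← hq _ (autFun_mem α hx), hGT' x hx]
      · rw [pow_succ, autFun_mul _ _ (hTU hx), autFun_autOf hGU hGUi (hTU hx), hγn _ (hGT x hx),
          hcomp x hx, ha₁x x hx]
      · have hcU : c ∈ U := Subgroup.mem_sup_right hc
        have hw := hGc c hc
        set w := c⁻¹ * G c with hwd
        have hm := mapTo_of_mem_autGroup hUS (Subgroup.pow_mem _ hγ n)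
        rw [pow_succ, autFun_mul _ _ hcU, autFun_autOf hGU hGUi hcU,
          show G c = c * w by rw [hwd]; group, hm.map_mul hcU (hTU hw.1), ← mul_assoc]
        refine Subgroup.mul_mem _ (hcn c hc) ⟨?_, Subgroup.mem_centralizer_iff.mpr fun y hy => ?_⟩
        · rw [hγn _ hw.1]; exact autFun_mem _ hw.1
        · obtain ⟨x, hx, rfl⟩ : ∃ x ∈ TT θ T', autFun (a₁ ^ n) x = y :=
            ⟨_, autFun_mem (a₁ ^ n)⁻¹ hy, autFun_autFun_inv _ hy⟩
          rw [← hγn x hx, ← hm.map_mul (hTU hx) (hTU hw.1), ← hm.map_mul (hTU hw.1) (hTU hx),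
            Subgroup.mem_centralizer_iff.mp hw.2 x hx]
  set I := (Inn ↥(TT θ T')).subgroupOf ((eSys C).autGroup (TT θ T')) with hI
  haveI : I.Normal := normal_inn_subgroupOf _ _
  haveI := finite_mulAut ↥(TT θ T')
  have hmp : ¬ p ∣ I.index := by
    have h5 := ((isFullyAutomized_iff (isPGroup_T C)).mp (isFullyAutomized_of_isFullyNormalized
      (isPGroup_T C) (isSaturated_eSys C) isFullyNormalized_top)).2
    rwa [autInducedBy_self_eq_inn] at h5
  have hcop : Nat.Coprime I.index p :=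
    Nat.Coprime.symm ((Fact.out : p.Prime).coprime_iff_not_dvd.mpr hmp)
  obtain ⟨n, hn1, hn0⟩ := Nat.chineseRemainder hcop 1 0
  obtain ⟨hLn, hWn, hthn, hγn, hcn⟩ := hpow n
  have hEn : MapTo (eSys C) (TT θ T') (autFun (a₁ ^ n)) := by
    refine good_eSys C _ _ hT hLn ?_
    obtain ⟨d, hd⟩ := Nat.modEq_zero_iff_dvd.mp hn0
    rw [hWn, hd, mul_smul, nsmul_p_eq_zero]
  obtain ⟨u, hu, hux⟩ := eq_comp_inner C hT hEn
    (mapTo_of_mem_autGroup le_rfl (Subgroup.pow_mem _ hα n)) fun x hx => (hthn x hx).symm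
  set αE : (eSys C).autGroup (TT θ T') := ⟨α, hα⟩
  have hmemI : (αE ^ n)⁻¹ * αE ∈ I := by
    rw [← QuotientGroup.eq_one_iff, QuotientGroup.mk_mul, QuotientGroup.mk_inv,
      QuotientGroup.mk_pow, inv_mul_eq_one]
    conv_rhs => rw [← pow_one (αE : (eSys C).autGroup (TT θ T') ⧸ I)]
    refine pow_eq_pow_iff_modEq.mpr (Nat.ModEq.of_dvd ?_ hn1)
    rw [Subgroup.index_eq_card]
    exact orderOf_dvd_natCard _
  have hI' := Subgroup.mem_subgroupOf.mp hmemI
  rw [inn_eq_autInducedBy] at hI'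
  obtain ⟨r, hr, hrx⟩ := mem_autInducedBy_iff_cj.mp hI'
  have hrel : ∀ x ∈ TT θ T', autFun α x = autFun (a₁ ^ n) (cj (u * r) x) := fun x hx => by
    have h1 := hrx x hx
    rw [Subgroup.coe_mul, Subgroup.coe_inv, SubgroupClass.coe_pow, autFun_mul _ _ hx] at h1
    have hm : cj r x ∈ TT θ T' := by
      rw [cj_apply]; exact Subgroup.mul_mem _ (Subgroup.mul_mem _ hr hx) (Subgroup.inv_mem _ hr)
    rw [← autFun_autFun_inv (α ^ n) (autFun_mem α hx), h1, hux _ hm, cj_mul]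
  have hv : u * r ∈ U := hTU (Subgroup.mul_mem _ hu hr)
  obtain ⟨δ, hδ⟩ := exists_conjAut (P := U) (Subgroup.le_normalizer hv)
  have hδF : δ ∈ F.autGroup U := autInducedBy_le_autGroup hUS
    (mem_autInducedBy_iff_cj.mpr ⟨u * r, hUS hv, hδ⟩)
  refine ⟨γ ^ n * δ, Subgroup.mul_mem _ (Subgroup.pow_mem _ hγ n) hδF, fun x => ?_, fun c hc => ?_⟩
  · rw [← autFun_apply α x.2]
    show ((((γ ^ n * δ) ⟨(x : Ω), hTU x.2⟩ : U)) : Ω) = _
    rw [← autFun_apply _ (hTU x.2), autFun_mul _ _ (hTU x.2), hδ _ (hTU x.2), hrel x x.2]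
    refine hγn _ ?_
    rw [cj_apply]
    exact Subgroup.mul_mem _ (Subgroup.mul_mem _ (Subgroup.mul_mem _ hu hr) x.2)
      (Subgroup.inv_mem _ (Subgroup.mul_mem _ hu hr))
  · rw [← autFun_apply _ c.2, autFun_mul _ _ c.2, hδ _ c.2, cj_apply,
      (mem_centralizerIn.mp hc).2 _ (Subgroup.mul_mem _ hu hr), mul_inv_cancel_right]
    exact hcn _ hc

/-- A normal subsystem of the image of a central morphism with kernel of exponent `p` lifts. -/
theorem exists_lift_normal (C : Ctx F F' θ E' p ι) :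
    ∃ E : FusionSystem (TT θ T'), E.IsNormalIn F p ∧
      ∀ P f, MapTo E P f → LMap F θ E' P f :=
  ⟨eSys C, isNormalIn_eSys C, fun _ _ h => (mapTo_eSys C h).1⟩

end Cfsg.Agent.Fusion.CentralLift
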