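import Cfsg.Agent.Lib.Fusion.CentralLift.Sections
import Cfsg.Agent.Lib.Fusion.IndexP.PSum
import Cfsg.Agent.Lib.Fusion.Generation

/-!
The action of a normalizing subgroup on classes, invariance of realized classes, and counting.
-/

set_option autoImplicit false

namespace Cfsg.Agent.Fusion.CentralLift

open Cfsg.FusionSystem (centralizerIn normalizerIn imageAlong preimageAlong)

universe u v

variable {Ω : Type u} [Group Ω] {S : Subgroup Ω} {Ω' : Type v} [Group Ω'] {S' T' : Subgroup Ω'}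
variable {F : FusionSystem S} {F' : FusionSystem S'} {θ : S →* Ω'} {E' : FusionSystem T'}
  {p : ℕ} {ι : Ω → ZMod p} {P Q R : Subgroup Ω} {f g g₁ g₂ h : Ω → Ω}
  {o : Set (Ω → Ω)} [Finite S] [Fact p.Prime]

/-- `F`-images of subgroups with centric image have centric image. -/
theorem CP.img_map (C : Ctx F F' θ E' p ι) (hP : CP θ E' P) (hf : MapTo F P f) :
    CP θ E' (Cfsg.Agent.Fusion.img f P) := by
  obtain ⟨f', hf', hff⟩ := IsMorphism.exists_map C.mor.1 hf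
  have hinv := C.hE.1.2.2
  have hP'T : imageAlong θ P ≤ T' := hP.2.2.1
  obtain ⟨a, ha, e', he', hae⟩ := IsInvariantIn.frattini hinv hP'T hf'
  haveI := C.finite_T'
  have hfT : Cfsg.Agent.Fusion.img f P ≤ TT θ T' := img_le_of_forall fun x hx =>
    StronglyClosed.map_mem C.scT hf hx (hP.le hx)
  refine ⟨C.img_ker hf hP.1, hfT, ?_⟩
  rw [← img_induced hf hf' hff]
  have hce : E'.IsCentric (Cfsg.Agent.Fusion.img e' (imageAlong θ P)) :=
    isCentric_of_isConj hP.2.2 he'.isConj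
  set R' := Cfsg.Agent.Fusion.img e' (imageAlong θ P) with hR'
  have hT'S : T' ≤ S' := C.hE.1.2.2.2.1.1
  have himg : Cfsg.Agent.Fusion.img f' (imageAlong θ P) =
      Cfsg.Agent.Fusion.img (autFun a) R' := by
    rw [hR', he'.img_img le_rfl]
    exact img_congr hae
  rw [himg]
  have hR'T : R' ≤ T' := he'.img_le
  have ham := (mapTo_of_mem_autGroup hT'S ha).restrict hR'T
  have haT : Cfsg.Agent.Fusion.img (autFun a) R' ≤ T' :=
    img_le_of_forall fun x hx => autFun_mem a (hR'T hx)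
  refine ⟨haT, fun Q hQ => ?_⟩
  obtain ⟨g', hg', rfl⟩ := isConj_iff.mp hQ
  obtain ⟨k, hk, hkx⟩ := IsInvariantIn.transport hinv haT hg' (Subgroup.inv_mem _ ha)
  have he : Cfsg.Agent.Fusion.img (autFun a⁻¹) (Cfsg.Agent.Fusion.img (autFun a) R') = R' := by
    rw [ham.img_img le_rfl]
    exact (img_congr fun x hx => autFun_inv_autFun a (hR'T hx)).trans img_id
  rw [he] at hk
  intro c hc
  obtain ⟨hcT, hcc⟩ := mem_centralizerIn.mp hc
  have hg'T : ∀ x ∈ Cfsg.Agent.Fusion.img (autFun a) R', g' x ∈ T' := fun x hx => hg'.mem hx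
  have hmi := mapTo_of_mem_autGroup hT'S (Subgroup.inv_mem _ ha)
  have hc' : autFun a⁻¹ c ∈ centralizerIn T' (Cfsg.Agent.Fusion.img k R') := by
    refine mem_centralizerIn.mpr ⟨autFun_mem _ hcT, fun y hy => ?_⟩
    obtain ⟨x, hx, rfl⟩ := (hk.mem_img_iff le_rfl).mp hy
    obtain ⟨z, hz, hzx⟩ := (hmi.mem_img_iff haT).mp (he.symm ▸ hx : x ∈ _)
    rw [← hzx, hkx z hz, ← hmi.map_mul (hg'T z hz) hcT, ← hmi.map_mul hcT (hg'T z hz),
      hcc _ (mem_img_of_mem hz)]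
  obtain ⟨x, hx, hxc⟩ := (hk.mem_img_iff le_rfl).mp (hce.2 _ hk.isConj hc')
  obtain ⟨z, hz, hzx⟩ := (hmi.mem_img_iff haT).mp (he.symm ▸ hx : x ∈ _)
  rw [← hzx, hkx z hz] at hxc
  have h1 : g' z = c := hmi.inj (hg'T z hz) hcT hxc
  exact h1 ▸ mem_img_of_mem hz

/-- Automorphisms which are trivial modulo the kernel. -/
def kerAut (C : Ctx F F' θ E' p ι) (P : Subgroup Ω) (hPS : P ≤ S) (hZ : kerIn θ ≤ P) :
    Subgroup (MulAut P) where
  carrier := {α | α ∈ F.autGroup P ∧ ∀ x ∈ P, x⁻¹ * autFun α x ∈ kerIn θ}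
  one_mem' := ⟨Subgroup.one_mem _, fun x hx => by rw [autFun_one hx, inv_mul_cancel]; exact Subgroup.one_mem _⟩
  mul_mem' := by
    rintro a b ⟨ha, hax⟩ ⟨hb, hbx⟩
    refine ⟨Subgroup.mul_mem _ ha hb, fun x hx => ?_⟩
    rw [autFun_mul _ _ hx, show x⁻¹ * autFun a (autFun b x) =
      (x⁻¹ * autFun b x) * ((autFun b x)⁻¹ * autFun a (autFun b x)) by group]
    exact Subgroup.mul_mem _ (hbx x hx) (hax _ (autFun_mem b hx))
  inv_mem' := by
    rintro a ⟨ha, hax⟩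
    refine ⟨Subgroup.inv_mem _ ha, fun x hx => ?_⟩
    have h1 := hax _ (autFun_mem a⁻¹ hx)
    rw [autFun_autFun_inv a hx] at h1
    have h2 := Subgroup.inv_mem _ h1
    have h3 : x⁻¹ * autFun a⁻¹ x = ((autFun a⁻¹ x)⁻¹ * x)⁻¹ := by group
    rw [h3]
    exact h2

theorem Ctx.pow_p (C : Ctx F F' θ E' p ι) {z : Ω} (hz : z ∈ kerIn θ) : z ^ p = 1 := by
  refine C.ι_eq_zero _ (Subgroup.pow_mem _ hz p) ?_
  have : ∀ n : ℕ, ι (z ^ n) = n • ι z := by
    intro n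
    induction n with
    | zero => rw [pow_zero, zero_smul, C.ι_one]
    | succ n ih => rw [pow_succ, C.ι_mul _ (Subgroup.pow_mem _ hz n) _ hz, ih, succ_nsmul]
  rw [this, nsmul_eq_mul, ZMod.natCast_self, zero_mul]

theorem isPGroup_kerAut (C : Ctx F F' θ E' p ι) (hPS : P ≤ S) (hZ : kerIn θ ≤ P) :
    IsPGroup p (kerAut C P hPS hZ) := by
  intro α
  refine ⟨1, Subtype.ext (autFun_ext fun x hx => ?_)⟩
  have hm := mapTo_of_mem_autGroup hPS α.2.1
  set z := x⁻¹ * autFun (α : MulAut P) x with hz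
  have hzK : z ∈ kerIn θ := α.2.2 x hx
  have hpow : ∀ n : ℕ, autFun ((α : MulAut P) ^ n) x = x * z ^ n := by
    intro n
    induction n with
    | zero => rw [pow_zero, pow_zero, autFun_one hx, mul_one]
    | succ n ih =>
      rw [pow_succ', autFun_mul _ _ hx, ih, hm.map_mul hx (P.pow_mem (hZ hzK) n),
        C.fix hm (Subgroup.pow_mem _ hzK n) (P.pow_mem (hZ hzK) n),
        show autFun (α : MulAut P) x = x * z by rw [hz]; group, pow_succ', mul_assoc]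
  show autFun ((((α : kerAut C P hPS hZ) ^ p ^ 1 : kerAut C P hPS hZ)) : MulAut P) x =
    autFun (1 : MulAut P) x
  rw [SubgroupClass.coe_pow, pow_one, hpow, C.pow_p hzK, mul_one, autFun_one hx]

/-- On a fully normalized subgroup realized classes come from conjugations. -/
theorem exists_conj_of_real (C : Ctx F F' θ E' p ι) (hP : F.IsFullyNormalized P)
    (hZ : kerIn θ ≤ P) {k : Ω → Ω} (hk : MapTo F P k) (hkz : ∀ x ∈ P, x⁻¹ * k x ∈ kerIn θ) :
    ∃ z ∈ normalizerIn S P, ∀ x ∈ P, k x = cj z x := by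
  have hPS := hP.1
  haveI := finite_of_le hPS
  haveI := finite_mulAut P
  have hkP : ∀ x ∈ P, k x ∈ P := fun x hx => by
    rw [show k x = x * (x⁻¹ * k x) by group]; exact P.mul_mem hx (hZ (hkz x hx))
  have himg : img k P = P := img_eq_self_of_forall hk hkP
  have hmem : autOf hk himg ∈ kerAut C P hPS hZ := ⟨autOf_mem _ _, fun x hx => by
    rw [autFun_autOf hk himg hx]; exact hkz x hx⟩
  obtain ⟨β, hβ, hβK⟩ := exists_conj_le_autInducedBy
    (isFullyAutomized_of_isFullyNormalized C.hS C.hF hP) (A := kerAut C P hPS hZ)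
    (fun α hα => hα.1) (isPGroup_kerAut C hPS hZ)
  have hconj : β⁻¹ * autOf hk himg * β⁻¹⁻¹ ∈ kerAut C P hPS hZ := by
    refine ⟨Subgroup.mul_mem _ (Subgroup.mul_mem _ (Subgroup.inv_mem _ hβ) hmem.1)
      (Subgroup.inv_mem _ (Subgroup.inv_mem _ hβ)), fun x hx => ?_⟩
    set y := autFun β x with hy
    have hyP : y ∈ P := autFun_mem β hx
    rw [inv_inv, autFun_mul _ _ hx, autFun_mul _ _ (autFun_mem β hx), ← hy]
    set w := y⁻¹ * autFun (autOf hk himg) y with hw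
    have hwK : w ∈ kerIn θ := hmem.2 y hyP
    have hm := mapTo_of_mem_autGroup hPS (Subgroup.inv_mem _ hβ)
    rw [show autFun (autOf hk himg) y = y * w by rw [hw]; group, hm.map_mul hyP (hZ hwK),
      hy, autFun_inv_autFun β hx, C.fix hm hwK (hZ hwK), inv_mul_cancel_left]
    exact hwK
  have h1 := hβK _ hconj
  rw [show β * (β⁻¹ * autOf hk himg * β⁻¹⁻¹) * β⁻¹ = autOf hk himg by group] at h1
  obtain ⟨z, hz, hzx⟩ := mem_autInducedBy_iff_cj.mp h1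
  refine ⟨z, mem_normalizerIn_of_forall hPS hz fun x hx => ?_, fun x hx => ?_⟩
  · rw [← cj_apply, ← hzx x hx]; exact autFun_mem _ hx
  · rw [← autFun_autOf hk himg hx]; exact hzx x hx

theorem mapTo_cj_self (hP : P ≤ S) {r : Ω} (hr : r ∈ normalizerIn S P) :
    img (cj r) P = P := by
  haveI := finite_of_le hP
  exact img_eq_self_of_forall (mapTo_cj (F := innerFusionSystem S) hP hr.1)
    fun x hx => conj_mem_of_mem_normalizerIn hr hx

/-- Conjugation inside `T` fixes realized classes. -/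
theorem pbk_conj (C : Ctx F F' θ E' p ι) (hP : CP θ E' P) {a : Hq θ ι P}
    (ha : Real F θ ι P a) {r : Ω} (hrT : r ∈ TT θ T') (hr : r ∈ normalizerIn S P) :
    pbk θ ι P P (cj r) a = a := by
  obtain ⟨k, hk, hkz, rfl⟩ := ha
  rw [pbk_cls C (mapTo_cj hP.le_S hr.1) (mapTo_cj_self hP.le_S hr) hP.1 hP.le_S]
  obtain ⟨P₀, hc, hP₀⟩ := exists_isFullyNormalized (F := F) hP.le_S
  obtain ⟨s, hs, hsP⟩ := exists_isStd C.hS C.hF hP₀ hc
  have hPN := le_normalizerIn (S := S) hP.le_S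
  have hP₀CP : CP θ E' P₀ := hsP ▸ hP.img_map C (hs.restrict hPN)
  obtain ⟨s', hs', hs's, hss', -⟩ := (hs.restrict hPN).exists_iso_inverse
  rw [hsP] at hs'
  have hsm : ∀ x ∈ P, s x ∈ P₀ := fun x hx => hsP ▸ mem_img_of_mem hx
  have hs'm : ∀ y ∈ P₀, s' y ∈ P := fun y hy => by
    obtain ⟨x, hx, rfl⟩ := ((hs.restrict hPN).mem_img_iff le_rfl).mp (hsP.symm ▸ hy)
    rw [hs's x hx]; exact hx
  have hkP : ∀ x ∈ P, k x ∈ P := fun x hx => by
    rw [show k x = x * (x⁻¹ * k x) by group]; exact P.mul_mem hx (hP.1 (hkz x hx))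
  have hsk : ∀ x ∈ P, (s x)⁻¹ * s (k x) = x⁻¹ * k x := fun x hx => by
    rw [← (hs.restrict hPN).map_inv hx,
      ← (hs.restrict hPN).map_mul (P.inv_mem hx) (hkP x hx),
      C.fix (hs.restrict hPN) (hkz x hx) (hP.1 (hkz x hx))]
  obtain ⟨z, hz, hzx⟩ := exists_conj_of_real C hP₀ hP₀CP.1
    (k := fun y => s (k (s' y))) ((hs'.comp hk hs'm).comp (hs.restrict hPN) fun y hy => hkP _ (hs'm y hy))
    fun y hy => by
      obtain ⟨x, hx, rfl⟩ := ((hs.restrict hPN).mem_img_iff le_rfl).mp (hsP.symm ▸ hy)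
      show (s x)⁻¹ * s (k (s' (s x))) ∈ kerIn θ
      rw [hs's x hx, hsk x hx]; exact hkz x hx
  set q := s r with hq
  have hqT : q ∈ TT θ T' := StronglyClosed.map_mem C.scT hs hr hrT
  have hqN : q ∈ normalizerIn S P₀ := hsP ▸ hs.map_mem_normalizerIn hPN hr hr
  -- the values of the class
  have hv : ∀ x ∈ P, x⁻¹ * k x = (s x)⁻¹ * cj z (s x) := fun x hx => by
    rw [← hzx _ (hsm x hx), hs's x hx, hsk x hx]
  have hv₀ : ∀ y ∈ P₀, y⁻¹ * cj z y ∈ kerIn θ := fun y hy => by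
    obtain ⟨x, hx, rfl⟩ := ((hs.restrict hPN).mem_img_iff le_rfl).mp (hsP.symm ▸ hy)
    rw [← hv x hx]; exact hkz x hx
  set c := z⁻¹ * (q⁻¹ * z * q) with hc
  have hTn : ∀ {u x : Ω}, u ∈ S → x ∈ TT θ T' → u * x * u⁻¹ ∈ TT θ T' := fun hu hx =>
    StronglyClosed.conj_mem C.scT hu hx
  have hcT : c ∈ TT θ T' := by
    rw [hc, show z⁻¹ * (q⁻¹ * z * q) = (z⁻¹ * q⁻¹ * z⁻¹⁻¹) * q by group]
    exact Subgroup.mul_mem _ (hTn (S.inv_mem hz.1) (Subgroup.inv_mem _ hqT)) hqT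
  have hy : ∀ x ∈ P, cj r x ∈ P := fun x hx => conj_mem_of_mem_normalizerIn hr hx
  have key : ∀ x ∈ P, (cj r x)⁻¹ * k (cj r x) =
      (x⁻¹ * k x) * ((s x)⁻¹ * (c * s x * c⁻¹)) := fun x hx => by
    have hsx : s (cj r x) = q * s x * q⁻¹ := hs.map_conj hr (hPN hx)
    rw [hv _ (hy x hx), hsx, hv x hx]
    set y := s x
    have hm : q * y * q⁻¹ ∈ P₀ := hsx ▸ hsm _ (hy x hx)
    have h1 : (q * y * q⁻¹)⁻¹ * cj z (q * y * q⁻¹) =
        q * (y⁻¹ * (z * c * y * (z * c)⁻¹)) * q⁻¹ := by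
      rw [hc]; simp only [cj_apply]; group
    have h2 : y⁻¹ * (z * c * y * (z * c)⁻¹) =
        y⁻¹ * cj z y * (z * (y⁻¹ * (c * y * c⁻¹)) * z⁻¹) := by simp only [cj_apply]; group
    have h4 : q⁻¹ * ((q * y * q⁻¹)⁻¹ * cj z (q * y * q⁻¹)) * q⁻¹⁻¹ =
        (q * y * q⁻¹)⁻¹ * cj z (q * y * q⁻¹) :=
      C.conj_ker (hv₀ _ hm) (S.inv_mem hqN.1)
    have h5 : q⁻¹ * ((q * y * q⁻¹)⁻¹ * cj z (q * y * q⁻¹)) * q⁻¹⁻¹ =
        y⁻¹ * cj z y * (z * (y⁻¹ * (c * y * c⁻¹)) * z⁻¹) := by rw [h1, ← h2]; group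
    have h6 : z * (y⁻¹ * (c * y * c⁻¹)) * z⁻¹ ∈ kerIn θ := by
      have := Subgroup.mul_mem _ (Subgroup.inv_mem _ (hv₀ y (hsm x hx)))
        (h5 ▸ h4.symm ▸ hv₀ _ hm : y⁻¹ * cj z y * (z * (y⁻¹ * (c * y * c⁻¹)) * z⁻¹) ∈ kerIn θ)
      rwa [inv_mul_cancel_left] at this
    have h7 : z * (y⁻¹ * (c * y * c⁻¹)) * z⁻¹ = y⁻¹ * (c * y * c⁻¹) := by
      have := C.conj_ker h6 (S.inv_mem hz.1)
      rw [show z⁻¹ * (z * (y⁻¹ * (c * y * c⁻¹)) * z⁻¹) * z⁻¹⁻¹ = y⁻¹ * (c * y * c⁻¹) by group] at this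
      exact this.symm
    rw [← h4, h5, h7]
  have hc₀ : ∀ x ∈ P, (s x)⁻¹ * (c * s x * c⁻¹) ∈ kerIn θ := fun x hx => by
    have := Subgroup.mul_mem _ (Subgroup.inv_mem _ (hkz x hx)) (key x hx ▸ hkz _ (hy x hx))
    rwa [inv_mul_cancel_left] at this
  have hcP₀ : c ∈ P₀ := hP₀CP.mem_of_centralizes hcT fun y hy' => by
    obtain ⟨x, hx, rfl⟩ := ((hs.restrict hPN).mem_img_iff le_rfl).mp (hsP.symm ▸ hy')
    exact hc₀ x hx
  obtain ⟨u, hu, huc⟩ := ((hs.restrict hPN).mem_img_iff le_rfl).mp (hsP.symm ▸ hcP₀)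
  have hux : ∀ x ∈ P, x⁻¹ * (u * x * u⁻¹) = (s x)⁻¹ * (c * s x * c⁻¹) := fun x hx => by
    have hm : x⁻¹ * (u * x * u⁻¹) ∈ P :=
      P.mul_mem (P.inv_mem hx) (P.mul_mem (P.mul_mem hu hx) (P.inv_mem hu))
    have h1 : s (x⁻¹ * (u * x * u⁻¹)) = (s x)⁻¹ * (c * s x * c⁻¹) := by
      rw [(hs.restrict hPN).map_mul (P.inv_mem hx) (P.mul_mem (P.mul_mem hu hx) (P.inv_mem hu)),
        (hs.restrict hPN).map_inv hx, (hs.restrict hPN).map_conj hu hx, huc]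
    have hzP := hP.1 (hc₀ x hx)
    exact (hs.restrict hPN).inj hm hzP (h1.trans (C.fix (hs.restrict hPN) (hc₀ x hx) hzP).symm)
  rw [← sub_eq_zero, ← map_sub, cls_eq_zero_iff C hP.le_S]
  refine ⟨u, hu, fun x hx => by rw [hux x hx]; exact hc₀ x hx, fun x hx => ?_⟩
  show ι ((cj r x)⁻¹ * k (cj r x)) - ι (x⁻¹ * k x) = _
  rw [key x hx, C.ι_mul _ (hkz x hx) _ (hc₀ x hx), add_sub_cancel_left, hux x hx]

end Cfsg.Agent.Fusion.CentralLift
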