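import Cfsg.Agent.Lib.Fusion.CentralLift.Normal

/-!
Lifting normal subsystems through a surjective morphism with central kernel.
-/

set_option autoImplicit false

namespace Cfsg.Agent.Fusion.CentralLift

open Cfsg.FusionSystem (centralizerIn normalizerIn imageAlong preimageAlong)

universe u v

variable {Ω : Type u} [Group Ω] {S : Subgroup Ω} {Ω' : Type v} [Group Ω'] {S' T' : Subgroup Ω'}
variable {F : FusionSystem S} {F' : FusionSystem S'} {θ : S →* Ω'} {E' : FusionSystem T'} {p : ℕ}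

theorem isCentral_mono {Z K : Subgroup Ω} (hK : F.IsCentral K) (hZK : Z ≤ K) : F.IsCentral Z := by
  refine isCentral_iff.mpr ⟨hZK.trans hK.1, fun P f hf => ?_⟩
  obtain ⟨g, hg, hgf, hgK⟩ := (isCentral_iff.mp hK).2 P f hf
  exact ⟨g, hg.restrict (sup_le_sup_left hZK P), hgf, fun x hx => hgK x (hZK hx)⟩

/-- A cyclic group of prime order embeds into `ZMod p`. -/
theorem exists_index_fun {z : Ω} (hz : orderOf z = p) :
    ∃ ι : Ω → ZMod p, (∀ x ∈ Subgroup.zpowers z, ∀ y ∈ Subgroup.zpowers z, ι (x * y) = ι x + ι y) ∧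
      ∀ x ∈ Subgroup.zpowers z, ι x = 0 → x = 1 := by
  classical
  refine ⟨fun x => if h : ∃ n : ℤ, z ^ n = x then ((h.choose : ℤ) : ZMod p) else 0, ?_, ?_⟩
  all_goals
    have key : ∀ n : ℤ, (if h : ∃ m : ℤ, z ^ m = z ^ n then ((h.choose : ℤ) : ZMod p) else 0) = (n : ZMod p) := by
      intro n
      have h : ∃ m : ℤ, z ^ m = z ^ n := ⟨n, rfl⟩
      rw [dif_pos h, ZMod.intCast_eq_intCast_iff]
      have h1 := zpow_eq_zpow_iff_modEq.mp h.choose_spec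
      rwa [hz] at h1
  · intro x hx y hy
    obtain ⟨n, rfl⟩ := Subgroup.mem_zpowers_iff.mp hx
    obtain ⟨m, rfl⟩ := Subgroup.mem_zpowers_iff.mp hy
    show dite _ _ _ = dite _ _ _ + dite _ _ _
    rw [key, key]
    rw [← zpow_add, key, Int.cast_add]
  · intro x hx h0
    obtain ⟨n, rfl⟩ := Subgroup.mem_zpowers_iff.mp hx
    change dite _ _ _ = _ at h0
    rw [key, ZMod.intCast_zmod_eq_zero_iff_dvd, ← hz] at h0
    exact orderOf_dvd_iff_zpow_eq_one.mp h0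

theorem exists_factor_morphism [Finite S] {Ω'' : Type u} [Group Ω''] {S'' : Subgroup Ω''}
    {F'' : FusionSystem S''} {η : S →* Ω''} (hη : F.IsSurjectiveMorphism F'' η)
    (hθ : F.IsSurjectiveMorphism F' θ) (hker : kerIn η ≤ kerIn θ)
    (hK : F.IsCentral (kerIn θ)) :
    ∃ ρ : S'' →* Ω', F''.IsSurjectiveMorphism F' ρ ∧ F''.IsCentral (kerIn ρ) ∧
      preimageAlong η (kerIn ρ) = kerIn θ ∧ ∀ x ∈ S, th ρ (th η x) = th θ x := by
  let η₁ : ↥S →* ↥S'' := η.codRestrict S'' hη.1.1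
  have hs : Function.Surjective η₁ := by
    rintro ⟨y, hy⟩
    obtain ⟨x, hx⟩ : y ∈ η.range := hη.2.1.symm ▸ hy
    exact ⟨x, Subtype.ext hx⟩
  have hk : η₁.ker ≤ θ.ker := by
    intro t ht
    have h1 : (t : Ω) ∈ kerIn η := ⟨t, Subtype.ext_iff.mp (MonoidHom.mem_ker.mp ht), rfl⟩
    obtain ⟨t', ht', he⟩ := hker h1
    exact Subtype.ext he ▸ ht'
  let ρ : ↥S'' →* Ω' := η₁.liftOfRightInverse _ (Function.rightInverse_surjInv hs) ⟨θ, hk⟩
  have hρ : ∀ x ∈ S, th ρ (th η x) = th θ x := fun x hx => by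
    rw [th_apply η hx, th_apply θ hx]
    rw [th_apply ρ (hη.1.1 ⟨x, hx⟩)]
    exact η₁.liftOfRightInverse_comp_apply _ (Function.rightInverse_surjInv hs) ⟨θ, hk⟩ ⟨x, hx⟩
  have hmemS : ∀ {x}, x ∈ S → th η x ∈ S'' := fun {x} hx => th_apply η hx ▸ hη.1.1 ⟨x, hx⟩
  have hpre : ∀ {y}, y ∈ S'' → ∃ x ∈ S, th η x = y := fun {y} hy => by
    obtain ⟨x, hx, hxy⟩ := exists_preimage (θ := η) (P' := S'') hη.2.1.symm.le hy
    exact ⟨x, preimageAlong_le hx, hxy⟩
  refine ⟨ρ, ⟨⟨fun y => ?_, fun P φ hφ => ?_⟩, ?_, fun P' hP' φ' hφ' => ?_⟩, ?_, ?_, hρ⟩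
  · obtain ⟨x, hx, hxy⟩ := hpre y.2
    rw [← th_coe ρ y, ← hxy, hρ x hx, th_apply θ hx]
    exact hθ.1.1 _
  · have hPS : P ≤ S'' := (F''.le_of_mem hφ).1
    obtain ⟨hPr, f, hf, hff⟩ := IsSurjectiveMorphism.exists_lift hη (mapTo_ev hφ)
    obtain ⟨f', hf', hff'⟩ := IsMorphism.exists_map hθ.1 hf
    have he : imageAlong θ (preimageAlong η P) = imageAlong ρ P := by
      ext y
      rw [mem_imageAlong preimageAlong_le, mem_imageAlong hPS]
      constructor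
      · rintro ⟨x, hx, rfl⟩
        exact ⟨th η x, (mem_preimageAlong.mp hx).2, hρ x (preimageAlong_le hx)⟩
      · rintro ⟨w, hw, rfl⟩
        obtain ⟨x, hx, rfl⟩ := exists_preimage hPr hw
        exact ⟨x, hx, (hρ x (preimageAlong_le hx)).symm⟩
    rw [he] at hf'
    obtain ⟨φ', hφ', hφ'f⟩ := id hf'
    refine ⟨φ', hφ', (inducedAlong_iff hPS (fun z hz => (mapTo_ev hφ).mem hz)
      (fun z => (ev_coe φ z).symm) hφ'f).mpr fun w hw => ⟨th_mem_imageAlong hPS hw, ?_⟩⟩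
    obtain ⟨x, hx, rfl⟩ := exists_preimage hPr hw
    rw [hρ x (preimageAlong_le hx), hff' x hx, hff x hx, hρ _ (hf.mem hx)]
  · rw [← hθ.2.1]
    ext y
    constructor
    · rintro ⟨w, rfl⟩
      obtain ⟨x, hx, hxw⟩ := hpre w.2
      rw [← th_coe ρ w, ← hxw, hρ x hx]
      exact th_mem_range θ x
    · rintro ⟨x, rfl⟩
      rw [← th_coe θ x, ← hρ x x.2]
      exact th_mem_range ρ _
  · obtain ⟨hP'r, f, hf, hff⟩ := IsSurjectiveMorphism.exists_lift hθ (mapTo_ev hφ')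
    obtain ⟨f'', hf'', hff''⟩ := IsMorphism.exists_map hη.1 hf
    have he : imageAlong η (preimageAlong θ P') = preimageAlong ρ P' := by
      ext w
      rw [mem_imageAlong preimageAlong_le, mem_preimageAlong]
      constructor
      · rintro ⟨x, hx, rfl⟩
        exact ⟨hmemS (preimageAlong_le hx), by
          rw [hρ x (preimageAlong_le hx)]; exact (mem_preimageAlong.mp hx).2⟩
      · rintro ⟨hw, hw'⟩
        obtain ⟨x, hx, rfl⟩ := hpre hw
        exact ⟨x, mem_preimageAlong.mpr ⟨hx, hρ x hx ▸ hw'⟩, rfl⟩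
    rw [he] at hf''
    obtain ⟨φ, hφ, hφf⟩ := id hf''
    refine ⟨φ, hφ, (inducedAlong_iff preimageAlong_le (fun z hz => hf''.mem hz) hφf
      (fun y => (ev_coe φ' y).symm)).mpr fun w hw => ⟨(mem_preimageAlong.mp hw).2, ?_⟩⟩
    obtain ⟨x, hx, rfl⟩ := (mem_imageAlong preimageAlong_le).mp (he.symm ▸ hw)
    rw [hρ x (preimageAlong_le hx), hff x hx, hff'' x hx, hρ _ (hf.mem hx)]
  · refine isCentral_iff.mpr ⟨kerIn_le, fun P f hf => ?_⟩
    obtain ⟨hPr, f₀, hf₀, hff₀⟩ := IsSurjectiveMorphism.exists_lift hη hf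
    obtain ⟨g, hg, hgf, hgK⟩ := (isCentral_iff.mp hK).2 _ f₀ hf₀
    obtain ⟨g'', hg'', hgg⟩ := IsMorphism.exists_map hη.1 hg
    have hkρ : ∀ w ∈ kerIn ρ, ∃ x ∈ kerIn θ, th η x = w := fun w hw => by
      obtain ⟨hwS, hw1⟩ := mem_kerIn.mp hw
      obtain ⟨x, hx, rfl⟩ := hpre hwS
      exact ⟨x, mem_kerIn.mpr ⟨hx, by rw [← hρ x hx, hw1]⟩, rfl⟩
    have hle : P ⊔ kerIn ρ ≤ imageAlong η (preimageAlong η P ⊔ kerIn θ) := by
      refine sup_le (fun w hw => ?_) fun w hw => ?_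
      · obtain ⟨x, hx, rfl⟩ := exists_preimage hPr hw
        exact th_mem_imageAlong hg.le (Subgroup.mem_sup_left hx)
      · obtain ⟨x, hx, rfl⟩ := hkρ w hw
        exact th_mem_imageAlong hg.le (Subgroup.mem_sup_right hx)
    refine ⟨g'', hg''.restrict hle, fun w hw => ?_, fun w hw => ?_⟩
    · obtain ⟨x, hx, rfl⟩ := exists_preimage hPr hw
      rw [hgg x (Subgroup.mem_sup_left hx), hgf x hx, hff₀ x hx]
    · obtain ⟨x, hx, rfl⟩ := hkρ w hw
      rw [hgg x (Subgroup.mem_sup_right hx), hgK x hx]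
  · ext x
    rw [mem_preimageAlong]
    constructor
    · rintro ⟨hx, hx'⟩
      exact mem_kerIn.mpr ⟨hx, by rw [← hρ x hx]; exact (mem_kerIn.mp hx').2⟩
    · intro hx
      obtain ⟨hxS, hx1⟩ := mem_kerIn.mp hx
      exact ⟨hxS, mem_kerIn.mpr ⟨hmemS hxS, by rw [hρ x hxS, hx1]⟩⟩

theorem exists_lift_aux [Fact p.Prime] : ∀ (k : ℕ) (Ω : Type u) [Group Ω] (S : Subgroup Ω)
    [Finite S] (F : FusionSystem S) (θ : S →* Ω'), IsPGroup p S → F.IsSaturated p →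
    F.IsSurjectiveMorphism F' θ → F.IsCentral (kerIn θ) → Nat.card (kerIn θ) = k →
    E'.IsNormalIn F' p → ∃ (T : Subgroup Ω) (E : FusionSystem T),
      T = preimageAlong θ T' ∧ E.IsNormalIn F p ∧ ∀ P f, MapTo E P f → LMap F θ E' P f := by
  intro k
  induction k using Nat.strong_induction_on with
  | h k ih =>
  intro Ω _ S _ F θ hS hF hθ hK hk hE
  have hp : p.Prime := Fact.out
  haveI : Finite (kerIn θ) := finite_of_le kerIn_le
  by_cases hbot : kerIn θ = ⊥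
  · have C : Ctx F F' θ E' p (fun _ => 0) := ⟨hS, hF, hθ, hK, hE, fun _ _ _ _ => (add_zero 0).symm,
      fun x hx _ => by rwa [hbot, Subgroup.mem_bot] at hx⟩
    obtain ⟨E, hE1, hE2⟩ := exists_lift_normal C
    exact ⟨_, E, rfl, hE1, hE2⟩
  obtain ⟨e, he⟩ := (hS.to_le (kerIn_le (θ := θ))).exists_card_eq
  have hdvd : p ∣ Nat.card (kerIn θ) := by
    rw [he]
    refine dvd_pow_self p fun h0 => hbot ((Subgroup.eq_bot_iff_card _).mpr ?_)
    rw [he, h0, pow_zero]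
  obtain ⟨⟨z, hz⟩, hzo⟩ := exists_prime_orderOf_dvd_card' p hdvd
  rw [Subgroup.orderOf_mk] at hzo
  set Z := Subgroup.zpowers z with hZd
  have hZK : Z ≤ kerIn θ := Subgroup.zpowers_le.mpr hz
  have hZc : F.IsCentral Z := isCentral_mono hK hZK
  obtain ⟨Ω'', _, S'', η, F'', hη, hηk, hF'', hfin, hS''p, -⟩ :=
    exists_quotient hS hF (IsNormal.stronglyClosed (IsCentral.isNormal hZc))
  haveI := hfin
  obtain ⟨ρ, hρ, hρc, hρk, hρx⟩ := exists_factor_morphism hη hθ (hηk.le.trans hZK) hK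
  have hlt : Nat.card (kerIn ρ) < k := by
    have h1 := card_preimageAlong hη (kerIn_le (θ := ρ))
    rw [hρk, hk, hηk, Nat.card_zpowers, hzo] at h1
    rw [h1]
    haveI : Finite (kerIn ρ) := finite_of_le kerIn_le
    exact lt_mul_of_one_lt_left Nat.card_pos hp.one_lt
  obtain ⟨T'', E'', hT'', hE'', hmap⟩ := ih _ hlt Ω'' S'' F'' ρ hS''p hF'' hρ hρc rfl hE
  obtain ⟨ι, hι1, hι2⟩ := exists_index_fun hzo
  have C : Ctx F F'' η E'' p ι := ⟨hS, hF, hη, hηk ▸ hZc, hE'', fun x hx y hy =>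
    hι1 x (hηk.le hx) y (hηk.le hy), fun x hx h0 => hι2 x (hηk.le hx) h0⟩
  obtain ⟨E, hE1, hE2⟩ := exists_lift_normal C
  have hTT : preimageAlong η T'' = preimageAlong θ T' := by
    subst hT''
    ext x
    simp only [mem_preimageAlong]
    constructor
    · rintro ⟨hx, -, h⟩
      exact ⟨hx, hρx x hx ▸ h⟩
    · rintro ⟨hx, h⟩
      exact ⟨hx, th_apply η hx ▸ hη.1.1 ⟨x, hx⟩, (hρx x hx).symm ▸ h⟩
  refine ⟨_, E, hTT, hE1, fun P f hf => ?_⟩
  obtain ⟨hfF, hPT, g, hg, hgg⟩ := hE2 P f hf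
  obtain ⟨-, -, g', hg', hgg'⟩ := hmap _ g hg
  have hPS : P ≤ S := hfF.le
  have hS'' : imageAlong η P ≤ S'' := fun y hy => by
    obtain ⟨x, hx, rfl⟩ := (mem_imageAlong hPS).mp hy
    exact th_apply η (hPS hx) ▸ hη.1.1 _
  have he' : imageAlong ρ (imageAlong η P) = imageAlong θ P := by
    ext y
    rw [mem_imageAlong hS'', mem_imageAlong hPS]
    constructor
    · rintro ⟨w, hw, rfl⟩
      obtain ⟨x, hx, rfl⟩ := (mem_imageAlong hPS).mp hw
      exact ⟨x, hx, (hρx x (hPS hx)).symm⟩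
    · rintro ⟨x, hx, rfl⟩
      exact ⟨th η x, th_mem_imageAlong hPS hx, hρx x (hPS hx)⟩
  refine ⟨hfF, fun x hx => hTT.le (hPT hx), g', he' ▸ hg', fun x hx => ?_⟩
  rw [← hρx x (hPS hx), hgg' _ (th_mem_imageAlong hPS hx), hgg x hx, hρx _ (hfF.mem hx)]

/-- Normal subsystems lift through central extensions. -/
theorem exists_lift_central [Finite S] [Fact p.Prime] (hS : IsPGroup p S) (hF : F.IsSaturated p)
    (hθ : F.IsSurjectiveMorphism F' θ) (hK : F.IsCentral (kerIn θ)) (hE : E'.IsNormalIn F' p) :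
    ∃ (T : Subgroup Ω) (E : FusionSystem T), T = preimageAlong θ T' ∧ E.IsNormalIn F p ∧
      ∀ P f, MapTo E P f → LMap F θ E' P f :=
  exists_lift_aux _ Ω S F θ hS hF hθ hK rfl hE

end Cfsg.Agent.Fusion.CentralLift
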