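import Cfsg.Agent.Lib.Fusion.CentralLift.Diff
import Mathlib.Algebra.BigOperators.Group.Finset.Basic
import Mathlib.Data.Set.Finite.Basic

/-!
Families of lifts and their difference.
-/

set_option autoImplicit false

namespace Cfsg.Agent.Fusion.CentralLift

open Cfsg.FusionSystem (centralizerIn normalizerIn imageAlong preimageAlong)

universe u v

variable {Ω : Type u} [Group Ω] {S : Subgroup Ω} {Ω' : Type v} [Group Ω'] {S' T' : Subgroup Ω'}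
variable {F : FusionSystem S} {F' : FusionSystem S'} {θ : S →* Ω'} {E' : FusionSystem T'}
  {p : ℕ} {ι : Ω → ZMod p} {P Q R M : Subgroup Ω} {f f₂ g g₁ g₂ h h₂ : Ω → Ω}
  {o : Set (Ω → Ω)} {σ σ₁ σ₂ σ₃ : Set (Ω → Ω) → (Ω → Ω)}

open Classical in
/-- Pullback of classes along a map, through a representative. -/
noncomputable def pbk (θ : S →* Ω') (ι : Ω → ZMod p) (P Q : Subgroup Ω) (h : Ω → Ω)
    (a : Hq θ ι Q) : Hq θ ι P :=
  cls θ ι P fun x => (Quotient.out a : Ω → ZMod p) (h x)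

theorem cls_out (a : Hq θ ι Q) : cls θ ι Q (Quotient.out a) = a := Quotient.out_eq a

theorem pbk_cls (C : Ctx F F' θ E' p ι) (hh : MapTo F P h) (hQ : img h P = Q)
    (hZP : kerIn θ ≤ P) (hQS : Q ≤ S) (v : Ω → ZMod p) :
    pbk θ ι P Q h (cls θ ι Q v) = cls θ ι P fun x => v (h x) :=
  cls_comp C hh hQ hZP hQS (cls_out _)

theorem pbk_add (C : Ctx F F' θ E' p ι) (hh : MapTo F P h) (hQ : img h P = Q)
    (hZP : kerIn θ ≤ P) (hQS : Q ≤ S) (a b : Hq θ ι Q) :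
    pbk θ ι P Q h (a + b) = pbk θ ι P Q h a + pbk θ ι P Q h b := by
  rw [← cls_out a, ← cls_out b, ← map_add, pbk_cls C hh hQ hZP hQS, pbk_cls C hh hQ hZP hQS,
    pbk_cls C hh hQ hZP hQS, ← map_add]
  rfl

theorem pbk_zero (C : Ctx F F' θ E' p ι) (hh : MapTo F P h) (hQ : img h P = Q)
    (hZP : kerIn θ ≤ P) (hQS : Q ≤ S) : pbk θ ι P Q h (0 : Hq θ ι Q) = 0 := by
  rw [← map_zero (cls θ ι Q), pbk_cls C hh hQ hZP hQS]
  exact (cls_congr C hh.le (w := 0) fun _ _ => rfl).trans (map_zero _)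

theorem res_cls (C : Ctx F F' θ E' p ι) (hP : CP θ E' P) (hPR : P ≤ R) (hR : R ≤ TT θ T')
    (v : Ω → ZMod p) : pbk θ ι P R (fun x => x) (cls θ ι R v) = cls θ ι P v :=
  cls_restrict C hP hPR hR (cls_out _)

theorem res_add (C : Ctx F F' θ E' p ι) (hP : CP θ E' P) (hPR : P ≤ R) (hR : R ≤ TT θ T')
    (a b : Hq θ ι R) : pbk θ ι P R (fun x => x) (a + b) =
      pbk θ ι P R (fun x => x) a + pbk θ ι P R (fun x => x) b := by
  rw [← cls_out a, ← cls_out b, ← map_add, res_cls C hP hPR hR, res_cls C hP hPR hR,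
    res_cls C hP hPR hR, ← map_add]

theorem res_zero (C : Ctx F F' θ E' p ι) (hP : CP θ E' P) (hPR : P ≤ R) (hR : R ≤ TT θ T') :
    pbk θ ι P R (fun x => x) (0 : Hq θ ι R) = 0 := by
  rw [← map_zero (cls θ ι R), res_cls C hP hPR hR, map_zero]

theorem real_pbk (C : Ctx F F' θ E' p ι) (hh : MapTo F P h) (hQ : img h P = Q)
    (hZP : kerIn θ ≤ P) (hQS : Q ≤ S) (hZQ : kerIn θ ≤ Q) {a : Hq θ ι Q}
    (ha : Real F θ ι Q a) : Real F θ ι P (pbk θ ι P Q h a) := by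
  obtain ⟨k, hk, hkz, rfl⟩ := ha
  obtain ⟨l, hl, hlh, -, -⟩ := hh.exists_iso_inverse
  rw [hQ] at hl
  have hkQ : ∀ y ∈ Q, k y ∈ Q := fun y hy => by
    rw [show k y = y * (y⁻¹ * k y) by group]; exact Q.mul_mem hy (hZQ (hkz y hy))
  have hhQ : ∀ x ∈ P, h x ∈ Q := fun x hx => hQ ▸ mem_img_of_mem hx
  have key : ∀ x ∈ P, x⁻¹ * l (k (h x)) = (h x)⁻¹ * k (h x) := fun x hx => by
    have hz := hkz _ (hhQ x hx)
    conv_lhs => rw [show k (h x) = h x * ((h x)⁻¹ * k (h x)) by group,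
      hl.map_mul (hhQ x hx) (hZQ hz), hlh x hx, C.fix hl hz (hZQ hz), inv_mul_cancel_left]
  refine ⟨fun x => l (k (h x)), (hh.comp hk hhQ).comp hl fun x hx => hkQ _ (hhQ x hx),
    fun x hx => by rw [key x hx]; exact hkz _ (hhQ x hx), ?_⟩
  rw [pbk_cls C hh hQ hZP hQS]
  exact cls_congr C hh.le fun x hx => congrArg ι (key x hx).symm

theorem real_res (C : Ctx F F' θ E' p ι) (hP : CP θ E' P) (hPR : P ≤ R) (hR : R ≤ TT θ T')
    {a : Hq θ ι R} (ha : Real F θ ι R a) : Real F θ ι P (pbk θ ι P R (fun x => x) a) := by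
  obtain ⟨k, hk, hkz, rfl⟩ := ha
  exact ⟨k, hk.restrict hPR, fun x hx => hkz x (hPR hx), res_cls C hP hPR hR _⟩

/-- The class of a lift. -/
def ocl (F : FusionSystem S) (θ : S →* Ω') (E' : FusionSystem T') (P : Subgroup Ω) (g : Ω → Ω) :
    Set (Ω → Ω) :=
  {g' | LMap F θ E' P g' ∧ SameCls θ T' P g g'}

/-- The classes of lifts on `P`. -/
def Cls (F : FusionSystem S) (θ : S →* Ω') (E' : FusionSystem T') (P : Subgroup Ω) :
    Set (Set (Ω → Ω)) :=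
  {o | ∃ g, LMap F θ E' P g ∧ o = ocl F θ E' P g}

theorem finite_cls [Finite S] (F : FusionSystem S) (θ : S →* Ω') (E' : FusionSystem T')
    (P : Subgroup Ω) : (Cls F θ E' P).Finite := by
  rcases isEmpty_or_nonempty {g // LMap F θ E' P g} with he | ⟨⟨g₀, hg₀⟩⟩
  · convert Set.finite_empty
    exact Set.eq_empty_of_forall_notMem fun o ⟨g, hg, _⟩ => he.false ⟨g, hg⟩
  haveI : Finite P := finite_of_le hg₀.1.le
  have hfin : (F.Hom P).Finite := by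
    haveI : Finite (F.Hom P) := Finite.of_injective
      (fun φ : F.Hom P => fun x : P => (⟨(φ : P →* Ω) x, (F.le_of_mem φ.2).2 x⟩ : S))
      fun φ ψ hφψ => Subtype.ext (MonoidHom.ext fun x =>
        congrArg Subtype.val (congrFun hφψ x))
    exact Set.toFinite _
  refine (hfin.image fun φ => ocl F θ E' P (ev φ)).subset ?_
  rintro _ ⟨g, hg, rfl⟩
  obtain ⟨φ, hφ, hφg⟩ := id hg.1
  refine ⟨φ, hφ, Set.ext fun g' => and_congr_right fun _ => ?_⟩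
  have e : ∀ x ∈ P, ev φ x = g x := fun x hx => by rw [ev_apply φ hx, hφg ⟨x, hx⟩]
  constructor
  · rintro ⟨t, ht, htx⟩
    exact ⟨t, ht, fun x hx => by rw [← e x hx]; exact htx x hx⟩
  · rintro ⟨t, ht, htx⟩
    exact ⟨t, ht, fun x hx => by rw [e x hx]; exact htx x hx⟩

/-- The classes as a finite set. -/
noncomputable def clsF [Finite S] (F : FusionSystem S) (θ : S →* Ω') (E' : FusionSystem T')
    (P : Subgroup Ω) : Finset (Set (Ω → Ω)) :=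
  (finite_cls F θ E' P).toFinset

theorem mem_clsF [Finite S] : o ∈ clsF F θ E' P ↔ o ∈ Cls F θ E' P :=
  Set.Finite.mem_toFinset _

theorem mem_ocl_self (hg : LMap F θ E' P g) : g ∈ ocl F θ E' P g :=
  ⟨hg, SameCls.refl fun _ _ => rfl⟩

theorem ocl_eq_of_sameCls (C : Ctx F F' θ E' p ι) (h : SameCls θ T' P g g₁) :
    ocl F θ E' P g = ocl F θ E' P g₁ :=
  Set.ext fun _ => and_congr_right fun _ => ⟨fun h' => (h.symm C).trans C h', fun h' => h.trans C h'⟩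

theorem eq_ocl_of_mem (C : Ctx F F' θ E' p ι) (ho : o ∈ Cls F θ E' P) (hg : g ∈ o) :
    o = ocl F θ E' P g := by
  obtain ⟨g₀, -, rfl⟩ := ho
  exact ocl_eq_of_sameCls C hg.2

theorem lmap_of_mem (ho : o ∈ Cls F θ E' P) (hg : g ∈ o) : LMap F θ E' P g := by
  obtain ⟨g₀, -, rfl⟩ := ho
  exact hg.1

theorem sameCls_of_mem (C : Ctx F F' θ E' p ι) (ho : o ∈ Cls F θ E' P) (hg : g ∈ o)
    (hg' : g₁ ∈ o) : SameCls θ T' P g g₁ := by
  obtain ⟨g₀, -, rfl⟩ := ho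
  exact (hg.2.symm C).trans C hg'.2

/-- A choice of a lift in every class. -/
def IsSec (F : FusionSystem S) (θ : S →* Ω') (E' : FusionSystem T') (P : Subgroup Ω)
    (σ : Set (Ω → Ω) → (Ω → Ω)) : Prop :=
  ∀ o ∈ Cls F θ E' P, σ o ∈ o

/-- The total difference of two families. -/
noncomputable def DD [Finite S] (F : FusionSystem S) (θ : S →* Ω') (E' : FusionSystem T')
    (ι : Ω → ZMod p) (P : Subgroup Ω) (σ σ' : Set (Ω → Ω) → (Ω → Ω)) : Hq θ ι P :=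
  ∑ o ∈ clsF F θ E' P, dd θ T' ι P (σ o) (σ' o)

theorem DD_trans [Finite S] (C : Ctx F F' θ E' p ι) (hP : CP θ E' P) (h₁ : IsSec F θ E' P σ₁)
    (h₂ : IsSec F θ E' P σ₂) (h₃ : IsSec F θ E' P σ₃) :
    DD F θ E' ι P σ₁ σ₃ = DD F θ E' ι P σ₁ σ₂ + DD F θ E' ι P σ₂ σ₃ := by
  rw [DD, DD, DD, ← Finset.sum_add_distrib]
  refine Finset.sum_congr rfl fun o ho => ?_
  rw [mem_clsF] at ho
  exact dd_trans C hP (lmap_of_mem ho (h₁ o ho)) (lmap_of_mem ho (h₂ o ho))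
    (sameCls_of_mem C ho (h₁ o ho) (h₂ o ho)) (sameCls_of_mem C ho (h₂ o ho) (h₃ o ho))

theorem DD_self [Finite S] (C : Ctx F F' θ E' p ι) (hP : CP θ E' P) (h₁ : IsSec F θ E' P σ₁)
    (h : ∀ o ∈ Cls F θ E' P, ∀ x ∈ P, σ₂ o x = σ₁ o x) : DD F θ E' ι P σ₁ σ₂ = 0 := by
  refine Finset.sum_eq_zero fun o ho => ?_
  rw [mem_clsF] at ho
  exact dd_self C hP (lmap_of_mem ho (h₁ o ho)) (h o ho)

theorem DD_symm [Finite S] (C : Ctx F F' θ E' p ι) (hP : CP θ E' P) (h₁ : IsSec F θ E' P σ₁)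
    (h₂ : IsSec F θ E' P σ₂) : DD F θ E' ι P σ₂ σ₁ = - DD F θ E' ι P σ₁ σ₂ := by
  have h := DD_trans C hP h₁ h₂ h₁
  rw [DD_self C hP h₁ fun _ _ _ _ => rfl] at h
  exact eq_neg_of_add_eq_zero_right h.symm

theorem real_DD [Finite S] (C : Ctx F F' θ E' p ι) (hP : CP θ E' P) (h₁ : IsSec F θ E' P σ₁)
    (h₂ : IsSec F θ E' P σ₂) : Real F θ ι P (DD F θ E' ι P σ₁ σ₂) := by
  refine Finset.sum_induction _ (Real F θ ι P) (fun a b => real_add C hP.1)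
    (real_zero C hP.le_S) fun o ho => ?_
  rw [mem_clsF] at ho
  exact real_dd C hP (lmap_of_mem ho (h₁ o ho)) (lmap_of_mem ho (h₂ o ho))
    (sameCls_of_mem C ho (h₁ o ho) (h₂ o ho))

/-- Transport of a class along a twist. -/
def push (F : FusionSystem S) (θ : S →* Ω') (E' : FusionSystem T') (Q : Subgroup Ω)
    (h f : Ω → Ω) (o : Set (Ω → Ω)) : Set (Ω → Ω) :=
  {g | LMap F θ E' Q g ∧ (fun x => f (g (h x))) ∈ o}

/-- Transport of a family along a twist. -/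
def pull (F : FusionSystem S) (θ : S →* Ω') (E' : FusionSystem T') (Q : Subgroup Ω)
    (h f : Ω → Ω) (σ : Set (Ω → Ω) → (Ω → Ω)) (o : Set (Ω → Ω)) : Ω → Ω :=
  fun x => f (σ (push F θ E' Q h f o) (h x))

theorem push_ocl [Finite S] (C : Ctx F F' θ E' p ι) (tw : Tw F θ E' P Q h f)
    (hg : LMap F θ E' Q g) :
    push F θ E' Q h f (ocl F θ E' P fun x => f (g (h x))) = ocl F θ E' Q g := by
  ext g₁
  refine and_congr_right fun hg₁ => ?_
  rw [← tw.sameCls_iff C hg hg₁]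
  exact ⟨fun h => h.2, fun h => ⟨tw.fwd _ hg₁, h⟩⟩

theorem exists_push [Finite S] (C : Ctx F F' θ E' p ι) (tw : Tw F θ E' P Q h f)
    (ho : o ∈ Cls F θ E' P) :
    ∃ g, LMap F θ E' Q g ∧ o = (ocl F θ E' P fun x => f (g (h x))) ∧
      push F θ E' Q h f o = ocl F θ E' Q g := by
  obtain ⟨g₀, hg₀, rfl⟩ := ho
  obtain ⟨g, hg, hgx⟩ := tw.bwd g₀ hg₀
  have e : ocl F θ E' P g₀ = ocl F θ E' P fun x => f (g (h x)) :=
    ocl_eq_of_sameCls C (SameCls.refl fun x hx => (hgx x hx).symm)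
  exact ⟨g, hg, e, by rw [e]; exact push_ocl C tw hg⟩

theorem push_mem [Finite S] (C : Ctx F F' θ E' p ι) (tw : Tw F θ E' P Q h f)
    (ho : o ∈ Cls F θ E' P) : push F θ E' Q h f o ∈ Cls F θ E' Q := by
  obtain ⟨g, hg, -, he⟩ := exists_push C tw ho
  exact ⟨g, hg, he⟩

theorem push_injOn [Finite S] (C : Ctx F F' θ E' p ι) (tw : Tw F θ E' P Q h f) :
    Set.InjOn (push F θ E' Q h f) (Cls F θ E' P) := by
  intro o₁ h₁ o₂ h₂ he
  obtain ⟨g₁, hg₁, e₁, p₁⟩ := exists_push C tw h₁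
  obtain ⟨g₂, hg₂, e₂, p₂⟩ := exists_push C tw h₂
  rw [p₁, p₂] at he
  have hs : SameCls θ T' Q g₁ g₂ := ((Set.ext_iff.mp he g₂).mpr (mem_ocl_self hg₂)).2
  rw [e₁, e₂]
  exact ocl_eq_of_sameCls C ((tw.sameCls_iff C hg₁ hg₂).mpr hs)

theorem push_surjOn [Finite S] (C : Ctx F F' θ E' p ι) (tw : Tw F θ E' P Q h f)
    {o' : Set (Ω → Ω)} (ho : o' ∈ Cls F θ E' Q) :
    ∃ o ∈ Cls F θ E' P, push F θ E' Q h f o = o' := by
  obtain ⟨g, hg, rfl⟩ := ho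
  exact ⟨_, ⟨_, tw.fwd g hg, rfl⟩, push_ocl C tw hg⟩

theorem isSec_pull [Finite S] (C : Ctx F F' θ E' p ι) (tw : Tw F θ E' P Q h f)
    (hσ : IsSec F θ E' Q σ) : IsSec F θ E' P (pull F θ E' Q h f σ) :=
  fun _ ho => (hσ _ (push_mem C tw ho)).2

theorem DD_pull [Finite S] (C : Ctx F F' θ E' p ι) (tw : Tw F θ E' P Q h f) (hP : CP θ E' P)
    (hQ : CP θ E' Q) (h₁ : IsSec F θ E' Q σ₁) (h₂ : IsSec F θ E' Q σ₂) :
    DD F θ E' ι P (pull F θ E' Q h f σ₁) (pull F θ E' Q h f σ₂) =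
      pbk θ ι P Q h (DD F θ E' ι Q σ₁ σ₂) := by
  have hlin : pbk θ ι P Q h (DD F θ E' ι Q σ₁ σ₂) =
      ∑ o ∈ clsF F θ E' Q, pbk θ ι P Q h (dd θ T' ι Q (σ₁ o) (σ₂ o)) :=
    map_sum (AddMonoidHom.mk' (pbk θ ι P Q h) (pbk_add C tw.map_h tw.img_h hP.1 hQ.le_S)) _ _
  rw [hlin]
  refine Finset.sum_bij (fun o _ => push F θ E' Q h f o) (fun o ho => ?_) (fun o₁ h₁ o₂ h₂ he => ?_)
    (fun o' ho' => ?_) fun o ho => ?_
  · rw [mem_clsF] at ho ⊢; exact push_mem C tw ho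
  · rw [mem_clsF] at h₁ h₂; exact push_injOn C tw h₁ h₂ he
  · rw [mem_clsF] at ho'
    obtain ⟨o, ho, he⟩ := push_surjOn C tw ho'
    exact ⟨o, mem_clsF.mpr ho, he⟩
  · rw [mem_clsF] at ho
    have hm := push_mem C tw ho
    rw [← cls_out (dd θ T' ι Q _ _), pbk_cls C tw.map_h tw.img_h hP.1 hQ.le_S]
    exact tw.dd_eq C hP hQ (lmap_of_mem hm (h₁ _ hm)) (lmap_of_mem hm (h₂ _ hm))
      (sameCls_of_mem C hm (h₁ _ hm) (h₂ _ hm)) (cls_out _).symm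

theorem push_push [Finite S] (C : Ctx F F' θ E' p ι) (t₂ : Tw F θ E' Q M h₂ f₂) :
    push F θ E' M h₂ f₂ (push F θ E' Q h f o) =
      push F θ E' M (fun x => h₂ (h x)) (fun x => f (f₂ x)) o :=
  Set.ext fun g => ⟨fun hg => ⟨hg.1, hg.2.2⟩, fun hg => ⟨hg.1, t₂.fwd g hg.1, hg.2⟩⟩

theorem pull_pull [Finite S] (C : Ctx F F' θ E' p ι) (t₂ : Tw F θ E' Q M h₂ f₂) :
    pull F θ E' Q h f (pull F θ E' M h₂ f₂ σ) o =
      pull F θ E' M (fun x => h₂ (h x)) (fun x => f (f₂ x)) σ o := by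
  funext x
  simp only [pull, push_push C t₂]

end Cfsg.Agent.Fusion.CentralLift
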